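import Cfsg.Agent.SFT.Endgame

/-!
The solvable signalizer functor theorem: every solvable signalizer functor of rank at least three
is complete.
-/

set_option autoImplicit false
set_option linter.unusedSectionVars false
set_option linter.style.haveILetI false
set_option linter.deprecated false

namespace CfsgLib.SFT

open Subgroup Pointwise CfsgLib.SZ

universe u

variable {G : Type u} [Group G] [Finite G] {p : ℕ} [Fact p.Prime]

/-- Completeness in all smaller groups makes a functor complete whose values normalize a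
nontrivial member. -/
theorem complete_of_normalizes
    (IH : ∀ (H : Type u) [Group H] [Finite H], Nat.card H < Nat.card G →
      ∀ (A : Subgroup H) (θ : H → Subgroup H), Cfsg.IsElementaryAbelian p A →
        p ^ 3 ≤ Nat.card A → Cfsg.IsSolvableSignalizerFunctor p A θ → Complete p A θ)
    {A : Subgroup G} {θ : G → Subgroup G} (hA : Cfsg.IsElementaryAbelian p A)
    (h3 : p ^ 3 ≤ Nat.card A) (hθ : Cfsg.IsSolvableSignalizerFunctor p A θ) {X : Subgroup G}
    (hX : Mem p A θ X) (hX1 : X ≠ ⊥) (hn : ∀ a ∈ A, a ≠ 1 → θ a ≤ normalizer (X : Set G)) :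
    Complete p A θ := by
  set N := normalizer (X : Set G) with hN
  haveI : (X.subgroupOf N).Normal := normal_in_normalizer
  set π := QuotientGroup.mk' (X.subgroupOf N)
  have hker : ∀ y : N, π y = 1 ↔ (y : G) ∈ X := fun y => by
    rw [QuotientGroup.mk'_apply, QuotientGroup.eq_one_iff, mem_subgroupOf]
  have hAN : A ≤ N := CfsgLib.Signalizer.family_le_normalizer hX
  have hAX : A ⊓ X = ⊥ := inf_eq_bot_of_coprime (CfsgLib.Signalizer.coprime_card hA hX.2.1)
  set Ab := (A.subgroupOf N).map π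
  have hinj : ∀ y : N, (y : G) ∈ A → π y = 1 → (y : G) = 1 := fun y hy h1 =>
    (eq_bot_iff_forall _).1 hAX _ ⟨hy, (hker y).1 h1⟩
  have hAb : Cfsg.IsElementaryAbelian p Ab := by
    refine ⟨⟨⟨?_⟩⟩, ?_⟩
    · rintro ⟨_, x, hx, rfl⟩ ⟨_, y, hy, rfl⟩
      refine Subtype.ext (show π x * π y = π y * π x from ?_)
      rw [← map_mul, ← map_mul]
      exact congrArg π (Subtype.ext (CfsgLib.Signalizer.commute hA hx hy))
    · rintro _ ⟨x, hx, rfl⟩
      rw [← map_pow, show x ^ p = 1 from Subtype.ext (by simpa using hA.2 x hx), map_one]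
  have h3b : p ^ 3 ≤ Nat.card Ab := by
    set f := π.comp (A.subgroupOf N).subtype
    have hi : Function.Injective f := by
      rw [injective_iff_map_eq_one]
      exact fun y hy => Subtype.ext (Subtype.ext (hinj y y.2 hy))
    have h1 : Nat.card Ab = Nat.card (A.subgroupOf N) := by
      rw [show Ab = f.range by rw [MonoidHom.range_comp, Subgroup.range_subtype]]
      exact (Nat.card_congr (MonoidHom.ofInjective hi).toEquiv).symm
    rw [h1, Nat.card_congr (subgroupOfEquivOfLe hAN).toEquiv]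
    exact h3
  let θb : N ⧸ X.subgroupOf N → Subgroup (N ⧸ X.subgroupOf N) := fun q =>
    ⨆ a : {a : N // (a : G) ∈ A ∧ π a = q}, ((θ (a : N)).subgroupOf N).map π
  have hθb : ∀ a : N, (a : G) ∈ A → θb (π a) = ((θ a).subgroupOf N).map π := by
    intro a ha
    refine le_antisymm (iSup_le fun b => ?_)
      (le_iSup_of_le (f := fun b : {b : N // (b : G) ∈ A ∧ π b = π a} =>
        ((θ (b : N)).subgroupOf N).map π) ⟨a, ha, rfl⟩ le_rfl)
    have : ((b : N) : G) = a := by
      have h1 := hinj ((b : N) * a⁻¹) (A.mul_mem b.2.1 (A.inv_mem ha))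
        (by rw [map_mul, b.2.2, map_inv, mul_inv_cancel])
      exact mul_inv_eq_one.1 (by simpa using h1)
    rw [this]
  have hne : ∀ {a : N}, π a ≠ 1 → (a : G) ≠ 1 := fun h e => h (by
    rw [show (_ : N) = 1 from Subtype.ext e, map_one])
  have hcop : ∀ a ∈ A, a ≠ 1 → ¬ p ∣ Nat.card ↥(((θ a).subgroupOf N).map π) :=
    fun a ha ha1 hd => hθ.1.2.1 a ha ha1 (hd.trans ((card_map_dvd _ π).trans
      (by rw [Nat.card_congr (subgroupOfEquivOfLe (hn a ha ha1)).toEquiv])))
  have hfun : Cfsg.IsSolvableSignalizerFunctor p Ab θb := by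
    refine ⟨⟨?_, ?_, ?_, ?_⟩, ?_⟩
    · rintro _ ⟨a, ha, rfl⟩ ha1
      rw [hθb a ha]
      rintro _ ⟨x, hx, rfl⟩
      refine mem_centralizer_singleton_iff.2 ?_
      rw [← map_mul, ← map_mul]
      exact congrArg π (Subtype.ext (mem_centralizer_singleton_iff.1
        (hθ.1.1 a ha (hne ha1) (mem_subgroupOf.1 hx))))
    · rintro _ ⟨a, ha, rfl⟩ ha1
      rw [hθb a ha]
      exact hcop a ha (hne ha1)
    · rintro _ ⟨a, ha, rfl⟩ ha1 _ ⟨b, hb, rfl⟩ y hy
      rw [hθb a ha] at hy ⊢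
      obtain ⟨x, hx, rfl⟩ := hy
      have hxθ : (x : G) ∈ θ a := hx
      have h1 := hθ.1.2.2.1 a ha (hne ha1) b hb x hxθ
      exact ⟨b * x * b⁻¹, h1, by rw [map_mul, map_mul, map_inv]⟩
    · rintro _ ⟨a, ha, rfl⟩ ha1 _ ⟨b, hb, rfl⟩ hb1 y ⟨hy, hyb⟩
      rw [hθb a ha] at hy
      rw [hθb b hb]
      obtain ⟨x, hx, rfl⟩ := hy
      have hxθ : (x : G) ∈ θ a := hx
      have hBn : zpowers (b : G) ≤ normalizer (θ a : Set G) := zpowers_le.2
        (CfsgLib.Signalizer.le_normalizer_of_conj_mem (hθ.1.2.2.1 a ha (hne ha1)) hb)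
      have hcm : ∀ i : ℤ, π x * π b ^ i = π b ^ i * π x := fun i =>
        ((show Commute (π x) (π b) from mem_centralizer_singleton_iff.1 hyb).zpow_right i).eq
      obtain ⟨c, hc, hcx⟩ := CfsgLib.CoprimeAct.exists_centralizing_mem_coset (N := X ⊓ θ a) hBn
        ((CfsgLib.Signalizer.coprime_card hA (hθ.1.2.1 a ha (hne ha1))).coprime_dvd_left
          (card_dvd_of_le (zpowers_le.2 hb))) inf_le_right
        (le_normalizer_inf (zpowers_le.2 b.2) hBn)
        (Or.inr (isSolvable_of_le inf_le_left hX.1)) hxθ (fun g hg => by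
          obtain ⟨i, rfl⟩ := mem_zpowers_iff.1 hg
          refine ⟨?_, (θ a).mul_mem ((θ a).inv_mem hxθ)
            ((mem_normalizer_iff.1 (hBn (zpow_mem (mem_zpowers _) i)) _).1 hxθ)⟩
          have h1 : π (x⁻¹ * (b ^ i * x * (b ^ i)⁻¹)) = 1 := by
            rw [map_mul, map_mul, map_mul, map_inv, map_inv, map_zpow, ← hcm i]; group
          simpa using (hker _).1 h1)
      have hbc : c * (b : G) = b * c :=
        (mem_centralizer_iff.1 hc.2 (b : G) (mem_zpowers _)).symm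
      have hcθ : c ∈ θ (b : N) :=
        hθ.1.2.2.2 a ha (hne ha1) b hb (hne hb1) ⟨hc.1, mem_centralizer_singleton_iff.2 hbc⟩
      refine ⟨⟨c, hn a ha (hne ha1) hc.1⟩, hcθ, ?_⟩
      exact (QuotientGroup.eq.2 (mem_subgroupOf.2 (by simpa using hcx.1))).symm
    · rintro _ ⟨a, ha, rfl⟩ ha1
      rw [hθb a ha]
      haveI := hθ.2 a ha (hne ha1)
      haveI : Group.IsSolvable ((θ (a : N)).subgroupOf N) :=
        Group.isSolvable_of_isSolvable_injective
          (f := (subgroupOfEquivOfLe (hn a ha (hne ha1))).toMonoidHom) (MulEquiv.injective _)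
      exact Group.isSolvable_of_surjective (π.subgroupMap_surjective _)
  have hlt : Nat.card (N ⧸ X.subgroupOf N) < Nat.card G := by
    have hXn : X ≤ N := le_normalizer
    have h1 := (X.subgroupOf N).index_mul_card
    rw [index_eq_card, Nat.card_congr (subgroupOfEquivOfLe hXn).toEquiv] at h1
    refine lt_of_lt_of_le ?_ (Nat.le_of_dvd Nat.card_pos (card_subgroup_dvd_card N))
    rw [← h1]
    exact lt_mul_of_one_lt_right Nat.card_pos ((one_lt_card_iff_ne_bot X).2 hX1)
  obtain ⟨Xb, hXb, hle⟩ := IH _ hlt Ab θb hAb h3b hfun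
  set W := (Xb.comap π).map N.subtype
  refine ⟨W, ⟨?_, ?_, ?_, ?_⟩, fun a ha ha1 x hx => ?_⟩
  · haveI := hX.1
    haveI := hXb.1
    haveI : Group.IsSolvable (X.subgroupOf N) :=
      Group.isSolvable_of_isSolvable_injective
        (f := (subgroupOfEquivOfLe (le_normalizer : X ≤ N)).toMonoidHom) (MulEquiv.injective _)
    haveI : Group.IsSolvable (Xb.comap π) := by
      set f : Xb.comap π →* Xb := (π.comp (Xb.comap π).subtype).codRestrict Xb fun y => y.2
      haveI : Group.IsSolvable f.ker := by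
        have hk : ∀ y : f.ker, ((y : Xb.comap π) : N) ∈ X.subgroupOf N := fun y =>
          mem_subgroupOf.2 ((hker _).1 (congrArg Subtype.val y.2))
        refine Group.isSolvable_of_isSolvable_injective
          (f := (((Xb.comap π).subtype.comp f.ker.subtype).codRestrict _ hk)) ?_
        intro y z e
        exact Subtype.ext (Subtype.ext (congrArg (fun w : X.subgroupOf N => (w : N)) e))
      exact Group.isSolvable_of_ker_le_range (f.ker.subtype) f (by simp)
    exact Group.isSolvable_of_surjective (N.subtype.subgroupMap_surjective _)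
  · intro hd
    have h1 : Nat.card ↥(Xb.comap π) = Nat.card ↥(X.subgroupOf N) * Nat.card Xb := by
      have e : ((⊥ : Subgroup (N ⧸ X.subgroupOf N)).comap π).relIndex (Xb.comap π) =
          Nat.card Xb := by
        rw [relIndex_comap, map_comap_eq_self_of_surjective (QuotientGroup.mk'_surjective _),
          relIndex_bot_left]
      rw [MonoidHom.comap_bot, QuotientGroup.ker_mk'] at e
      rw [← e, ← relIndex_bot_left, ← relIndex_bot_left, relIndex_mul_relIndex _ _ _ bot_le]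
      intro y hy
      show π y ∈ Xb
      rw [(hker y).2 (mem_subgroupOf.1 hy)]
      exact one_mem _
    rw [card_map_of_injective N.subtype_injective, h1,
      Nat.card_congr (subgroupOfEquivOfLe (le_normalizer : X ≤ N)).toEquiv] at hd
    exact ((Fact.out : p.Prime).dvd_mul.1 hd).elim hX.2.1 hXb.2.1
  · rintro b hb _ ⟨y, hy, rfl⟩
    refine ⟨⟨b, hAN hb⟩ * y * ⟨b, hAN hb⟩⁻¹, ?_, rfl⟩
    show π _ ∈ Xb
    rw [map_mul, map_mul, map_inv]
    exact hXb.2.2.1 _ ⟨⟨b, hAN hb⟩, hb, rfl⟩ _ hy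
  · rintro a ha ha1 _ ⟨⟨y, hy, rfl⟩, hya⟩
    set a' : N := ⟨a, hAN ha⟩
    have h1 : π y ∈ θb (π a') := hXb.2.2.2 (π a') ⟨a', ha, rfl⟩
      (fun e => ha1 (hinj a' ha e)) ⟨hy, mem_centralizer_singleton_iff.2 (by
        rw [← map_mul, ← map_mul]
        exact congrArg π (Subtype.ext (mem_centralizer_singleton_iff.1 hya)))⟩
    rw [hθb a' ha] at h1
    obtain ⟨t, ht, hty⟩ := h1
    have htθ : (t : G) ∈ θ a := ht
    have hX' : ((t⁻¹ * y : N) : G) ∈ X := by
      refine (hker _).1 ?_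
      rw [map_mul, map_inv, hty, inv_mul_cancel]
    have h2 : ((t⁻¹ * y : N) : G) ∈ θ a := hX.2.2.2 a ha ha1
      ⟨hX', (centralizer {a}).mul_mem ((centralizer {a}).inv_mem (hθ.1.1 a ha ha1 htθ)) hya⟩
    have := (θ a).mul_mem htθ h2
    simpa using this
  · refine ⟨⟨x, hn a ha ha1 hx⟩, ?_, rfl⟩
    show π _ ∈ Xb
    have h1 := hle (π ⟨a, hAN ha⟩) ⟨⟨a, hAN ha⟩, ha, rfl⟩ (fun e => ha1 (hinj ⟨a, hAN ha⟩ ha e))
    rw [hθb ⟨a, hAN ha⟩ ha] at h1
    exact h1 ⟨⟨x, hn a ha ha1 hx⟩, hx, rfl⟩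

/-- A functor complete on a subgroup of rank at least three is complete. -/
theorem complete_of_subgroup {A A₀ : Subgroup G} {θ : G → Subgroup G}
    (hA : Cfsg.IsElementaryAbelian p A) (hA₀ : A₀ ≤ A) (h3 : p ^ 3 ≤ Nat.card A₀)
    (hθ : Cfsg.IsSolvableSignalizerFunctor p A θ) (hc : Complete p A₀ θ) : Complete p A θ := by
  obtain ⟨X, hX, hle⟩ := hc
  set W := ⨆ a : {a : G // a ∈ A₀ ∧ a ≠ 1}, θ a
  have hWX : W ≤ X := iSup_le fun a => hle a a.2.1 a.2.2
  have hθW : ∀ a ∈ A₀, a ≠ 1 → θ a ≤ W := fun a ha ha1 =>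
    le_iSup_of_le (f := fun a : {a : G // a ∈ A₀ ∧ a ≠ 1} => θ a) ⟨a, ha, ha1⟩ le_rfl
  have hAW : A ≤ normalizer (W : Set G) := le_normalizer_iSup fun a =>
    CfsgLib.Signalizer.le_normalizer_of_conj_mem (hθ.1.2.2.1 a (hA₀ a.2.1) a.2.2)
  have h2 : p ^ 2 ≤ Nat.card A₀ :=
    (Nat.pow_le_pow_right (Fact.out : p.Prime).pos (by norm_num)).trans h3
  have hWp : ¬ p ∣ Nat.card W := fun hd => hX.2.1 (hd.trans (card_dvd_of_le hWX))
  refine ⟨W, ⟨isSolvable_of_le hWX hX.1, hWp,
    CfsgLib.Signalizer.conj_mem_of_le_normalizer hAW, fun b hb hb1 => ?_⟩, fun b hb hb1 => ?_⟩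
  · refine CfsgLib.Signalizer.le_of_forall_centralizer hA hA₀ h2
      (hA₀.trans (CfsgLib.Signalizer.le_normalizer_inf_centralizer_singleton hA hAW hb))
      (fun hd => hWp (hd.trans (card_dvd_of_le inf_le_left))) fun a ha ha1 x hx => ?_
    exact hθ.1.2.2.2 a (hA₀ ha) ha1 b hb hb1
      ⟨hX.2.2.2 a ha ha1 ⟨hWX hx.1.1, hx.2⟩, hx.1.2⟩
  · refine CfsgLib.Signalizer.le_of_forall_centralizer hA hA₀ h2
      (hA₀.trans (CfsgLib.Signalizer.le_normalizer_of_conj_mem (hθ.1.2.2.1 b hb hb1)))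
      (hθ.1.2.1 b hb hb1) fun a ha ha1 => ?_
    exact (hθ.1.2.2.2 b hb hb1 a (hA₀ ha) ha1).trans (hθW a ha ha1)

theorem complete_card_three
    (IH : ∀ (H : Type u) [Group H] [Finite H], Nat.card H < Nat.card G →
      ∀ (A : Subgroup H) (θ : H → Subgroup H), Cfsg.IsElementaryAbelian p A →
        p ^ 3 ≤ Nat.card A → Cfsg.IsSolvableSignalizerFunctor p A θ → Complete p A θ)
    {A : Subgroup G} (hA : Cfsg.IsElementaryAbelian p A) (h3 : Nat.card A = p ^ 3) :
    ∀ θ : G → Subgroup G, Cfsg.IsSolvableSignalizerFunctor p A θ → Complete p A θ := by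
  haveI := Fintype.ofFinite {a : G // a ∈ A ∧ a ≠ 1}
  suffices ∀ (n : ℕ) (θ : G → Subgroup G),
      (∑ a : {a : G // a ∈ A ∧ a ≠ 1}, Nat.card (θ a)) = n →
      Cfsg.IsSolvableSignalizerFunctor p A θ → Complete p A θ from fun θ => this _ θ rfl
  intro n
  induction n using Nat.strong_induction_on with | _ n ih => ?_
  intro θ hn hθ
  by_contra hc
  refine MinCex.false (p := p) (A := A) (θ := θ)
    ⟨Fact.out, hA, h3, hθ, hc, fun θ' hθ' hle hlt => ?_, fun X hX hX1 => ?_⟩
  · refine ih _ (hn ▸ ?_) θ' rfl hθ'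
    obtain ⟨a, ha, ha1, hnle⟩ := hlt
    refine Finset.sum_lt_sum (fun b _ => Subgroup.card_le_of_le (hle b b.2.1 b.2.2))
      ⟨⟨a, ha, ha1⟩, Finset.mem_univ _,
        CfsgLib.Solvable.card_lt_of_lt (lt_of_le_not_ge (hle a ha ha1) hnle)⟩
  · by_contra hall
    push Not at hall
    exact hc (complete_of_normalizes IH hA h3.ge hθ hX hX1 hall)

/-- Every solvable signalizer functor of rank at least three is complete. -/
theorem complete (A : Subgroup G) (θ : G → Subgroup G) (hA : Cfsg.IsElementaryAbelian p A)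
    (h3 : p ^ 3 ≤ Nat.card A) (hθ : Cfsg.IsSolvableSignalizerFunctor p A θ) :
    Complete p A θ := by
  suffices ∀ (n : ℕ) (H : Type u) [Group H] [Finite H], Nat.card H = n →
      ∀ (A : Subgroup H) (θ : H → Subgroup H), Cfsg.IsElementaryAbelian p A →
        p ^ 3 ≤ Nat.card A → Cfsg.IsSolvableSignalizerFunctor p A θ → Complete p A θ from
    this _ G rfl A θ hA h3 hθ
  intro n
  induction n using Nat.strong_induction_on with | _ n ih => ?_
  intro H _ _ hn A θ hA h3 hθ
  have hdvd : p ^ 3 ∣ Nat.card A := by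
    obtain ⟨k, hk⟩ := IsPGroup.iff_card.1 (CfsgLib.Signalizer.isPGroup hA)
    rw [hk] at h3 ⊢
    exact pow_dvd_pow p ((Nat.pow_le_pow_iff_right (Fact.out : p.Prime).one_lt).1 h3)
  obtain ⟨A₀, hA₀⟩ := Sylow.exists_subgroup_card_pow_prime p hdvd
  set A₁ := A₀.map A.subtype
  have hc : Nat.card A₁ = p ^ 3 := by rw [card_map_of_injective A.subtype_injective, hA₀]
  have hle : A₁ ≤ A := map_subtype_le _
  have hθ₁ : Cfsg.IsSolvableSignalizerFunctor p A₁ θ :=
    ⟨⟨fun a ha => hθ.1.1 a (hle ha), fun a ha => hθ.1.2.1 a (hle ha),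
      fun a ha ha1 b hb => hθ.1.2.2.1 a (hle ha) ha1 b (hle hb),
      fun a ha ha1 b hb => hθ.1.2.2.2 a (hle ha) ha1 b (hle hb)⟩, fun a ha => hθ.2 a (hle ha)⟩
  exact complete_of_subgroup hA hle hc.ge hθ
    (complete_card_three (fun H' _ _ hlt => ih _ (hn ▸ hlt) H' rfl)
      (CfsgLib.Signalizer.of_le hA hle) hc θ hθ₁)

/-- A coprime group with solvable centralizers of the nontrivial elements of a rank three
elementary abelian group of automorphisms is solvable. -/
theorem isSolvable_of_centralizers {A K : Subgroup G} (hA : Cfsg.IsElementaryAbelian p A)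
    (h3 : p ^ 3 ≤ Nat.card A) (hK : (Nat.card K).Coprime p) (hAK : A ≤ normalizer (K : Set G))
    (hC : ∀ a ∈ A, a ≠ 1 → Group.IsSolvable ↥(K ⊓ centralizer ({a} : Set G))) :
    Group.IsSolvable K := by
  have hKp : ¬ p ∣ Nat.card K := (Fact.out : p.Prime).coprime_iff_not_dvd.1 hK.symm
  obtain ⟨X, hX, hle⟩ := complete A (fun a => K ⊓ centralizer {a}) hA h3
    ⟨⟨fun a _ _ => inf_le_right, fun a _ _ hd => hKp (hd.trans (card_dvd_of_le inf_le_left)),
      fun a ha _ b hb x hx => conj_mem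
        (CfsgLib.Signalizer.le_normalizer_inf_centralizer_singleton hA hAK ha) hb hx,
      fun a _ _ b _ _ x hx => ⟨hx.1.1, hx.2⟩⟩, hC⟩
  exact isSolvable_of_le (CfsgLib.Signalizer.le_of_forall_centralizer hA le_rfl
    ((Nat.pow_le_pow_right (Fact.out : p.Prime).pos (by norm_num)).trans h3) hAK hKp hle) hX.1

end CfsgLib.SFT
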