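import Cfsg.Agent.Solvable.CoprimeAct
import Cfsg.Agent.Solvable.Fitting
import Cfsg.Agent.Solvable.PGroupBasic
import Cfsg.Agent.Signalizer.Local
import Cfsg.Agent.KGroup.CharP

/-!
Local tools for the solvable signalizer functor theorem: cores of subgroups inside an ambient group,
coprime-commuting normal subgroups, and the `O_{p'}(C(P)) ≤ O_{p'}` lemma in ambient form.
-/

set_option autoImplicit false
set_option linter.unusedSectionVars false
set_option linter.style.haveILetI false
set_option linter.deprecated false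

namespace CfsgLib.SFT

open Subgroup Pointwise CfsgLib.SZ
open scoped commutatorElement

variable {G : Type*} [Group G] [Finite G]

/-- `O_q(H)` as a subgroup of the ambient group. -/
abbrev oc (q : ℕ) (H : Subgroup G) : Subgroup G := CfsgLib.CharP.opIn q H

/-- `O_{q'}(H)` as a subgroup of the ambient group. -/
def oc' (q : ℕ) (H : Subgroup G) : Subgroup G := (Cfsg.pPrimeCore q H).map H.subtype

/-- `H` is a group whose prime divisors lie in `σ`. -/
def IsPiG (σ : Set ℕ) (H : Subgroup G) : Prop := ∀ q, q.Prime → q ∣ Nat.card H → q ∈ σ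

theorem mem_normalizer_of_conj {H : Subgroup G} {g : G} (h : ∀ x ∈ H, g * x * g⁻¹ ∈ H) :
    g ∈ normalizer (H : Set G) := by
  rw [← conj_smul_eq_iff_mem_normalizer]
  refine CfsgLib.Solvable.eq_of_le_of_card_le ?_ (card_conj_smul g H).ge
  intro y hy
  obtain ⟨x, hx, rfl⟩ := hy
  exact h x hx

theorem le_normalizer_of_conj {X H : Subgroup G} (h : ∀ g ∈ X, ∀ x ∈ H, g * x * g⁻¹ ∈ H) :
    X ≤ normalizer (H : Set G) := fun g hg => mem_normalizer_of_conj (h g hg)

theorem conj_mem {X H : Subgroup G} (h : X ≤ normalizer (H : Set G)) {g x : G} (hg : g ∈ X)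
    (hx : x ∈ H) : g * x * g⁻¹ ∈ H := (mem_normalizer_iff.1 (h hg) x).1 hx

theorem le_normalizer_inf {X H K : Subgroup G} (h : X ≤ normalizer (H : Set G))
    (k : X ≤ normalizer (K : Set G)) : X ≤ normalizer ((H ⊓ K : Subgroup G) : Set G) :=
  (le_inf h k).trans inf_normalizer_le_normalizer_inf

theorem le_normalizer_sup {X H K : Subgroup G} (h : X ≤ normalizer (H : Set G))
    (k : X ≤ normalizer (K : Set G)) : X ≤ normalizer ((H ⊔ K : Subgroup G) : Set G) :=
  (le_inf h k).trans (normalizer_inf_normalizer_le_normalizer_sup H K)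

theorem le_normalizer_iSup {ι : Sort*} {X : Subgroup G} {H : ι → Subgroup G}
    (h : ∀ i, X ≤ normalizer (H i : Set G)) : X ≤ normalizer ((⨆ i, H i : Subgroup G) : Set G) :=
  (le_iInf h).trans (iInf_normalizer_le_normalizer_iSup _)

theorem normalizer_le_normalizer_centralizer (K : Subgroup G) :
    normalizer (K : Set G) ≤ normalizer (centralizer (K : Set G) : Set G) := fun g hg =>
  mem_normalizer_of_conj fun x hx => mem_centralizer_iff.2 fun k hk => by
    have h := mem_centralizer_iff.1 hx _ ((mem_normalizer_iff''.1 hg k).1 hk)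
    calc k * (g * x * g⁻¹) = g * ((g⁻¹ * k * g) * x) * g⁻¹ := by group
      _ = g * x * g⁻¹ * k := by rw [h]; group

theorem le_normalizer_centralizer {X K : Subgroup G} (h : X ≤ normalizer (K : Set G)) :
    X ≤ normalizer (centralizer (K : Set G) : Set G) :=
  h.trans (normalizer_le_normalizer_centralizer K)

theorem le_normalizer_commutator {X H K : Subgroup G} (h : X ≤ normalizer (H : Set G))
    (k : X ≤ normalizer (K : Set G)) : X ≤ normalizer ((⁅H, K⁆ : Subgroup G) : Set G) := by
  intro g hg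
  refine mem_normalizer_of_conj fun x hx => ?_
  suffices ⁅H, K⁆ ≤ (⁅H, K⁆ : Subgroup G).comap (MulAut.conj g).toMonoidHom from this hx
  rw [commutator_le]
  intro a ha b hb
  show g * ⁅a, b⁆ * g⁻¹ ∈ (⁅H, K⁆ : Subgroup G)
  rw [conjugate_commutatorElement]
  exact commutator_mem_commutator (conj_mem h hg ha) (conj_mem k hg hb)

/-- Subgroups of coprime orders which normalize each other commute. -/
theorem commute_of_coprime {X Y : Subgroup G} (hXY : X ≤ normalizer (Y : Set G))
    (hYX : Y ≤ normalizer (X : Set G)) (h : (Nat.card X).Coprime (Nat.card Y)) :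
    X ≤ centralizer (Y : Set G) := by
  rw [← commutator_eq_bot_iff_le_centralizer, eq_bot_iff, ← inf_eq_bot_of_coprime h]
  exact le_inf (le_normalizer_iff_commutator_le_left.1 hYX)
    (le_normalizer_iff_commutator_le_right.1 hXY)

theorem commute_of_disjoint {X Y : Subgroup G} (hXY : X ≤ normalizer (Y : Set G))
    (hYX : Y ≤ normalizer (X : Set G)) (h : X ⊓ Y = ⊥) :
    X ≤ centralizer (Y : Set G) := by
  rw [← commutator_eq_bot_iff_le_centralizer, eq_bot_iff, ← h]
  exact le_inf (le_normalizer_iff_commutator_le_left.1 hYX)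
    (le_normalizer_iff_commutator_le_right.1 hXY)

theorem le_centralizer_symm {X Y : Subgroup G} (h : X ≤ centralizer (Y : Set G)) :
    Y ≤ centralizer (X : Set G) := le_centralizer_iff.1 h

theorem isSolvable_of_le {H K : Subgroup G} (h : H ≤ K) (hK : Group.IsSolvable K) :
    Group.IsSolvable H := by
  haveI := hK
  exact Group.isSolvable_of_isSolvable_injective (inclusion_injective h)

theorem coprime_of_pgroup {r : ℕ} [Fact r.Prime] {X Y : Subgroup G} (hX : IsPGroup r X)
    (hY : (Nat.card Y).Coprime r) : (Nat.card X).Coprime (Nat.card Y) := by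
  obtain ⟨k, hk⟩ := IsPGroup.iff_card.1 hX
  exact hk ▸ (hY.symm.pow_left k)

theorem coprime_of_pgroup_ne {r q : ℕ} [Fact r.Prime] [Fact q.Prime] (hrq : r ≠ q)
    {X Y : Subgroup G} (hX : IsPGroup r X) (hY : IsPGroup q Y) :
    (Nat.card X).Coprime (Nat.card Y) :=
  IsPGroup.coprime_card_of_ne r q hrq X Y hX hY

theorem pgroup_coprime_prime {r q : ℕ} [Fact r.Prime] [Fact q.Prime] (hrq : r ≠ q)
    {X : Subgroup G} (hX : IsPGroup r X) : (Nat.card X).Coprime q := by
  obtain ⟨k, hk⟩ := IsPGroup.iff_card.1 hX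
  exact hk ▸ ((Nat.coprime_primes Fact.out Fact.out).2 hrq).pow_left k

theorem eq_bot_of_pgroup_of_coprime {r : ℕ} [Fact r.Prime] {X : Subgroup G} (hX : IsPGroup r X)
    (h : (Nat.card X).Coprime r) : X = ⊥ :=
  disjoint_self.1 (disjoint_iff.2 (inf_eq_bot_of_coprime (coprime_of_pgroup hX h)))

theorem eq_bot_of_pgroup_ne {r q : ℕ} [Fact r.Prime] [Fact q.Prime] (hrq : r ≠ q)
    {X : Subgroup G} (hX : IsPGroup r X) (hX' : IsPGroup q X) : X = ⊥ :=
  eq_bot_of_pgroup_of_coprime hX (pgroup_coprime_prime hrq.symm hX')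

/-! ### The cores -/

theorem oc_le (q : ℕ) (H : Subgroup G) : oc q H ≤ H := CfsgLib.CharP.opIn_le H

theorem isPGroup_oc (q : ℕ) (H : Subgroup G) : IsPGroup q (oc q H) :=
  CfsgLib.CharP.isPGroup_opIn H

theorem le_normalizer_oc (q : ℕ) (H : Subgroup G) : H ≤ normalizer (oc q H : Set G) :=
  CfsgLib.CharP.le_normalizer_opIn H

theorem le_normalizer_oc_of_le {X H : Subgroup G} (q : ℕ) (h : X ≤ normalizer (H : Set G)) :
    X ≤ normalizer (oc q H : Set G) := CfsgLib.CharP.le_normalizer_opIn_of_le_normalizer h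

theorem le_oc {q : ℕ} {H N : Subgroup G} (hNH : N ≤ H) (hN : IsPGroup q N)
    (hn : H ≤ normalizer (N : Set G)) : N ≤ oc q H := CfsgLib.CharP.le_opIn hNH hN hn

theorem oc'_le (q : ℕ) (H : Subgroup G) : oc' q H ≤ H := map_subtype_le _

theorem coprime_card_oc' (q : ℕ) (H : Subgroup G) : (Nat.card (oc' q H)).Coprime q := by
  rw [oc', card_map_of_injective H.subtype_injective]
  exact CfsgLib.Solvable.coprime_card_pPrimeCore q

theorem le_normalizer_oc' (q : ℕ) (H : Subgroup G) : H ≤ normalizer (oc' q H : Set G) :=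
  CfsgLib.Comp.normal_map_subtype_iff.1 (CfsgLib.Solvable.pPrimeCore_normal q)

theorem le_oc' {q : ℕ} {H N : Subgroup G} (hNH : N ≤ H) (hN : (Nat.card N).Coprime q)
    (hn : H ≤ normalizer (N : Set G)) : N ≤ oc' q H := by
  rw [← map_subgroupOf_eq_of_le hNH]
  exact map_mono (CfsgLib.Solvable.le_pPrimeCore q (normal_subgroupOf_of_le_normalizer hn)
    (by rwa [Nat.card_congr (subgroupOfEquivOfLe hNH).toEquiv]))

theorem le_normalizer_oc'_of_le {X H : Subgroup G} (q : ℕ) (h : X ≤ normalizer (H : Set G)) :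
    X ≤ normalizer (oc' q H : Set G) := by
  intro g hg
  refine mem_normalizer_of_conj fun x hx => ?_
  have hle : (oc' q H).map (MulAut.conj g).toMonoidHom ≤ oc' q H := by
    have hH : H.map (MulAut.conj g).toMonoidHom = H := mem_normalizer_iff_map_conj_eq.1 (h hg)
    refine le_oc' ((map_mono (oc'_le q H)).trans hH.le) ?_ ?_
    · rw [card_map_of_injective (f := (MulAut.conj g).toMonoidHom) (MulAut.conj g).injective]
      exact coprime_card_oc' q H
    · exact hH.symm.le.trans ((map_mono (le_normalizer_oc' q H)).trans (le_normalizer_map _))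
  exact hle ⟨x, hx, rfl⟩

theorem oc_ne_bot_imp_dvd {q : ℕ} [Fact q.Prime] {H : Subgroup G} (h : oc q H ≠ ⊥) :
    q ∣ Nat.card H := by
  obtain ⟨k, hk⟩ := IsPGroup.iff_card.1 (isPGroup_oc q H)
  have hk0 : k ≠ 0 := fun h0 => h (eq_bot_of_card_eq _ (by rw [hk, h0, pow_zero]))
  exact (hk ▸ dvd_pow_self q hk0).trans (card_dvd_of_le (oc_le q H))

theorem le_centralizer_oc {H : Subgroup G} {r q : ℕ} [Fact r.Prime] [Fact q.Prime] (h : r ≠ q) :
    oc r H ≤ centralizer (oc q H : Set G) :=
  commute_of_coprime ((oc_le r H).trans (le_normalizer_oc q H))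
    ((oc_le q H).trans (le_normalizer_oc r H))
    (coprime_of_pgroup_ne h (isPGroup_oc r H) (isPGroup_oc q H))

/-- An `s`-subgroup of a solvable group centralizing all cores of the Fitting subgroup lies in
`O_s`. -/
theorem le_oc_of_centralizes {H U : Subgroup G} {s : ℕ} [Fact s.Prime]
    (hH : Group.IsSolvable H) (hUH : U ≤ H) (hU : IsPGroup s U)
    (h : ∀ t : ℕ, t.Prime → U ≤ centralizer (oc t H : Set G)) : U ≤ oc s H := by
  haveI := hH
  set U' := U.subgroupOf H
  have hF : U' ≤ Cfsg.fittingSubgroup H := by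
    refine le_trans ?_ CfsgLib.Fitting.centralizer_fittingSubgroup_le_of_solvable
    rw [le_centralizer_iff, CfsgLib.Solvable.fittingSubgroup_eq_iSup_pCore]
    refine iSup_le fun t x hx => mem_centralizer_iff.2 fun u hu => Subtype.ext ?_
    exact (mem_centralizer_iff.1 (h t t.2 (mem_subgroupOf.1 hu)) x ⟨x, hx, rfl⟩).symm
  rw [← map_subgroupOf_eq_of_le hUH]
  refine map_mono ?_
  -- the `s`-elements of the Fitting subgroup
  have hnil : Group.IsNilpotent (Cfsg.fittingSubgroup H) :=
    CfsgLib.Solvable.isNilpotent_fittingSubgroup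
  obtain ⟨S, hS⟩ := (hU.comap_subtype (K := H)).comap_subtype
    (K := Cfsg.fittingSubgroup H) |>.exists_le_sylow
  haveI : (S : Subgroup (Cfsg.fittingSubgroup H)).Normal := inferInstance
  haveI := Sylow.characteristic_of_normal S inferInstance
  refine le_trans ?_ (CfsgLib.Solvable.le_pCore s (inferInstance : ((S :
    Subgroup (Cfsg.fittingSubgroup H)).map (Cfsg.fittingSubgroup H).subtype).Normal) (S.2.map _))
  show U' ≤ _
  rw [← map_subgroupOf_eq_of_le hF]
  exact map_mono hS

/-- Solvable `H`: an element of `H` centralizing all cores lies in their join. -/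
theorem le_iSup_oc_of_centralizes {H U : Subgroup G} (hH : Group.IsSolvable H) (hUH : U ≤ H)
    (h : ∀ t : ℕ, t.Prime → U ≤ centralizer (oc t H : Set G)) :
    U ≤ ⨆ t : Nat.Primes, oc t H := by
  haveI := hH
  have hF : U.subgroupOf H ≤ Cfsg.fittingSubgroup H := by
    refine le_trans ?_ CfsgLib.Fitting.centralizer_fittingSubgroup_le_of_solvable
    rw [le_centralizer_iff, CfsgLib.Solvable.fittingSubgroup_eq_iSup_pCore]
    refine iSup_le fun t x hx => mem_centralizer_iff.2 fun u hu => Subtype.ext ?_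
    exact (mem_centralizer_iff.1 (h t t.2 (mem_subgroupOf.1 hu)) x ⟨x, hx, rfl⟩).symm
  rw [CfsgLib.Solvable.fittingSubgroup_eq_iSup_pCore] at hF
  have := map_mono (f := H.subtype) hF
  rw [map_subgroupOf_eq_of_le hUH, Subgroup.map_iSup] at this
  exact this

theorem exists_oc_ne_bot {H : Subgroup G} (hH : Group.IsSolvable H) (h : H ≠ ⊥) :
    ∃ t : ℕ, t.Prime ∧ oc t H ≠ ⊥ := by
  by_contra hc
  push Not at hc
  refine h (eq_bot_iff.2 ((le_iSup_oc_of_centralizes hH le_rfl fun t ht => ?_).trans ?_))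
  · rw [hc t ht]
    exact fun g _ => mem_centralizer_iff.2 fun v hv => by rw [mem_bot.1 hv]; simp
  · exact iSup_le fun t => (hc t t.2).le

/-- `O_{r'}(C_L(P)) ≤ O_{r'}(L)` in ambient form. -/
theorem lift {r : ℕ} [Fact r.Prime] {L P Q : Subgroup G} (hL : Group.IsSolvable L) (hPL : P ≤ L)
    (hQL : Q ≤ L) (hP : IsPGroup r P) (hQP : Q ≤ centralizer (P : Set G))
    (hn : L ⊓ centralizer (P : Set G) ≤ normalizer (Q : Set G))
    (hQ : (Nat.card Q).Coprime r) : Q ≤ oc' r L := by
  haveI := hL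
  rw [← map_subgroupOf_eq_of_le hQL]
  refine map_mono (CfsgLib.Signalizer.le_pPrimeCore_of_centralizes
    CfsgLib.Signalizer.centralizer_pCore_quotient_le (P := P.subgroupOf L) hP.comap_subtype ?_ ?_ ?_)
  · intro x hx
    refine mem_centralizer_iff.2 fun y hy => Subtype.ext ?_
    exact mem_centralizer_iff.1 (hQP (mem_subgroupOf.1 hx)) y (mem_subgroupOf.1 hy)
  · intro x hx
    have hxP : (x : G) ∈ centralizer (P : Set G) := mem_centralizer_iff.2 fun y hy =>
      congrArg Subtype.val (mem_centralizer_iff.1 hx ⟨y, hPL hy⟩ (mem_subgroupOf.2 hy))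
    exact mem_normalizer_iff.2 fun y => by
      simpa [mem_subgroupOf] using mem_normalizer_iff.1 (hn ⟨x.2, hxP⟩) (y : G)
  · rwa [Nat.card_congr (subgroupOfEquivOfLe hQL).toEquiv]

/-- `O_{r'}(H)` commutes with `O_r(H)`. -/
theorem oc'_le_centralizer_oc (r : ℕ) [Fact r.Prime] (H : Subgroup G) :
    oc' r H ≤ centralizer (oc r H : Set G) :=
  commute_of_coprime ((oc'_le r H).trans (le_normalizer_oc r H))
    ((oc_le r H).trans (le_normalizer_oc' r H))
    (coprime_of_pgroup (isPGroup_oc r H) (coprime_card_oc' r H)).symm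

/-- A coprime group centralizing all cores of a solvable group centralizes it. -/
theorem le_centralizer_of_cores {K Q : Subgroup G} (hK : Group.IsSolvable K)
    (hQK : Q ≤ normalizer (K : Set G)) (hcop : (Nat.card Q).Coprime (Nat.card K))
    (h : ∀ t : ℕ, t.Prime → Q ≤ centralizer (oc t K : Set G)) :
    Q ≤ centralizer (K : Set G) := by
  have hsub : ⁅K, Q⁆ ≤ K := le_normalizer_iff_commutator_le_left.1 hQK
  have h1 : ∀ t : ℕ, t.Prime → ⁅K, Q⁆ ≤ centralizer (oc t K : Set G) := by
    intro t ht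
    rw [← commutator_eq_bot_iff_le_centralizer]
    have e2 : ⁅⁅Q, oc t K⁆, K⁆ = ⊥ := by
      rw [commutator_eq_bot_iff_le_centralizer.2 (h t ht), commutator_bot_left]
    have e3 : ⁅⁅oc t K, K⁆, Q⁆ = ⊥ := by
      rw [commutator_eq_bot_iff_le_centralizer]
      refine le_trans (le_normalizer_iff_commutator_le_left.1 (le_normalizer_oc t K)) ?_
      exact le_centralizer_symm (h t ht)
    exact commutator_commutator_eq_bot_of_rotate e2 e3
  have h2 := le_iSup_oc_of_centralizes hK hsub h1
  have h3 : (⨆ t : Nat.Primes, oc t K) ≤ centralizer (Q : Set G) :=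
    iSup_le fun t => le_centralizer_symm (h t t.2)
  have h4 : ⁅⁅K, Q⁆, Q⁆ = ⊥ := commutator_eq_bot_iff_le_centralizer.2 (h2.trans h3)
  rw [CfsgLib.CoprimeAct.commutator_commutator hQK hcop (Or.inr hK),
    commutator_eq_bot_iff_le_centralizer] at h4
  exact le_centralizer_symm h4

/-- A `p`-group acting on a nontrivial `p`-group fixes a nontrivial element. -/
theorem inf_centralizer_ne_bot {q : ℕ} [Fact q.Prime] {X R : Subgroup G} (hX : IsPGroup q X)
    (hR : IsPGroup q R) (hn : X ≤ normalizer (R : Set G)) (hR1 : R ≠ ⊥) :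
    R ⊓ centralizer (X : Set G) ≠ ⊥ := by
  set S := X ⊔ R
  have hS : IsPGroup q S := hX.to_sup_of_normal_right' hR hn
  haveI : Group.IsNilpotent S := hS.isNilpotent
  haveI : (R.subgroupOf S).Normal :=
    normal_subgroupOf_of_le_normalizer (sup_le hn le_normalizer)
  have hne : R.subgroupOf S ≠ ⊥ := fun h => hR1 (by
    rw [← map_subgroupOf_eq_of_le (show R ≤ S from le_sup_right), h, Subgroup.map_bot])
  obtain ⟨z, hzR, hzc, hz1⟩ : ∃ z : S, (z : G) ∈ R ∧ z ∈ center S ∧ z ≠ 1 := by
    have := (CfsgLib.PGroupBasic.inf_center_ne_bot _ hne)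
    obtain ⟨⟨z, hz⟩, hz1⟩ := ne_bot_iff_exists_ne_one.1 this
    exact ⟨z, hz.1, hz.2, fun e => hz1 (Subtype.ext e)⟩
  intro hbot
  refine hz1 (Subtype.ext ((eq_bot_iff_forall _).1 hbot _ ⟨hzR, mem_centralizer_iff.2 fun x hx => ?_⟩))
  exact congrArg Subtype.val (mem_center_iff.1 hzc ⟨x, mem_sup_left hx⟩)

end CfsgLib.SFT
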