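import Cfsg.Agent.SFT.Tools
import Cfsg.Agent.Signalizer.Basic

/-!
From a bound on the rank of single elements to a bound for elementary abelian subgroups acting
on a module: there are no offenders, nor near offenders.
-/

set_option autoImplicit false
set_option linter.unusedSectionVars false
set_option linter.style.haveILetI false
set_option linter.deprecated false

namespace CfsgLib.SFT

open Subgroup

universe u

/-- A solvable `p'`-group `K` acting on an elementary abelian `r`-group `W` with `O_r` of the image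
trivial, and an `r`-subgroup `P` of the image normalized by `A` and by `C_K(A)`. -/
structure RSetting {G : Type u} [Group G] (p r : ℕ) (A K W P : Subgroup G) : Prop where
  ne : r ≠ p
  elA : Cfsg.IsElementaryAbelian p A
  elW : Cfsg.IsElementaryAbelian r W
  solv : Group.IsSolvable K
  cop : ¬ p ∣ Nat.card K
  AK : A ≤ normalizer (K : Set G)
  AW : A ≤ normalizer (W : Set G)
  KW : K ≤ normalizer (W : Set G)
  core : ∀ R : Subgroup G, K ⊓ centralizer (W : Set G) ≤ R → R ≤ K → K ≤ normalizer (R : Set G) →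
    (∀ x ∈ R, ∃ n : ℕ, x ^ r ^ n ∈ centralizer (W : Set G)) → R ≤ centralizer (W : Set G)
  PK : P ≤ K
  Pr : ∀ x ∈ P, ∃ n : ℕ, x ^ r ^ n ∈ centralizer (W : Set G)
  AP : A ≤ normalizer (P : Set G)
  CP : K ⊓ centralizer (A : Set G) ≤ normalizer (P : Set G)

/-- Elements of order `r` of `P` have rank at least three. -/
def RankBound (G : Type u) [Group G] : Prop :=
  ∀ (p r : ℕ) [Fact p.Prime] [Fact r.Prime] (A K W P : Subgroup G), RSetting p r A K W P →
    ∀ y ∈ P, y ^ r ∈ centralizer (W : Set G) → y ∉ centralizer (W : Set G) →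
      r ^ 3 ≤ (W ⊓ centralizer ({y} : Set G)).relIndex W

variable {G : Type u} [Group G] [Finite G]

/-- A coprime automorphism fixing all fixed points of a commuting `r`-group of automorphisms is
trivial. -/
theorem eq_one_of_fixes {r : ℕ} [Fact r.Prime] {V : Type*} [CommGroup V] [Finite V]
    (hV : IsPGroup r V) (B : Subgroup (MulAut V)) (hB : IsPGroup r B) (e : MulAut V)
    (he : (orderOf e).Coprime r) (hBe : ∀ b ∈ B, b * e = e * b)
    (h : ∀ v : V, (∀ b ∈ B, b v = v) → e v = v) : e = 1 := by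
  let ψ : V →* V := MonoidHom.mk' (fun v => e v * v⁻¹) fun a b => by
    rw [map_mul, mul_inv_rev, mul_comm b⁻¹ a⁻¹, mul_mul_mul_comm]
  set M := ψ.range
  have hfix : ∀ m ∈ M, e m = m → m = 1 := by
    rintro _ ⟨v, rfl⟩ hm
    set m := ψ v
    have hev : e v = m * v := by simp [m, ψ]
    have hpow : ∀ n : ℕ, (e ^ n) v = m ^ n * v := by
      intro n
      induction n with
      | zero => simp
      | succ n ih =>
        rw [pow_succ', MulAut.mul_apply, ih, map_mul, map_pow, hm, hev, pow_succ, mul_assoc]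
    have h1 := hpow (orderOf e)
    rw [pow_orderOf_eq_one, MulAut.one_apply] at h1
    have h2 : m ^ orderOf e = 1 := by simpa using h1
    obtain ⟨k, hk⟩ := hV m
    exact CfsgLib.CharP.eq_one_of_pow_eq_one_of_coprime h2 hk (he.pow_right k)
  by_contra hne
  have hM1 : M ≠ ⊥ := fun hM => hne (MulEquiv.ext fun v => by
    have : ψ v = 1 := mem_bot.1 (hM ▸ ⟨v, rfl⟩)
    simpa [ψ, mul_inv_eq_one] using this)
  have hMB : ∀ b : B, ∀ m ∈ M, (b : MulAut V) m ∈ M := by
    rintro b _ ⟨v, rfl⟩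
    refine ⟨(b : MulAut V) v, ?_⟩
    have := congrArg (fun f : MulAut V => f v) (hBe b b.2)
    simp only [MulAut.mul_apply] at this
    simp [ψ, this]
  letI : MulAction B M :=
    { smul := fun b m => ⟨(b : MulAut V) m, hMB b m m.2⟩
      one_smul := fun m => Subtype.ext rfl
      mul_smul := fun a b m => Subtype.ext rfl }
  have hd : r ∣ Nat.card M := by
    obtain ⟨k, hk⟩ := IsPGroup.iff_card.1 (hV.to_subgroup M)
    rcases Nat.eq_zero_or_pos k with rfl | hk0
    · exact absurd (eq_bot_of_card_eq _ (by rw [hk, pow_zero])) hM1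
    · exact hk ▸ dvd_pow_self r hk0.ne'
  obtain ⟨m, hm, hm1⟩ := hB.exists_fixed_point_of_prime_dvd_card_of_fixed_point M hd
    (a := (1 : M)) (fun b => Subtype.ext (map_one (b : MulAut V)))
  refine hm1 (Subtype.ext (hfix m m.2 (h m fun b hb => ?_))).symm
  exact congrArg Subtype.val (hm ⟨b, hb⟩)

/-- A faithful elementary abelian `r`-group of a solvable linear group with trivial `r`-core has
a subgroup of index at most `r` with a larger fixed space. -/
theorem exists_fixed_larger {r : ℕ} [Fact r.Prime] {V : Type*} [CommGroup V] [Finite V]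
    (hWp : IsPGroup r V) (Kb Tb : Subgroup (MulAut V)) [Group.IsSolvable Kb]
    (hcore : Cfsg.pCore r Kb = ⊥) (hTbK : Tb ≤ Kb) (hTbel : Cfsg.IsElementaryAbelian r Tb)
    (hT' : ¬ Tb ≤ ⊥) :
    ∃ B : Subgroup (MulAut V), B ≤ Tb ∧ B.relIndex Tb ≤ r ∧
      ∃ u ∈ Tb, ∃ w : V, (∀ b ∈ B, b w = w) ∧ u w ≠ w := by
  set F := (Cfsg.pPrimeCore r Kb).map Kb.subtype
  have hFK : F ≤ Kb := map_subtype_le _
  have hFn : Kb ≤ normalizer (F : Set (MulAut V)) :=
    CfsgLib.Comp.normal_map_subtype_iff.1 (CfsgLib.Solvable.pPrimeCore_normal r)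
  have hFc : (Nat.card F).Coprime r := by
    rw [card_map_of_injective Kb.subtype_injective]
    exact CfsgLib.Solvable.coprime_card_pPrimeCore r
  have hCF : Kb ⊓ centralizer (F : Set (MulAut V)) ≤ F := by
    rintro g ⟨hgK, hgF⟩
    refine ⟨⟨g, hgK⟩, ?_, rfl⟩
    have hfit : Cfsg.fittingSubgroup Kb ≤ Cfsg.pPrimeCore r Kb := by
      rw [CfsgLib.Solvable.fittingSubgroup_eq_iSup_pCore]
      refine iSup_le fun q => ?_
      haveI := Fact.mk q.2
      by_cases hq : (q : ℕ) = r
      · rw [hq, hcore]; exact bot_le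
      · exact CfsgLib.Solvable.le_pPrimeCore r inferInstance (by
          obtain ⟨k, hk⟩ := IsPGroup.iff_card.1 (CfsgLib.Solvable.isPGroup_pCore (q : ℕ) (G := Kb))
          exact hk ▸ ((Nat.coprime_primes q.2 Fact.out).2 hq).pow_left k)
    exact hfit (CfsgLib.Fitting.centralizer_fittingSubgroup_le_of_solvable
      (mem_centralizer_iff.2 fun y hy => Subtype.ext
        (mem_centralizer_iff.1 hgF y ⟨y, hfit hy, rfl⟩)))
  by_contra hcon
  push Not at hcon
  refine hT' ?_
  have hFT : F ≤ centralizer (Tb : Set (MulAut V)) := by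
    refine CfsgLib.Signalizer.le_of_forall_hyperplane hTbel (hTbK.trans hFn)
      (fun hd => (Fact.out : r.Prime).ne_one
        (Nat.eq_one_of_dvd_coprimes hFc hd dvd_rfl)) fun B hB hBi => ?_
    rintro e ⟨heF, heB⟩
    refine mem_centralizer_iff.2 fun u hu => ?_
    have hdF : e * u * e⁻¹ * u⁻¹ ∈ F := by
      have := conj_mem (hTbK.trans hFn) hu (inv_mem heF)
      simpa [mul_assoc] using mul_mem heF this
    have hd1 : e * u * e⁻¹ * u⁻¹ = 1 := by
      refine eq_one_of_fixes hWp B ((CfsgLib.Signalizer.isPGroup hTbel).to_le hB) _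
        (hFc.coprime_dvd_left (orderOf_dvd_natCard F hdF)) (fun b hb => ?_) fun v hv => ?_
      · have c1 : Commute b e := mem_centralizer_iff.1 heB b hb
        have c2 : Commute b u := CfsgLib.Signalizer.commute hTbel (hB hb) hu
        exact ((c1.mul_right c2).mul_right c1.inv_right).mul_right c2.inv_right
      · have huv := hcon B hB hBi u hu v hv
        have huv' : u⁻¹ v = v := by
          conv_lhs => rw [← huv]
          exact u.symm_apply_apply v
        have hev : ∀ b ∈ B, b (e⁻¹ v) = e⁻¹ v := fun b hb => by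
          have c1 : Commute b e⁻¹ := Commute.inv_right (mem_centralizer_iff.1 heB b hb)
          calc b (e⁻¹ v) = (b * e⁻¹) v := rfl
            _ = (e⁻¹ * b) v := by rw [c1.eq]
            _ = e⁻¹ v := by rw [MulAut.mul_apply, hv b hb]
        simp only [MulAut.mul_apply, huv']
        rw [hcon B hB hBi u hu _ hev]
        exact e.apply_symm_apply v
    exact (mul_inv_eq_iff_eq_mul.1 (mul_inv_eq_one.1 hd1)).symm
  intro t ht
  have htF : t ∈ F := hCF ⟨hTbK ht, le_centralizer_symm hFT ht⟩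
  exact mem_bot.2 ((eq_bot_iff_forall _).1 (inf_eq_bot_of_coprime
    (coprime_of_pgroup (CfsgLib.Signalizer.isPGroup hTbel) hFc)) t ⟨ht, htF⟩)

set_option maxHeartbeats 1000000 in
/-- No offenders and no near offenders. -/
theorem RSetting.offender (hK : RankBound G) {p r : ℕ} [Fact p.Prime] [Fact r.Prime]
    {A K W P : Subgroup G} (S : RSetting p r A K W P) :
    ∀ T : Subgroup G, T ≤ P → (∀ x ∈ T, ∀ y ∈ T, x * y * x⁻¹ * y⁻¹ ∈ centralizer (W : Set G)) →
      (∀ x ∈ T, x ^ r ∈ centralizer (W : Set G)) → ¬ T ≤ centralizer (W : Set G) →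
      r ^ 2 * (centralizer (W : Set G)).relIndex T ≤ (W ⊓ centralizer (T : Set G)).relIndex W := by
  intro T
  induction T using WellFoundedLT.induction with | _ T ih => ?_
  intro hTP hTab hTe hT1
  haveI := S.elW.1
  haveI := S.solv
  letI : CommGroup W := { (inferInstance : Group W) with mul_comm := S.elW.1.1.comm }
  have hWp : IsPGroup r W := fun w => ⟨1, Subtype.ext (by simpa using S.elW.2 w w.2)⟩
  set N := normalizer (W : Set G)
  let φ : N →* MulAut W := normalizerMonoidHom W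
  have happ : ∀ (g : N) (w : W), ((φ g) w : G) = g * w * (g : G)⁻¹ := fun g w => rfl
  have hker : ∀ g : N, φ g = 1 ↔ (g : G) ∈ centralizer (W : Set G) := by
    intro g
    constructor
    · intro hg
      refine mem_centralizer_iff.2 fun w hw => ?_
      have h1 := happ g ⟨w, hw⟩
      rw [hg, MulAut.one_apply] at h1
      calc w * (g : G) = (g : G) * w * (g : G)⁻¹ * g := by rw [← h1]
        _ = (g : G) * w := by group
    · intro hg
      ext w
      rw [happ, MulAut.one_apply, ← mem_centralizer_iff.1 hg w w.2, mul_inv_cancel_right]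
  set Kb := (K.subgroupOf N).map φ with hKb
  set Tb := (T.subgroupOf N).map φ with hTb
  have hTK : T ≤ K := hTP.trans S.PK
  have hTbK : Tb ≤ Kb := map_mono fun x hx => hTK hx
  have hTbel : Cfsg.IsElementaryAbelian r Tb := by
    refine ⟨⟨⟨?_⟩⟩, ?_⟩
    · rintro ⟨_, x, hx, rfl⟩ ⟨_, y, hy, rfl⟩
      refine Subtype.ext ?_
      show φ x * φ y = φ y * φ x
      have h1 : φ (x * y * x⁻¹ * y⁻¹) = 1 := (hker _).2 (hTab x hx y hy)
      rwa [map_mul, map_mul, map_mul, map_inv, map_inv, mul_inv_eq_one,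
        mul_inv_eq_iff_eq_mul] at h1
    · rintro _ ⟨x, hx, rfl⟩
      rw [← map_pow]
      exact (hker _).2 (by simpa using hTe x hx)
  haveI : Group.IsSolvable (K.subgroupOf N) :=
    Group.isSolvable_of_isSolvable_injective
      (f := (subgroupOfEquivOfLe S.KW).toMonoidHom) (MulEquiv.injective _)
  haveI hKbs : Group.IsSolvable Kb := Group.isSolvable_of_surjective (φ.subgroupMap_surjective _)
  have hcore : Cfsg.pCore r Kb = ⊥ := by
    set R₀ := ((Cfsg.pCore r Kb).map Kb.subtype).comap φ ⊓ K.subgroupOf N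
    set R := R₀.map N.subtype
    have hRC : R ≤ centralizer (W : Set G) := by
      refine S.core R ?_ ?_ ?_ ?_
      · intro x hx
        exact ⟨⟨x, S.KW hx.1⟩, ⟨by
          show φ ⟨x, S.KW hx.1⟩ ∈ (Cfsg.pCore r Kb).map Kb.subtype
          rw [(hker _).2 hx.2]; exact one_mem _, hx.1⟩, rfl⟩
      · rintro _ ⟨x, hx, rfl⟩; exact hx.2
      · intro g hg
        refine mem_normalizer_of_conj ?_
        rintro _ ⟨x, hx, rfl⟩
        refine ⟨⟨g, S.KW hg⟩ * x * ⟨g, S.KW hg⟩⁻¹, ⟨?_, ?_⟩, rfl⟩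
        · obtain ⟨y, hy, hyx⟩ := hx.1
          let k : Kb := ⟨φ ⟨g, S.KW hg⟩, ⟨⟨g, S.KW hg⟩, hg, rfl⟩⟩
          refine ⟨k * y * k⁻¹, (CfsgLib.Solvable.pCore_normal r).conj_mem y hy k, ?_⟩
          show φ ⟨g, S.KW hg⟩ * (y : MulAut W) * (φ ⟨g, S.KW hg⟩)⁻¹ = φ _
          rw [map_mul, map_mul, map_inv]
          exact congrArg (fun z => φ ⟨g, S.KW hg⟩ * z * (φ ⟨g, S.KW hg⟩)⁻¹) hyx
        · exact K.mul_mem (K.mul_mem hg hx.2) (K.inv_mem hg)
      · rintro _ ⟨x, hx, rfl⟩
        obtain ⟨y, hy, hyx⟩ := hx.1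
        obtain ⟨n, hn⟩ := CfsgLib.Solvable.isPGroup_pCore r (⟨y, hy⟩ : Cfsg.pCore r Kb)
        refine ⟨n, ?_⟩
        have h1 : φ (x ^ r ^ n) = 1 := by
          rw [map_pow, ← hyx]
          exact congrArg (fun z : Cfsg.pCore r Kb => ((z : Kb) : MulAut W)) hn
        simpa using (hker _).1 h1
    refine (eq_bot_iff_forall _).2 fun y hy => ?_
    obtain ⟨x, hx, hxy⟩ := y.2
    have h1 : (x : G) ∈ R := ⟨x, ⟨⟨y, hy, hxy.symm⟩, hx⟩, rfl⟩
    exact Subtype.ext (hxy ▸ (hker x).2 (hRC h1))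
  have hT' : ¬ Tb ≤ ⊥ := fun hle => hT1 fun x hx =>
    (hker ⟨x, S.KW (hTK hx)⟩).1 (mem_bot.1 (hle ⟨⟨x, S.KW (hTK hx)⟩, hx, rfl⟩))
  obtain ⟨B, hBT, hBi, u, hu, huB⟩ := exists_fixed_larger hWp Kb Tb hcore hTbK hTbel hT'
  obtain ⟨w, hwB, huw⟩ := huB
  obtain ⟨u₀, hu₀, rfl⟩ := hu
  set T₀ := ((B.comap φ).map N.subtype) ⊓ T
  have hT₀T : T₀ ≤ T := inf_le_right
  have hwT₀ : (w : G) ∈ W ⊓ centralizer (T₀ : Set G) := by
    refine ⟨w.2, mem_centralizer_iff.2 ?_⟩
    rintro x ⟨⟨g, hg, rfl⟩, -⟩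
    have h1 := congrArg Subtype.val (hwB _ hg)
    rw [happ] at h1
    exact mul_inv_eq_iff_eq_mul.1 h1
  have hwT : (w : G) ∉ W ⊓ centralizer (T : Set G) := fun hw => huw (Subtype.ext (by
    rw [happ, mem_centralizer_iff.1 hw.2 (u₀ : G) hu₀, mul_inv_cancel_right]))
  have hlt : W ⊓ centralizer (T : Set G) < W ⊓ centralizer (T₀ : Set G) :=
    lt_of_le_of_ne (inf_le_inf_left _ (centralizer_le (by exact_mod_cast hT₀T)))
      fun e => hwT (e ▸ hwT₀)
  have hstep : r ≤ (W ⊓ centralizer (T : Set G)).relIndex (W ⊓ centralizer (T₀ : Set G)) := by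
    have h1 := (hWp.to_le (show W ⊓ centralizer (T₀ : Set G) ≤ W from inf_le_left))
    obtain ⟨k, hk⟩ := h1.index ((W ⊓ centralizer (T : Set G)).subgroupOf
      (W ⊓ centralizer (T₀ : Set G)))
    rw [Subgroup.relIndex, hk]
    rcases Nat.eq_zero_or_pos k with rfl | hk0
    · rw [pow_zero] at hk
      exact absurd (relIndex_eq_one.1 hk) hlt.not_ge
    · exact Nat.le_self_pow hk0.ne' r
  have hmulW : (W ⊓ centralizer (T : Set G)).relIndex (W ⊓ centralizer (T₀ : Set G)) *
      (W ⊓ centralizer (T₀ : Set G)).relIndex W = (W ⊓ centralizer (T : Set G)).relIndex W :=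
    relIndex_mul_relIndex _ _ _ hlt.le inf_le_left
  have hidx : (centralizer (W : Set G)).relIndex T ≤
      r * (centralizer (W : Set G)).relIndex T₀ := by
    have hle : centralizer (W : Set G) ⊓ T ≤ T₀ := fun x hx =>
      ⟨⟨⟨x, S.KW (hTK hx.2)⟩, mem_comap.2 (by rw [(hker _).2 hx.1]; exact one_mem B), rfl⟩, hx.2⟩
    have h2 : (centralizer (W : Set G) ⊓ T).relIndex T₀ = (centralizer (W : Set G)).relIndex T₀ := by
      rw [← inf_relIndex_right, inf_assoc, inf_eq_right.2 hT₀T, inf_relIndex_right]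
    have h3 : T₀.relIndex T ≤ r := by
      refine le_trans (le_of_eq ?_) hBi
      have hTN : T ≤ N := hTK.trans S.KW
      calc T₀.relIndex T = ((B.comap φ).map N.subtype).relIndex T := inf_relIndex_right _ _
        _ = (B.comap φ).relIndex (T.subgroupOf N) := by
          conv_lhs => rw [← map_subgroupOf_eq_of_le hTN]
          exact relIndex_map_map_of_injective _ _ N.subtype_injective
        _ = B.relIndex Tb := relIndex_comap B φ _
    rw [← inf_relIndex_right (centralizer (W : Set G)) T, ← relIndex_mul_relIndex _ T₀ T hle hT₀T, h2, mul_comm]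
    exact Nat.mul_le_mul_right _ h3
  by_cases hT₀ : T₀ ≤ centralizer (W : Set G)
  · have hu₁ : (u₀ : G) ∈ T := hu₀
    have hy := hK p r A K W P S u₀ (hTP hu₁) (hTe _ hu₁)
      fun hc => huw (by rw [(hker u₀).2 hc, MulAut.one_apply])
    have h0 : (centralizer (W : Set G)).relIndex T₀ = 1 := relIndex_eq_one.2 hT₀
    rw [h0, mul_one] at hidx
    refine le_trans (Nat.mul_le_mul_left _ hidx) (le_trans (le_of_eq (pow_succ r 2).symm)
      (hy.trans (Nat.le_of_dvd (Nat.pos_of_ne_zero index_ne_zero_of_finite) ?_)))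
    exact relIndex_dvd_of_le_left _ (inf_le_inf_left _ (centralizer_le (by simpa using hu₁)))
  · have hlt' : T₀ < T := lt_of_le_of_ne hT₀T fun e => hlt.ne (by rw [e])
    have := ih T₀ hlt' (hT₀T.trans hTP) (fun x hx y hy => hTab x (hT₀T hx) y (hT₀T hy))
      (fun x hx => hTe x (hT₀T hx)) hT₀
    rw [← hmulW]
    calc r ^ 2 * (centralizer (W : Set G)).relIndex T
        ≤ r ^ 2 * (r * (centralizer (W : Set G)).relIndex T₀) := Nat.mul_le_mul_left _ hidx
      _ = r * (r ^ 2 * (centralizer (W : Set G)).relIndex T₀) := by ring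
      _ ≤ _ := Nat.mul_le_mul hstep this

end CfsgLib.SFT
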