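import Cfsg.Agent.SFT.RankReduce
import Cfsg.Agent.SFT.OffenderBound
import Cfsg.Prelude.Def_Local

/-!
The rank bound on an elementary abelian module of a coprime-signalized solvable group.
-/

set_option autoImplicit false
set_option linter.style.haveILetI false
set_option linter.deprecated false
set_option linter.unusedSectionVars false

namespace CfsgLib.SFT

open Subgroup

theorem rank_bound_aux {G : Type*} [Group G] [Finite G] {p r : ℕ} [Fact p.Prime] [Fact r.Prime]
    (hrp : r ≠ p) {A K W P : Subgroup G} (hA : Cfsg.IsElementaryAbelian p A)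
    (_hW : Cfsg.IsElementaryAbelian r W) (hK : Group.IsSolvable K) (hKp : ¬ p ∣ Nat.card K)
    (hAK : A ≤ normalizer (K : Set G)) (hAW : A ≤ normalizer (W : Set G))
    (hKW : K ≤ normalizer (W : Set G))
    (hcore : ∀ R : Subgroup G, K ⊓ centralizer (W : Set G) ≤ R → R ≤ K →
      K ≤ normalizer (R : Set G) →
      (∀ x ∈ R, ∃ n : ℕ, x ^ r ^ n ∈ centralizer (W : Set G)) → R ≤ centralizer (W : Set G))
    (hPK : P ≤ K) (hP : ∀ x ∈ P, ∃ n : ℕ, x ^ r ^ n ∈ centralizer (W : Set G))
    (hAP : A ≤ normalizer (P : Set G))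
    (hCP : K ⊓ centralizer (A : Set G) ≤ normalizer (P : Set G))
    {V : Type*} [AddCommGroup V] [Module (ZMod r) V] [Finite V] (e : W ≃ V)
    (he : ∀ u v : W, e (u * v) = e u + e v) {y : G} (hy : y ∈ P) (hyr : y ^ r ∈ centralizer (W : Set G))
    (hy1 : y ∉ centralizer (W : Set G)) :
    r ^ 3 ≤ (W ⊓ centralizer ({y} : Set G)).relIndex W := by
  classical
  by_contra hlt
  rw [not_le] at hlt
  have hr : r.Prime := Fact.out
  have hp : p.Prime := Fact.out
  set L := normalizer (W : Set G) with hL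
  let cf : L → W → W := fun g v =>
    ⟨(g : G) * v * (g : G)⁻¹, (mem_normalizer_iff.1 g.2 v).1 v.2⟩
  let cl : L → Module.End (ZMod r) V := fun g =>
    (AddMonoidHom.mk' (fun v : V => e (cf g (e.symm v))) (fun u v => by
      rw [← he]
      congr 1
      have h1 : e.symm (u + v) = e.symm u * e.symm v := by
        apply e.injective
        rw [he, e.apply_symm_apply, e.apply_symm_apply, e.apply_symm_apply]
      refine Subtype.ext ?_
      show (g : G) * (e.symm (u + v) : W) * (g : G)⁻¹ =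
        ((g : G) * (e.symm u : W) * (g : G)⁻¹) * ((g : G) * (e.symm v : W) * (g : G)⁻¹)
      rw [h1, Subgroup.coe_mul]
      group)).toZModLinearMap r
  have hcl : ∀ (g : L) (v : V), cl g v = e (cf g (e.symm v)) := fun g v => by
    simp only [cl, AddMonoidHom.coe_toZModLinearMap, AddMonoidHom.mk'_apply]
  let conjL : L →* Module.End (ZMod r) V :=
    { toFun := cl
      map_one' := LinearMap.ext fun v => e.symm.injective (Subtype.ext (by
        rw [hcl, Module.End.one_apply, e.symm_apply_apply]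
        show ((1 : L) : G) * ((e.symm v : W) : G) * ((1 : L) : G)⁻¹ = ((e.symm v : W) : G)
        simp))
      map_mul' := fun g g' => LinearMap.ext fun v => e.symm.injective (Subtype.ext (by
        rw [Module.End.mul_apply, hcl, hcl, hcl, e.symm_apply_apply, e.symm_apply_apply,
          e.symm_apply_apply]
        show ((g * g' : L) : G) * ((e.symm v : W) : G) * ((g * g' : L) : G)⁻¹ =
          (g : G) * ((g' : G) * ((e.symm v : W) : G) * (g' : G)⁻¹) * (g : G)⁻¹
        rw [Subgroup.coe_mul]; group)) }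
  let bs := Module.finBasis (ZMod r) V
  let θ₀ : L →* Matrix (Fin (Module.finrank (ZMod r) V))
      (Fin (Module.finrank (ZMod r) V)) (ZMod r) :=
    (MonoidHomClass.toMonoidHom (LinearMap.toMatrixAlgEquiv bs)).comp conjL
  have hker : ∀ g : L, θ₀ g = 1 ↔ (g : G) ∈ centralizer (W : Set G) := by
    intro g
    show LinearMap.toMatrixAlgEquiv bs (conjL g) = 1 ↔ _
    rw [map_eq_one_iff _ (LinearMap.toMatrixAlgEquiv bs).injective, mem_centralizer_iff]
    constructor
    · intro h v hv
      have h0 : cl g (e ⟨v, hv⟩) = e ⟨v, hv⟩ := DFunLike.congr_fun h (e ⟨v, hv⟩)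
      rw [hcl, e.symm_apply_apply] at h0
      have h2 : (g : G) * v * (g : G)⁻¹ = v := congrArg Subtype.val (e.injective h0)
      exact (mul_inv_eq_iff_eq_mul.1 h2).symm
    · intro h
      refine LinearMap.ext fun v => ?_
      refine e.symm.injective (Subtype.ext ?_)
      show ((e.symm (cl g v) : W) : G) = (e.symm v : W)
      rw [hcl, e.symm_apply_apply]
      show (g : G) * (e.symm v : W) * (g : G)⁻¹ = (e.symm v : W)
      rw [← h _ (SetLike.coe_mem _), mul_inv_cancel_right]
  set π := θ₀.toHomUnits.rangeRestrict with hπ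
  have hπ1 : ∀ g : L, π g = 1 ↔ (g : G) ∈ centralizer (W : Set G) := by
    intro g
    rw [← hker, Subtype.ext_iff, Units.ext_iff]
    rfl
  let θ : θ₀.toHomUnits.range →* Matrix (Fin (Module.finrank (ZMod r) V))
      (Fin (Module.finrank (ZMod r) V)) (ZMod r) :=
    (Units.coeHom _).comp θ₀.toHomUnits.range.subtype
  have hθ : Function.Injective θ := fun a c h => Subtype.ext (Units.ext h)
  have hPL : P ≤ L := hPK.trans hKW
  set Kb := (K.subgroupOf L).map π with hKb
  set Ab := (A.subgroupOf L).map π with hAb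
  set Pb := (P.subgroupOf L).map π with hPb
  have hnorm : ∀ (H : Subgroup G) (x : L), H ≤ L → (x : G) ∈ normalizer (H : Set G) →
      π x ∈ normalizer (((H.subgroupOf L).map π : Subgroup θ₀.toHomUnits.range) : Set _) := by
    intro H x hHL hx
    refine le_normalizer_map π ⟨x, ?_, rfl⟩
    rw [SetLike.mem_coe, mem_normalizer_iff]
    intro z
    exact mem_normalizer_iff.1 hx z
  set yL : L := ⟨y, hPL hy⟩ with hyL
  have hyo : orderOf (π yL) = r := by
    refine orderOf_eq_prime ?_ fun h => hy1 ((hπ1 yL).1 h)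
    rw [← map_pow, hπ1]
    exact hyr
  refine core_case hrp θ hθ (A := Ab) (K := Kb) (P := Pb) ?_ ?_ ?_ ?_ ?_ ?_ ?_ ?_ ?_ ?_
    (y := π yL) ⟨yL, hy, rfl⟩ hyo ?_
  · rintro ⟨_, a, ha, rfl⟩
    exact ⟨1, Subtype.ext (by
      rw [pow_one, SubmonoidClass.coe_pow, ← map_pow, OneMemClass.coe_one,
        show a ^ p = 1 from Subtype.ext (by simpa using hA.2 _ ha), map_one])⟩
  · rintro _ ⟨a, ha, rfl⟩
    rw [← map_pow, show a ^ p = 1 from Subtype.ext (by simpa using hA.2 _ ha), map_one]
  · haveI := hK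
    haveI : Group.IsSolvable (K.subgroupOf L) :=
      Group.isSolvable_of_surjective (f := (subgroupOfEquivOfLe hKW).symm.toMonoidHom)
        (subgroupOfEquivOfLe hKW).symm.surjective
    exact Group.isSolvable_of_surjective (π.subgroupMap_surjective (K.subgroupOf L))
  · intro h
    refine hKp (h.trans ?_)
    rw [← Nat.card_congr (subgroupOfEquivOfLe hKW).toEquiv]
    exact Subgroup.card_map_dvd (K.subgroupOf L) π
  · rintro _ ⟨a, ha, rfl⟩
    exact hnorm K a hKW (hAK ha)
  · intro R hRK hKR hRr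
    refine eq_bot_iff.2 fun x hx => ?_
    obtain ⟨k, hk, rfl⟩ := hRK hx
    rw [Subgroup.mem_bot, hπ1]
    set R₀ := (R.comap π).map L.subtype ⊓ K with hR₀
    refine hcore R₀ ?_ inf_le_right ?_ ?_ ⟨⟨k, hx, rfl⟩, hk⟩
    · rintro z ⟨hzK, hzC⟩
      refine ⟨⟨⟨z, hKW hzK⟩, ?_, rfl⟩, hzK⟩
      rw [SetLike.mem_coe, Subgroup.mem_comap, (hπ1 _).2 hzC]
      exact one_mem R
    · intro c hc
      have hcK : ∀ z ∈ R₀, ∀ c ∈ K, c * z * c⁻¹ ∈ R₀ := by
        rintro z ⟨⟨w, hw, rfl⟩, hzK⟩ c hc
        refine ⟨⟨⟨c, hKW hc⟩ * w * ⟨c, hKW hc⟩⁻¹, ?_, rfl⟩,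
          K.mul_mem (K.mul_mem hc hzK) (K.inv_mem hc)⟩
        rw [SetLike.mem_coe, Subgroup.mem_comap, map_mul, map_mul, map_inv]
        exact (mem_normalizer_iff.1 (hKR ⟨⟨c, hKW hc⟩, hc, rfl⟩) _).1 hw
      rw [mem_normalizer_iff]
      intro z
      refine ⟨fun hz => hcK z hz c hc, fun hz => ?_⟩
      have h := hcK _ hz c⁻¹ (inv_mem hc)
      rwa [show c⁻¹ * (c * z * c⁻¹) * c⁻¹⁻¹ = z by group] at h
    · rintro z ⟨⟨w, hw, rfl⟩, -⟩
      obtain ⟨n, hn⟩ := hRr ⟨π w, hw⟩
      refine ⟨n, ?_⟩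
      exact (hπ1 (w ^ r ^ n)).1 (by rw [map_pow]; exact congrArg Subtype.val hn)
  · exact Subgroup.map_mono (fun x hx => hPK hx)
  · rintro ⟨_, x, hx, rfl⟩
    obtain ⟨n, hn⟩ := hP _ hx
    refine ⟨n, Subtype.ext ?_⟩
    rw [SubmonoidClass.coe_pow, ← map_pow, OneMemClass.coe_one, hπ1]
    exact hn
  · rintro _ ⟨a, ha, rfl⟩
    exact hnorm P a hPL (hAP ha)
  · rintro _ ⟨k, hk, rfl⟩ hcomm
    have hAC : A ≤ normalizer ((K ⊓ centralizer (W : Set G) : Subgroup G) : Set G) := by
      intro a ha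
      have hC : ∀ b ∈ A, ∀ z ∈ K ⊓ centralizer (W : Set G),
          b * z * b⁻¹ ∈ K ⊓ centralizer (W : Set G) := by
        rintro b hb z ⟨hzK, hzC⟩
        refine ⟨(mem_normalizer_iff.1 (hAK hb) z).1 hzK, mem_centralizer_iff.2 fun v hv => ?_⟩
        have hv' : b⁻¹ * v * b ∈ W := by
          have := (mem_normalizer_iff.1 (inv_mem (hAW hb)) v).1 hv
          rwa [inv_inv] at this
        have h := mem_centralizer_iff.1 hzC _ hv'
        calc v * (b * z * b⁻¹) = b * ((b⁻¹ * v * b) * z) * b⁻¹ := by group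
          _ = b * (z * (b⁻¹ * v * b)) * b⁻¹ := by rw [h]
          _ = b * z * b⁻¹ * v := by group
      rw [mem_normalizer_iff]
      intro z
      refine ⟨hC a ha z, fun hz => ?_⟩
      have h := hC a⁻¹ (inv_mem ha) _ hz
      rwa [show a⁻¹ * (a * z * a⁻¹) * a⁻¹⁻¹ = z by group] at h
    have hAp : IsPGroup p A := fun a => ⟨1, Subtype.ext (by simpa using hA.2 a a.2)⟩
    have hAs : Group.IsSolvable A := by
      haveI := hAp.isNilpotent
      infer_instance
    have hcop : (Nat.card A).Coprime (Nat.card ↥(K ⊓ centralizer (W : Set G))) := by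
      obtain ⟨i, hi⟩ := IsPGroup.iff_card.1 hAp
      rw [hi]
      exact Nat.Coprime.pow_left _ ((Nat.Prime.coprime_iff_not_dvd hp).2 fun h =>
        hKp (h.trans (Subgroup.card_dvd_of_le inf_le_left)))
    obtain ⟨c, hcA, hcN⟩ := CfsgLib.Coprime.exists_commute_mem_coset A
      (K ⊓ centralizer (W : Set G)) hAC hcop (k : G) (fun a ha => by
        have h1 := hcomm (π ⟨a, hAW ha⟩) ⟨⟨a, hAW ha⟩, ha, rfl⟩
        refine ⟨K.mul_mem (K.inv_mem hk) ((mem_normalizer_iff.1 (hAK ha) _).1 hk), ?_⟩
        refine (hπ1 (k⁻¹ * (⟨a, hAW ha⟩ * k * ⟨a, hAW ha⟩⁻¹))).1 ?_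
        rw [map_mul, map_mul, map_mul, map_inv, map_inv, h1, mul_inv_cancel_right,
          inv_mul_cancel])
    have hcK : c ∈ K := by
      have := K.mul_mem (show (k : G) ∈ K from hk) hcN.1
      rwa [mul_inv_cancel_left] at this
    have hπc : π ⟨c, hKW hcK⟩ = π k := by
      have h := (hπ1 (k⁻¹ * ⟨c, hKW hcK⟩)).2 hcN.2
      rw [map_mul, map_inv, inv_mul_eq_one] at h
      exact h.symm
    rw [← hπc]
    exact hnorm P _ hPL (hCP ⟨hcK, mem_centralizer_iff.2 hcA⟩)
  · set f : Module.End (ZMod r) V := conjL yL - 1 with hf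
    have he : θ (π yL) - 1 = LinearMap.toMatrixAlgEquiv bs f := by
      rw [hf, map_sub, map_one]
      rfl
    have hrank : (θ (π yL) - 1).rank = Module.finrank (ZMod r) (LinearMap.range f) := by
      rw [he, Matrix.rank_eq_finrank_range_toLin _ bs bs,
        show Matrix.toLin bs bs (LinearMap.toMatrixAlgEquiv bs f) = f from
          Matrix.toLin_toMatrix bs bs f]
    rw [hrank]
    set D := (W ⊓ centralizer ({y} : Set G)).subgroupOf W with hD
    have hkerf : Nat.card (LinearMap.ker f) = Nat.card D := by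
      refine Nat.card_congr (Equiv.subtypeEquiv e.symm fun v => ?_)
      rw [LinearMap.mem_ker, hf, LinearMap.sub_apply, Module.End.one_apply, sub_eq_zero,
        hD, Subgroup.mem_subgroupOf, Subgroup.mem_inf, mem_centralizer_iff]
      constructor
      · intro h
        refine ⟨SetLike.coe_mem _, ?_⟩
        rintro x (rfl : x = y)
        have h1 : cl yL v = v := h
        rw [hcl] at h1
        have h2 : x * (e.symm v : W) * x⁻¹ = (e.symm v : W) :=
          congrArg Subtype.val (e.eq_symm_apply.2 h1)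
        exact mul_inv_eq_iff_eq_mul.1 h2
      · rintro ⟨-, h⟩
        refine e.symm.injective (Subtype.ext ?_)
        show ((e.symm (cl yL v) : W) : G) = (e.symm v : W)
        rw [hcl, e.symm_apply_apply]
        show y * (e.symm v : W) * y⁻¹ = (e.symm v : W)
        rw [h y rfl, mul_inv_cancel_right]
    have hcard := Submodule.card_eq_card_quotient_mul_card (LinearMap.ker f)
    rw [Nat.card_congr f.quotKerEquivRange.toEquiv, hkerf,
      show Nat.card V = Nat.card W from Nat.card_congr e.symm] at hcard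
    have hidx : Nat.card D * D.index = Nat.card W := Subgroup.card_mul_index D
    rw [← hidx] at hcard
    have hfin : Nat.card (LinearMap.range f) = D.index :=
      (Nat.eq_of_mul_eq_mul_left Nat.card_pos hcard).symm
    have hlt' : Nat.card (LinearMap.range f) < r ^ 3 := by
      rw [hfin]
      exact hlt
    rw [Module.natCard_eq_pow_finrank (K := ZMod r), Nat.card_zmod] at hlt'
    have := (Nat.pow_lt_pow_iff_right hr.one_lt).1 hlt'
    omega


/-- Let `A` act on the solvable `p'`-group `K`, both normalising the elementary abelian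
`r`-group `W`, with no normal `r`-subgroup in the image of `K`. An element of order `r` on `W`
lying in an `r`-subgroup normalised by `A` and `C_K(A)` has rank at least three on `W`. -/
theorem rank_bound_le {G : Type*} [Group G] [Finite G] {p r : ℕ} [Fact p.Prime] [Fact r.Prime]
    (hrp : r ≠ p) {A K W P : Subgroup G} (hA : Cfsg.IsElementaryAbelian p A)
    (hW : Cfsg.IsElementaryAbelian r W) (hK : Group.IsSolvable K) (hKp : ¬ p ∣ Nat.card K)
    (hAK : A ≤ normalizer (K : Set G)) (hAW : A ≤ normalizer (W : Set G))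
    (hKW : K ≤ normalizer (W : Set G))
    (hcore : ∀ R : Subgroup G, K ⊓ centralizer (W : Set G) ≤ R → R ≤ K →
      K ≤ normalizer (R : Set G) →
      (∀ x ∈ R, ∃ n : ℕ, x ^ r ^ n ∈ centralizer (W : Set G)) → R ≤ centralizer (W : Set G))
    (hPK : P ≤ K) (hP : ∀ x ∈ P, ∃ n : ℕ, x ^ r ^ n ∈ centralizer (W : Set G))
    (hAP : A ≤ normalizer (P : Set G))
    (hCP : K ⊓ centralizer (A : Set G) ≤ normalizer (P : Set G))
    {y : G} (hy : y ∈ P) (hyr : y ^ r ∈ centralizer (W : Set G))
    (hy1 : y ∉ centralizer (W : Set G)) :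
    r ^ 3 ≤ (W ⊓ centralizer ({y} : Set G)).relIndex W := by
  classical
  letI : CommGroup W := { (inferInstance : Group W) with mul_comm := hW.1.is_comm.comm }
  haveI : Finite (Additive W) := Finite.of_equiv W Additive.ofMul
  letI : Module (ZMod r) (Additive W) := AddCommGroup.zmodModule fun v =>
    (show v.toMul ^ r = 1 from Subtype.ext (by simpa using hW.2 v.toMul v.toMul.2))
  exact rank_bound_aux hrp hA hW hK hKp hAK hAW hKW hcore hPK hP hAP hCP
    (V := Additive W) Additive.ofMul (fun _ _ => rfl) hy hyr hy1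

/-- Every element of order `r` in the setting `RSetting` has rank at least three. -/
theorem rank_bound (G : Type*) [Group G] [Finite G] : RankBound G :=
  fun _ _ _ _ _ _ _ _ h _ hy hyr hy1 =>
    rank_bound_le h.ne h.elA h.elW h.solv h.cop h.AK h.AW h.KW h.core h.PK h.Pr h.AP h.CP hy hyr hy1

end CfsgLib.SFT
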