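import Cfsg.Agent.SFT.MasterUniq
import Cfsg.Agent.SFT.RankBound

/-!
Bender's method for maximal members: cores of a member containing the Fitting subgroup of another,
and equality of maximal members containing each other's Fitting subgroups.
-/

set_option autoImplicit false
set_option linter.unusedSectionVars false
set_option linter.style.haveILetI false
set_option linter.deprecated false

namespace CfsgLib.SFT

open Subgroup Pointwise CfsgLib.SZ

universe u

variable {G : Type u} [Group G] [Finite G] {p : ℕ} [Fact p.Prime] {A : Subgroup G}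
  {θ : G → Subgroup G} {M L : Subgroup G}

local notation "C" => Cfsg.signalizerInf A θ

/-- The primes of the nontrivial cores. -/
def Delta (M : Subgroup G) (t : ℕ) : Prop := t.Prime ∧ oc t M ≠ ⊥

/-- There are at least two nontrivial cores. -/
def Multi (M : Subgroup G) : Prop := ∃ s t, Delta M s ∧ Delta M t ∧ s ≠ t

/-- All cores of `M` lie in `L`. -/
def FitLE (M L : Subgroup G) : Prop := ∀ t : ℕ, t.Prime → oc t M ≤ L

theorem Multi.exists_ne (hM : Multi M) (r : ℕ) : ∃ t, Delta M t ∧ t ≠ r := by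
  obtain ⟨s, t, hs, ht, hst⟩ := hM
  by_cases h : s = r
  · exact ⟨t, ht, fun e => hst (h.trans e.symm)⟩
  · exact ⟨s, hs, h⟩

theorem Delta.dvd {t : ℕ} (h : Delta M t) : t ∣ Nat.card M := by
  haveI := Fact.mk h.1
  exact oc_ne_bot_imp_dvd h.2

theorem le_of_oc_eq_bot {t : ℕ} (hMt : oc t M = ⊥) : oc t M ≤ L := hMt ▸ bot_le

namespace MinCex

variable (h : MinCex p A θ)
include h

theorem cc_unique (hM : IsCC p A θ M) (hL : IsCC p A θ L) (hle : M ≤ L) : L = M :=
  hM.2.2 L hL.1 hle

theorem delta_ne_p (hM : IsCC p A θ M) {t : ℕ} (ht : Delta M t) : t ≠ p := fun e =>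
  hM.1.2.1 (e ▸ ht.dvd)

theorem multi_or_single (hM : IsCC p A θ M) :
    Multi M ∨ ∃ r : ℕ, r.Prime ∧ Single p A θ r M := by
  obtain ⟨r, hr, hne⟩ := h.exists_oc_ne_bot hM
  by_cases hm : ∀ t : ℕ, t.Prime → t ≠ r → oc t M = ⊥
  · exact Or.inr ⟨r, hr, hM, hm⟩
  · push Not at hm
    obtain ⟨t, ht, htr, htn⟩ := hm
    exact Or.inl ⟨t, r, ⟨ht, htn⟩, ⟨hr, hne⟩, htr⟩

theorem delta_single {r t : ℕ} (hM : Single p A θ r M) (ht : Delta M t) : t = r :=
  by_contra fun hne => ht.2 (hM.other t ht.1 hne)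

theorem not_multi {r : ℕ} (hM : Single p A θ r M) : ¬ Multi M := fun hm => by
  obtain ⟨t, ht, hne⟩ := hm.exists_ne r
  exact hne (h.delta_single hM ht)

/-- The centralizer in a member of a nontrivial core of `M` lies in `M`. -/
theorem inf_centralizer_oc_le (hM : IsCC p A θ M) {t : ℕ} (ht : oc t M ≠ ⊥) {X : Subgroup G}
    (hX : Mem p A θ X) : X ⊓ centralizer (oc t M : Set G) ≤ M :=
  h.le_cc_oc hM ht (h.mem_of_le hX inf_le_left (le_normalizer_inf (h.A_le_normalizer hX)
      (le_normalizer_centralizer (le_normalizer_oc_of_le t (h.A_le_normalizer hM.1)))))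
    (inf_le_right.trans (centralizer_le_normalizer (oc t M : Set G)))

/-- A second core of `M` in `L` lies in the `r'`-core of `L`, for an `r`-core of `M` in `L`. -/
theorem oc_le_oc' (hM : IsCC p A θ M) (hL : Mem p A θ L) {r t : ℕ} [Fact r.Prime] [Fact t.Prime]
    (htr : t ≠ r) (hr : oc r M ≠ ⊥) (hrL : oc r M ≤ L) (htL : oc t M ≤ L) :
    oc t M ≤ oc' r L :=
  lift hL.1 hrL htL (isPGroup_oc r M) (le_centralizer_oc htr)
    ((h.inf_centralizer_oc_le hM hr hL).trans (le_normalizer_oc t M))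
    (pgroup_coprime_prime htr (isPGroup_oc t M))

/-- If `L` contains the cores of `M` then `O_r(L)` lies in `M` for the core primes of `M`. -/
theorem oc_le_of_fitLE (hM : IsCC p A θ M) (hL : Mem p A θ L) (hm : Multi M) (hF : FitLE M L)
    {r : ℕ} (hr : Delta M r) : oc r L ≤ M := by
  haveI := Fact.mk hr.1
  obtain ⟨t, ht, htr⟩ := hm.exists_ne r
  haveI := Fact.mk ht.1
  have h1 := (h.oc_le_oc' hM hL htr hr.2 (hF r hr.1) (hF t ht.1)).trans (oc'_le_centralizer_oc r L)
  exact h.le_cc_oc hM ht.2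
    (h.mem_of_le hL (oc_le r L) (le_normalizer_oc_of_le r (h.A_le_normalizer hL)))
    ((le_centralizer_symm h1).trans (centralizer_le_normalizer (oc t M : Set G)))

/-- The cores of `L` at the other primes meet `M` trivially. -/
theorem oc_inf_eq_bot (hM : IsCC p A θ M) (hF : FitLE M L) {r : ℕ} (hr : r.Prime)
    (hr' : oc r M = ⊥) : oc r L ⊓ M = ⊥ := by
  haveI := Fact.mk hr
  refine le_bot_iff.1 (le_trans (le_oc_of_centralizes hM.1.1 inf_le_right
    ((isPGroup_oc r L).to_le inf_le_left) fun t ht => ?_) hr'.le)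
  haveI := Fact.mk ht
  by_cases htr : t = r
  · rw [htr, hr']
    exact fun g _ => mem_centralizer_iff.2 fun v hv => by rw [mem_bot.1 hv]; simp
  exact commute_of_coprime (inf_le_right.trans (le_normalizer_oc t M))
    (le_normalizer_inf ((hF t ht).trans (le_normalizer_oc r L)) ((oc_le t M).trans le_normalizer))
    (coprime_of_pgroup_ne (Ne.symm htr) ((isPGroup_oc r L).to_le inf_le_left) (isPGroup_oc t M))

theorem delta_iff_of_mutual (hM : IsCC p A θ M) (hL : IsCC p A θ L) (hML : FitLE M L)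
    (hLM : FitLE L M) (t : ℕ) : Delta M t ↔ Delta L t := by
  refine ⟨fun ht => ⟨ht.1, fun e => ht.2 ?_⟩, fun ht => ⟨ht.1, fun e => ht.2 ?_⟩⟩
  · rw [← h.oc_inf_eq_bot hL hLM ht.1 e, inf_eq_left.2 (hML t ht.1)]
  · rw [← h.oc_inf_eq_bot hM hML ht.1 e, inf_eq_left.2 (hLM t ht.1)]

/-- Two maximal members, one with two cores, containing each other's cores are equal. -/
theorem eq_of_mutual (hM : IsCC p A θ M) (hL : IsCC p A θ L) (hm : Multi M) (hML : FitLE M L)
    (hLM : FitLE L M) : L = M := by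
  have hΔ := h.delta_iff_of_mutual hM hL hML hLM
  have hmL : Multi L := by
    obtain ⟨s, t, hs, ht, hst⟩ := hm
    exact ⟨s, t, (hΔ s).1 hs, (hΔ t).1 ht, hst⟩
  obtain ⟨s, t, hs, ht, hst⟩ := hm
  haveI := Fact.mk hs.1
  haveI := Fact.mk ht.1
  have hm : Multi M := ⟨s, t, hs, ht, hst⟩
  -- the `s'`-core of one member lies in the other
  have key : ∀ {M L : Subgroup G}, IsCC p A θ M → IsCC p A θ L → FitLE M L → FitLE L M →
      Delta M s → Delta L s → oc' s M ≤ L := by
    intro M L hM hL hML hLM hs hsL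
    have hc : oc s L ≤ centralizer (oc' s M : Set G) := by
      refine le_centralizer_of_cores (isSolvable_of_le (oc'_le s M) hM.1.1)
        ((hLM s hs.1).trans (le_normalizer_oc' s M))
        (coprime_of_pgroup (isPGroup_oc s L) (coprime_card_oc' s M)) fun q hq => ?_
      haveI := Fact.mk hq
      by_cases hqs : q = s
      · subst hqs
        rw [eq_bot_of_pgroup_of_coprime (isPGroup_oc q (oc' q M))
          ((coprime_card_oc' q M).coprime_dvd_left (card_dvd_of_le (oc_le q _)))]
        exact fun g _ => mem_centralizer_iff.2 fun v hv => by rw [mem_bot.1 hv]; simp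
      · have h1 : oc q (oc' s M) ≤ oc q M := le_oc ((oc_le q _).trans (oc'_le s M))
          (isPGroup_oc q _) (le_normalizer_oc_of_le q (le_normalizer_oc' s M))
        refine le_centralizer_symm (h1.trans ?_)
        exact ((h.oc_le_oc' hM hL.1 hqs hs.2 (hML s hs.1) (hML q hq)).trans
          (oc'_le_centralizer_oc s L))
    exact h.le_cc_oc hL hsL.2
      (h.mem_of_le hM.1 (oc'_le s M) (le_normalizer_oc'_of_le s (h.A_le_normalizer hM.1)))
      ((le_centralizer_symm hc).trans (centralizer_le_normalizer (oc s L : Set G)))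
  have hsL := (hΔ s).1 hs
  have into : ∀ {M L : Subgroup G}, IsCC p A θ M → IsCC p A θ L → FitLE L M → Delta L s →
      oc' s L ≤ M → oc' s L ≤ oc' s M := fun {M L} hM hL hLM hsL hle =>
    lift hM.1.1 (hLM s hsL.1) hle (isPGroup_oc s L) (oc'_le_centralizer_oc s L)
      ((h.inf_centralizer_oc_le hL hsL.2 hM.1).trans (le_normalizer_oc' s L))
      (coprime_card_oc' s L)
  have he : oc' s L = oc' s M :=
    le_antisymm (into hM hL hLM hsL (key hL hM hLM hML hsL hs))
      (into hL hM hML hs (key hM hL hML hLM hs hsL))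
  have hne : oc' s M ≠ ⊥ := fun e => ht.2 (le_bot_iff.1 (le_of_le_of_eq
    (le_oc' (oc_le t M) (pgroup_coprime_prime hst.symm (isPGroup_oc t M)) (le_normalizer_oc t M)) e))
  exact (h.cc_unique hL hM (h.le_cc hM (oc'_le s M) hne
    (le_normalizer_oc'_of_le s (h.A_le_normalizer hM.1)) (le_normalizer_oc' s M) hL.1
    (he ▸ le_normalizer_oc' s L))).symm

theorem oc'_eq_bot {t : ℕ} [Fact t.Prime] (hM : Single p A θ t M) : oc' t M = ⊥ := by
  by_contra hne
  obtain ⟨q, hq, hqn⟩ := CfsgLib.SFT.exists_oc_ne_bot (isSolvable_of_le (oc'_le t M) hM.cc.1.1) hne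
  haveI := Fact.mk hq
  by_cases hqt : q = t
  · subst hqt
    exact hqn (eq_bot_of_pgroup_of_coprime (isPGroup_oc q (oc' q M))
      ((coprime_card_oc' q M).coprime_dvd_left (card_dvd_of_le (oc_le q _))))
  · exact hqn (le_bot_iff.1 ((le_oc ((oc_le q _).trans (oc'_le t M)) (isPGroup_oc q _)
      (le_normalizer_oc_of_le q (le_normalizer_oc' t M))).trans (hM.other q hq hqt).le))

/-- A single-core member cannot contain two cores of another, one at its own prime. -/
theorem false_of_two_cores {N : Subgroup G} {r t : ℕ} [Fact r.Prime] [Fact t.Prime]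
    (hN : IsCC p A θ N) (hL : Single p A θ t L) (hr : oc r N ≠ ⊥) (ht : oc t N ≠ ⊥) (hrt : r ≠ t)
    (hrL : oc r N ≤ L) (htL : oc t N ≤ L) : False :=
  hr (le_bot_iff.1 ((h.oc_le_oc' hN hL.cc.1 hrt ht htL hrL).trans (h.oc'_eq_bot hL).le))

/-- Single-core members at different primes do not contain each other's cores. -/
theorem false_of_mutual_single {r s : ℕ} [Fact r.Prime] [Fact s.Prime] (hM : Single p A θ r M)
    (hL : Single p A θ s L) (hrs : r ≠ s) (hrL : oc r M ≤ L) (hsM : oc s L ≤ M) : False := by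
  refine hL.oc_ne_bot h ?_
  rw [← inf_eq_left.2 hsM]
  refine h.oc_inf_eq_bot hM.cc (fun t ht => ?_) Fact.out (hM.other s Fact.out hrs.symm)
  by_cases htr : t = r
  · exact htr ▸ hrL
  · exact le_of_oc_eq_bot (hM.other t ht htr)

end MinCex

end CfsgLib.SFT
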