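import Cfsg.Agent.SFT.RMod

/-!
An element with small rank on a module lies in the largest normal subgroup that is an `r`-group
modulo the kernel of the action.
-/

set_option autoImplicit false
set_option linter.unusedSectionVars false
set_option linter.style.haveILetI false
set_option linter.deprecated false

namespace CfsgLib.SFT

open Subgroup Pointwise CfsgLib.SZ

universe u

/-- An element whose `r`-th power is trivial on the module and whose action on a normal series with
two terms is trivial has order dividing `r` on the module. -/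
theorem pow_mem_centralizer {G : Type u} [Group G] {r : ℕ} {U W : Subgroup G}
    (hU : ∀ z ∈ U, z ^ r = 1) {l : G} (hlU : l ∈ centralizer (U : Set G))
    (hl : ∀ w ∈ W, w⁻¹ * (l * w * l⁻¹) ∈ U) : l ^ r ∈ centralizer (W : Set G) := by
  refine mem_centralizer_iff.2 fun w hw => ?_
  set z := w⁻¹ * (l * w * l⁻¹) with hz
  have hzU := hl w hw
  have hlw : l * w * l⁻¹ = w * z := by rw [hz]; group
  have hlz : l * z * l⁻¹ = z := by
    rw [← mem_centralizer_iff.1 hlU z hzU, mul_inv_cancel_right]
  have key : ∀ i : ℕ, l ^ i * w * (l ^ i)⁻¹ = w * z ^ i := by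
    intro i
    induction i with
    | zero => simp
    | succ i ih =>
      calc l ^ (i + 1) * w * (l ^ (i + 1))⁻¹ = l * (l ^ i * w * (l ^ i)⁻¹) * l⁻¹ := by
            rw [pow_succ']; group
        _ = l * (w * z ^ i) * l⁻¹ := by rw [ih]
        _ = (l * w * l⁻¹) * (l * z * l⁻¹) ^ i := by rw [conj_pow]; group
        _ = w * z ^ (i + 1) := by rw [hlw, hlz, pow_succ']; group
  have h1 := key r
  rw [hU z hzU, mul_one] at h1
  exact (mul_inv_eq_iff_eq_mul.1 h1).symm

variable {G : Type u} [Group G] [Finite G]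

theorem mem_rcore_of_small_aux (hK : ∀ (H : Type u) [Group H] [Finite H], RankBound H)
    {p r : ℕ} [Fact p.Prime] [Fact r.Prime] (hrp : r ≠ p) (n : ℕ) :
    ∀ (G : Type u) [Group G] [Finite G] (A L W X : Subgroup G), Nat.card W = n →
      Cfsg.IsElementaryAbelian p A → Cfsg.IsElementaryAbelian r W → Group.IsSolvable L →
      ¬ p ∣ Nat.card L → A ≤ normalizer (L : Set G) → A ≤ normalizer (W : Set G) →
      L ≤ normalizer (W : Set G) → X ≤ L → IsPGroup r X → A ≤ normalizer (X : Set G) →
      L ⊓ centralizer (A : Set G) ≤ normalizer (X : Set G) →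
      ∀ u ∈ X, u ^ r ∈ centralizer (W : Set G) →
        (W ⊓ centralizer ({u} : Set G)).relIndex W < r ^ 3 →
        u ∈ rcore r L (centralizer (W : Set G)) := by
  induction n using Nat.strong_induction_on with | _ n ih => ?_
  intro G _ _ A L W X hn hA hW hLs hLp hAL hAW hLW hXL hX hAX hCX u hu hur hlt
  have hLC : L ≤ normalizer (centralizer (W : Set G) : Set G) :=
    le_normalizer_centralizer hLW
  have hker : L ⊓ centralizer (W : Set G) ≤ rcore r L (centralizer (W : Set G)) :=
    le_rcore inf_le_left (le_normalizer_inf le_normalizer hLC)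
      fun x hx => ⟨0, by simpa using hx.2⟩
  by_cases hW1 : W = ⊥
  · refine hker ⟨hXL hu, ?_⟩
    rw [hW1]
    exact mem_centralizer_iff.2 fun v hv => by rw [mem_bot.1 hv]; simp
  obtain ⟨U, hUW, ⟨hU1, hLU, hAU⟩, hmin⟩ := exists_minimal_le_of_wellFoundedLT
    (fun V : Subgroup G => V ≠ ⊥ ∧ L ≤ normalizer (V : Set G) ∧ A ≤ normalizer (V : Set G))
    W ⟨hW1, hLW, hAW⟩
  have hUe : Cfsg.IsElementaryAbelian r U :=
    CfsgLib.Signalizer.of_le hW hUW
  have huU : u ∈ centralizer (U : Set G) := by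
    by_contra hne
    have hS : RSetting p r A L U X := by
      refine ⟨hrp, hA, hUe, hLs, hLp, hAL, hAU, hLU, ?_, hXL, ?_, hAX, hCX⟩
      · intro R _ hRL hLR hRr
        have h1 : R ≤ rcore r L (centralizer (U : Set G)) := le_rcore hRL hLR hRr
        refine h1.trans ?_
        set R₁ := rcore r L (centralizer (U : Set G))
        have hR₁ : RMod r R₁ (centralizer (U : Set G)) :=
          rmod_rcore r (le_normalizer_centralizer hLU)
        have hR₁L : R₁ ≤ L := rcore_le r L _
        haveI := hUe.1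
        have hne0 : U ⊓ centralizer (R₁ : Set G) ≠ ⊥ :=
          inf_centralizer_ne_bot_of_rmod
            (fun w => ⟨1, Subtype.ext (by simpa using hUe.2 w w.2)⟩) hU1 (hR₁L.trans hLU) hR₁
        have hn1 : L ≤ normalizer ((U ⊓ centralizer (R₁ : Set G) : Subgroup G) : Set G) :=
          le_normalizer_inf hLU (le_normalizer_centralizer (le_normalizer_rcore r L _))
        have hn2 : A ≤ normalizer ((U ⊓ centralizer (R₁ : Set G) : Subgroup G) : Set G) :=
          le_normalizer_inf hAU (le_normalizer_centralizer (le_normalizer_rcore_of_le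
            (le_normalizer_centralizer hLU) hAL (le_normalizer_centralizer hAU)))
        exact le_centralizer_symm ((hmin ⟨hne0, hn1, hn2⟩ inf_le_left).trans inf_le_right)
      · exact RMod.of_pgroup hX _
    have h1 := hK G p r A L U X hS u hu
      (centralizer_le (by exact_mod_cast hUW) hur) hne
    have h2 : (U ⊓ centralizer ({u} : Set G)).relIndex U ≤
        (W ⊓ centralizer ({u} : Set G)).relIndex W := by
      rw [inf_relIndex_left, inf_relIndex_left]
      exact relIndex_le_of_le_right hUW (by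
        rw [← inf_relIndex_left]; exact index_ne_zero_of_finite)
    omega
  -- the quotient by `U`
  set N := normalizer (U : Set G)
  set U' := U.subgroupOf N
  haveI : U'.Normal := normal_in_normalizer
  let f := QuotientGroup.mk' U'
  set q : Subgroup G → Subgroup (N ⧸ U') := fun S => (S.subgroupOf N).map f
  have hWN : W ≤ N := fun w hw => mem_normalizer_of_conj fun z hz => by
    rw [CfsgLib.Signalizer.commute hW hw (hUW hz), mul_inv_cancel_right]
    exact hz
  have hqn : ∀ S T : Subgroup G, S ≤ normalizer (T : Set G) →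
      q S ≤ normalizer (q T : Set (N ⧸ U')) := fun S T hST =>
    le_trans (map_mono fun s hs => mem_normalizer_iff.2 fun t => mem_normalizer_iff.1 (hST hs) t)
      (le_normalizer_map f)
  have hqd : ∀ S : Subgroup G, S ≤ N → Nat.card (q S) ∣ Nat.card S := fun S hS =>
    (card_map_dvd _ f).trans (by rw [Nat.card_congr (subgroupOfEquivOfLe hS).toEquiv])
  have hel : ∀ (s : ℕ) [Fact s.Prime] (S : Subgroup G), Cfsg.IsElementaryAbelian s S →
      Cfsg.IsElementaryAbelian s (q S) := by
    intro s _ S hS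
    refine ⟨⟨⟨?_⟩⟩, ?_⟩
    · rintro ⟨_, x, hx, rfl⟩ ⟨_, y, hy, rfl⟩
      refine Subtype.ext (show f x * f y = f y * f x from ?_)
      rw [← map_mul, ← map_mul]
      exact congrArg f (Subtype.ext (CfsgLib.Signalizer.commute hS hx hy))
    · rintro _ ⟨x, hx, rfl⟩
      rw [← map_pow, show x ^ s = 1 from Subtype.ext (by simpa using hS.2 x hx), map_one]
  have hlt' : Nat.card (q W) < n := by
    have h1 : Nat.card (q W) = U.relIndex W := by
      show Nat.card ((W.subgroupOf N).map f) = _
      rw [← relIndex_ker, QuotientGroup.ker_mk', relIndex_subgroupOf hWN]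
    have h2 : Nat.card U * U.relIndex W = Nat.card W := by
      rw [← relIndex_bot_left, ← relIndex_bot_left]
      exact relIndex_mul_relIndex ⊥ U W bot_le hUW
    rw [← hn, h1, ← h2]
    exact lt_mul_of_one_lt_left (Nat.pos_of_ne_zero index_ne_zero_of_finite)
      ((one_lt_card_iff_ne_bot U).2 hU1)
  haveI : Group.IsSolvable (L.subgroupOf N) :=
    Group.isSolvable_of_isSolvable_injective (f := (subgroupOfEquivOfLe hLU).toMonoidHom)
      (MulEquiv.injective _)
  have hcopA : (Nat.card A).Coprime (Nat.card L) := CfsgLib.Signalizer.coprime_card hA hLp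
  have hu' : f ⟨u, hLU (hXL hu)⟩ ∈ rcore r (q L) (centralizer (q W : Set (N ⧸ U'))) := by
    refine ih _ hlt' (N ⧸ U') (q A) (q L) (q W) (q X) rfl (hel p A hA) (hel r W hW)
      (Group.isSolvable_of_surjective (f.subgroupMap_surjective _))
      (fun hd => hLp (hd.trans (hqd L hLU))) (hqn A L hAL) (hqn A W hAW) (hqn L W hLW)
      (map_mono fun x hx => hXL hx) ((hX.comap_subtype).map f) (hqn A X hAX) ?_ _
      ⟨⟨u, hLU (hXL hu)⟩, hu, rfl⟩ ?_ ?_
    · rintro _ ⟨⟨k, hk, rfl⟩, hkc⟩
      haveI := CfsgLib.Signalizer.isSolvable hA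
      obtain ⟨c, hc, hkc'⟩ := CfsgLib.CoprimeAct.exists_centralizing_mem_coset (N := U ⊓ L) hAL hcopA
        inf_le_right (le_normalizer_inf hAU hAL) (Or.inl inferInstance) (show (k : G) ∈ L from hk)
        (fun a ha => by
          have hfa : f (⟨a, hAU ha⟩ : N) * f k = f k * f ⟨a, hAU ha⟩ :=
            mem_centralizer_iff.1 hkc _ ⟨⟨a, hAU ha⟩, ha, rfl⟩
          have h3 : f (k⁻¹ * (⟨a, hAU ha⟩ * k * ⟨a, hAU ha⟩⁻¹)) = 1 := by
            rw [map_mul, map_inv, map_mul, map_mul, map_inv, hfa, mul_inv_cancel_right,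
              inv_mul_cancel]
          refine ⟨by simpa [U', mem_subgroupOf] using (QuotientGroup.eq_one_iff _).1 h3, ?_⟩
          exact L.mul_mem (L.inv_mem hk) ((mem_normalizer_iff.1 (hAL ha) _).1 hk))
      have hcN : c ∈ N := hLU hc.1
      have hfc : f k = f ⟨c, hcN⟩ := QuotientGroup.eq.2 (by simpa [U', mem_subgroupOf] using hkc'.1)
      rw [hfc]
      exact le_normalizer_map f ⟨⟨c, hcN⟩, mem_normalizer_iff.2 fun t => by
        simpa [mem_subgroupOf] using mem_normalizer_iff.1 (hCX ⟨hc.1, hc.2⟩) (t : G), rfl⟩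
    · refine mem_centralizer_iff.2 ?_
      rintro _ ⟨w, hw, rfl⟩
      rw [← map_pow, ← map_mul, ← map_mul]
      exact congrArg f (Subtype.ext (by simpa using mem_centralizer_iff.1 hur w hw))
    · refine lt_of_le_of_lt ?_ hlt
      have h1 : ((W ⊓ centralizer ({u} : Set G)).subgroupOf N).map f ≤
          q W ⊓ centralizer ({f ⟨u, hLU (hXL hu)⟩} : Set (N ⧸ U')) := by
        rintro _ ⟨w, hw, rfl⟩
        refine ⟨⟨w, hw.1, rfl⟩, mem_centralizer_singleton_iff.2 ?_⟩
        rw [← map_mul, ← map_mul]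
        exact congrArg f (Subtype.ext (mem_centralizer_singleton_iff.1 hw.2))
      refine (Nat.le_of_dvd (Nat.pos_of_ne_zero index_ne_zero_of_finite)
        (relIndex_dvd_of_le_left (q W) h1)).trans ?_
      have h2 : (W.subgroupOf N) ⊔ f.ker = W.subgroupOf N := sup_eq_left.2 (by
        rw [QuotientGroup.ker_mk']; exact fun x hx => hUW hx)
      show (((W ⊓ centralizer ({u} : Set G)).subgroupOf N).map f).relIndex
        ((W.subgroupOf N).map f) ≤ _
      rw [relIndex_map_map, h2]
      refine (Nat.le_of_dvd (Nat.pos_of_ne_zero index_ne_zero_of_finite)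
        (relIndex_dvd_of_le_left _ le_sup_left)).trans (le_of_eq ?_)
      exact relIndex_subgroupOf hWN
  -- back to `G`
  set R₃ := L ⊓ centralizer (U : Set G) ⊓
    ((rcore r (q L) (centralizer (q W : Set (N ⧸ U')))).comap f).map N.subtype
  refine (show R₃ ≤ _ from ?_) ⟨⟨hXL hu, huU⟩, ⟨⟨u, hLU (hXL hu)⟩, hu', rfl⟩⟩
  refine le_rcore (inf_le_left.trans inf_le_left)
    (le_normalizer_inf (le_normalizer_inf le_normalizer (le_normalizer_centralizer hLU)) ?_) ?_
  · intro l hl
    refine mem_normalizer_of_conj ?_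
    rintro _ ⟨x, hx, rfl⟩
    refine ⟨⟨l, hLU hl⟩ * x * ⟨l, hLU hl⟩⁻¹, ?_, rfl⟩
    have h1 := conj_mem (le_normalizer_rcore r (q L) (centralizer (q W : Set (N ⧸ U'))))
      (show f ⟨l, hLU hl⟩ ∈ q L from ⟨⟨l, hLU hl⟩, hl, rfl⟩) (show f x ∈ _ from hx)
    show f (_ * _ * _) ∈ rcore r (q L) (centralizer (q W : Set (N ⧸ U')))
    rwa [map_mul, map_mul, map_inv]
  · rintro _ ⟨⟨hxL, hxU⟩, x, hx, rfl⟩
    obtain ⟨m, hm⟩ := rmod_rcore r (le_normalizer_centralizer (hqn L W hLW)) (f x) hx
    refine ⟨m + 1, ?_⟩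
    rw [pow_succ, pow_mul]
    refine pow_mem_centralizer (U := U) hUe.2 (pow_mem hxU _) fun w hw => ?_
    have h1 := mem_centralizer_iff.1 hm (f ⟨w, hWN hw⟩) ⟨⟨w, hWN hw⟩, hw, rfl⟩
    rw [← map_pow, ← map_mul, ← map_mul] at h1
    have h2 : f ((⟨w, hWN hw⟩ : N)⁻¹ * (x ^ r ^ m * ⟨w, hWN hw⟩ * (x ^ r ^ m)⁻¹)) = 1 := by
      rw [map_mul, map_mul f (_ * _), ← h1, ← map_mul, ← map_mul]
      simp [mul_assoc]
    simpa [U', mem_subgroupOf] using (QuotientGroup.eq_one_iff _).1 h2

/-- An element of small rank lies in the largest normal `r`-subgroup modulo the kernel. -/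
theorem mem_rcore_of_small (hK : ∀ (H : Type u) [Group H] [Finite H], RankBound H)
    {p r : ℕ} [Fact p.Prime] [Fact r.Prime] (hrp : r ≠ p) {A L W X : Subgroup G}
    (hA : Cfsg.IsElementaryAbelian p A) (hW : Cfsg.IsElementaryAbelian r W)
    (hLs : Group.IsSolvable L) (hLp : ¬ p ∣ Nat.card L) (hAL : A ≤ normalizer (L : Set G))
    (hAW : A ≤ normalizer (W : Set G)) (hLW : L ≤ normalizer (W : Set G)) (hXL : X ≤ L)
    (hX : IsPGroup r X) (hAX : A ≤ normalizer (X : Set G))
    (hCX : L ⊓ centralizer (A : Set G) ≤ normalizer (X : Set G)) {u : G} (hu : u ∈ X)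
    (hur : u ^ r ∈ centralizer (W : Set G))
    (hlt : (W ⊓ centralizer ({u} : Set G)).relIndex W < r ^ 3) :
    u ∈ rcore r L (centralizer (W : Set G)) :=
  mem_rcore_of_small_aux hK hrp _ G A L W X rfl hA hW hLs hLp hAL hAW hLW hXL hX hAX hCX u hu hur
    hlt

end CfsgLib.SFT
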