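import Cfsg.Agent.SFT.Star

/-!
At least three primes: exactly three, and each `L_v` has a single core prime, forming a cycle.
-/

set_option autoImplicit false
set_option linter.unusedSectionVars false
set_option linter.style.haveILetI false
set_option linter.deprecated false

namespace CfsgLib.SFT

open Subgroup Pointwise CfsgLib.SZ

universe u

variable {G : Type u} [Group G] [Finite G] {p : ℕ} [Fact p.Prime] {A : Subgroup G}
  {θ : G → Subgroup G}

local notation "C" => Cfsg.signalizerInf A θ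

theorem centralizer_bot_top (U : Subgroup G) {K : Subgroup G} (hK : K = ⊥) :
    U ≤ centralizer (K : Set G) := fun g _ => mem_centralizer_iff.2 fun v hv => by
  rw [hK] at hv
  rw [mem_bot.1 hv]
  simp

/-- Exactly three primes with the core prime of `L c` equal to `d`, of `L e` to `c`, of `L d` to
`e`. -/
structure ThreeCycle (p : ℕ) (A : Subgroup G) (θ : G → Subgroup G) (L : ℕ → Subgroup G)
    (c e d : ℕ) : Prop where
  hc : InPi p A θ c
  he : InPi p A θ e
  hd : InPi p A θ d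
  ce : c ≠ e
  ed : e ≠ d
  dc : d ≠ c
  all : ∀ u, InPi p A θ u → u = c ∨ u = e ∨ u = d
  sc : Single p A θ d (L c)
  se : Single p A θ c (L e)
  sd : Single p A θ e (L d)

namespace Large

variable (h : MinCex p A θ) {L : ℕ → Subgroup G} (S : Large p A θ L)
include h S

theorem arrow_of_oc {u v : ℕ} (hu : InPi p A θ u) (hv : InPi p A θ v) (he : oc v (L u) = ⊥) :
    FitLE (L u) (L v) := S.fitLE h hv (S.cc h hu) he

theorem not_mutual {u v : ℕ} (hu : InPi p A θ u) (hv : InPi p A θ v) (huv : u ≠ v)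
    (h₁ : FitLE (L u) (L v)) (h₂ : FitLE (L v) (L u)) : False := by
  rcases h.multi_or_single (S.cc h hu) with hm | ⟨r, hr, hsu⟩
  · exact S.ne_of_ne h hu hv huv (h.eq_of_mutual (S.cc h hu) (S.cc h hv) hm h₁ h₂).symm
  rcases h.multi_or_single (S.cc h hv) with hm | ⟨s, hs, hsv⟩
  · exact S.ne_of_ne h hu hv huv (h.eq_of_mutual (S.cc h hv) (S.cc h hu) hm h₂ h₁)
  haveI := Fact.mk hr
  haveI := Fact.mk hs
  by_cases hrs : r = s
  · subst hrs; exact S.single_inj h hu hv huv hsu hsv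
  · exact h.false_of_mutual_single hsu hsv hrs (h₁ r hr) (h₂ s hs)

/-- An arrow's source is a core prime of its target. -/
theorem oc_ne_of_arrow {u v : ℕ} (hu : InPi p A θ u) (hv : InPi p A θ v) (huv : u ≠ v)
    (h₁ : FitLE (L u) (L v)) : oc u (L v) ≠ ⊥ := fun e =>
  S.not_mutual h hu hv huv h₁ (S.arrow_of_oc h hv hu e)

theorem oc_inf_of_arrow {d c : ℕ} (hd : InPi p A θ d) (h₁ : FitLE (L d) (L c)) :
    oc d (L c) ⊓ L d = ⊥ :=
  h.oc_inf_eq_bot (S.cc h hd) h₁ hd.1 (S.oc_self h hd)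

/-- No transitive triangle. -/
theorem no_triangle {u d c : ℕ} (hu : InPi p A θ u) (hd : InPi p A θ d) (hc : InPi p A θ c)
    (hud : u ≠ d) (hdc : d ≠ c) (h₁ : FitLE (L u) (L d)) (h₂ : FitLE (L d) (L c))
    (h₃ : FitLE (L u) (L c)) : False := by
  haveI := Fact.mk hd.1
  have hT := S.oc_ne_of_arrow h hd hc hdc h₂
  set T := oc d (L c) with hTdef
  have hTu : T ≤ L u := S.oc_le h hu (S.cc h hc) hd.1 hud.symm
  set X := oc d (L u)
  have hXc : X ≤ L c := h₃ d hd.1
  have hne := inf_centralizer_ne_bot (isPGroup_oc d (L u)) (isPGroup_oc d (L c))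
    (hXc.trans (le_normalizer_oc d (L c))) hT
  set Z := T ⊓ centralizer (X : Set G)
  have hZ : Z ≤ X := by
    refine le_oc_of_centralizes (S.cc h hu).1.1 (inf_le_left.trans hTu)
      ((isPGroup_oc d (L c)).to_le inf_le_left) fun t ht => ?_
    by_cases htd : t = d
    · exact htd ▸ inf_le_right
    · haveI := Fact.mk ht
      exact inf_le_left.trans (commute_of_coprime (hTu.trans (le_normalizer_oc t (L u)))
        ((h₃ t ht).trans (le_normalizer_oc d (L c)))
        (coprime_of_pgroup_ne (Ne.symm htd) (isPGroup_oc d (L c)) (isPGroup_oc t (L u))))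
  exact hne (le_bot_iff.1 ((le_inf inf_le_left (hZ.trans (h₁ d hd.1))).trans
    (S.oc_inf_of_arrow h hd h₂).le))

/-- In a cycle `c → e → d → c` the prime `d` is no core prime of `L e`. -/
theorem oc_eq_bot_of_cycle {c e d : ℕ} (hc : InPi p A θ c) (he : InPi p A θ e)
    (hd : InPi p A θ d) (hdc : d ≠ c) (h₁ : FitLE (L c) (L e)) (h₂ : FitLE (L e) (L d))
    (h₃ : FitLE (L d) (L c)) : oc d (L e) = ⊥ := by
  haveI := Fact.mk hd.1
  by_contra hne
  set R := oc d (L e)
  have hRc : R ≤ L c := S.oc_le h hc (S.cc h he) hd.1 hdc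
  set T := oc d (L c)
  have hTe : T ≤ L e := h₁ d hd.1
  have hfix := inf_centralizer_ne_bot (isPGroup_oc d (L c)) (isPGroup_oc d (L e))
    (hTe.trans (le_normalizer_oc d (L e))) hne
  set Z := R ⊓ centralizer (T : Set G)
  have hZ : Z ≤ T := by
    refine le_oc_of_centralizes (S.cc h hc).1.1 (inf_le_left.trans hRc)
      ((isPGroup_oc d (L e)).to_le inf_le_left) fun t ht => ?_
    by_cases htd : t = d
    · exact htd ▸ inf_le_right
    · haveI := Fact.mk ht
      exact inf_le_left.trans (commute_of_coprime (hRc.trans (le_normalizer_oc t (L c)))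
        ((h₁ t ht).trans (le_normalizer_oc d (L e)))
        (coprime_of_pgroup_ne (Ne.symm htd) (isPGroup_oc d (L e)) (isPGroup_oc t (L c))))
  exact hfix (le_bot_iff.1 ((le_inf hZ (inf_le_left.trans (h₂ d hd.1))).trans
    (S.oc_inf_of_arrow h hd h₃).le))

theorem single_of_two {v r : ℕ} (hv : InPi p A θ v)
    (hoth : ∀ u, InPi p A θ u → u ≠ r → oc u (L v) = ⊥) : Single p A θ r (L v) := by
  refine ⟨S.cc h hv, fun t ht htr => by_contra fun hne => hne ?_⟩
  exact hoth t (h.inPi_of_delta (S.cc h hv) ⟨ht, hne⟩) htr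

/-- A cycle of arrows among exactly three primes gives single core primes. -/
theorem threeCycle_of_arrows {c e d : ℕ} (hc : InPi p A θ c) (he : InPi p A θ e)
    (hd : InPi p A θ d) (hce : c ≠ e) (hed : e ≠ d) (hdc : d ≠ c)
    (hall : ∀ u, InPi p A θ u → u = c ∨ u = e ∨ u = d) (h₁ : FitLE (L c) (L e))
    (h₂ : FitLE (L e) (L d)) (h₃ : FitLE (L d) (L c)) : ThreeCycle p A θ L c e d := by
  refine ⟨hc, he, hd, hce, hed, hdc, hall, S.single_of_two h hc fun u hu hud => ?_,
    S.single_of_two h he fun u hu huc => ?_, S.single_of_two h hd fun u hu hue => ?_⟩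
  · rcases hall u hu with rfl | rfl | rfl
    · exact S.oc_self h hu
    · exact S.oc_eq_bot_of_cycle h hd hc he hed h₃ h₁ h₂
    · exact absurd rfl hud
  · rcases hall u hu with rfl | rfl | rfl
    · exact absurd rfl huc
    · exact S.oc_self h hu
    · exact S.oc_eq_bot_of_cycle h hc he hd hdc h₁ h₂ h₃
  · rcases hall u hu with rfl | rfl | rfl
    · exact S.oc_eq_bot_of_cycle h he hd hc hce h₂ h₃ h₁
    · exact absurd rfl hue
    · exact S.oc_self h hu

theorem sink_or_exception {c : ℕ} (hc : InPi p A θ c) :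
    (∃ s, InPi p A θ s ∧ s ≠ c ∧ ∀ v, InPi p A θ v → v ≠ c → v ≠ s → FitLE (L v) (L s)) ∨
    ∃ v w, InPi p A θ v ∧ InPi p A θ w ∧ v ≠ c ∧ w ≠ c ∧ v ≠ w ∧
      (∀ u, InPi p A θ u → u = c ∨ u = v ∨ u = w) ∧ Single p A θ w (L v) ∧
      ∃ M, Single p A θ w M ∧ M ≠ L v ∧ Pc p A θ c ≤ M ∧ FitLE (L w) M := by
  haveI := Fact.mk hc.1
  obtain ⟨x, hx, hxc, -⟩ := S.three c c
  obtain ⟨y, hy, hyc, hyx⟩ := S.three c x
  have hne : ∃ v, InPi p A θ v ∧ v ≠ c ∧ oc' c (L v) ≠ ⊥ := by
    by_contra hcon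
    push Not at hcon
    have hs : ∀ v, InPi p A θ v → v ≠ c → Single p A θ c (L v) := fun v hv hvc =>
      ⟨S.cc h hv, fun t ht htc => by_contra fun hne =>
        h.oc'_ne_bot (M := L v) ⟨ht, hne⟩ htc (hcon v hv hvc)⟩
    exact S.single_inj h hx hy hyx.symm (hs x hx hxc) (hs y hy hyc)
  obtain ⟨M, hM, hP, hall⟩ := S.exists_above h hc hne
  rcases h.multi_or_single hM with hm | ⟨w, hw, hMs⟩
  · obtain ⟨u, hu, hun⟩ := S.exists_not_delta h hM
    by_cases hex : ∃ v, InPi p A θ v ∧ v ≠ c ∧ oc v M = ⊥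
    · obtain ⟨s, hs, hsc, hsn⟩ := hex
      have he := h.eq_of_mutual hM (S.cc h hs) hm (S.fitLE h hs hM hsn) (hall s hs hsc).2
      exact Or.inl ⟨s, hs, hsc, fun v hv hvc _ => he ▸ (hall v hv hvc).2⟩
    · exfalso
      push Not at hex
      have huc : u = c := by_contra fun hne => hex u hu hne hun
      subst huc
      have hF : FitLE M (L u) := S.fitLE h hu hM hun
      have hb : FitLE (L u) M := fun t ht => by
        by_cases ht0 : oc t (L u) = ⊥
        · exact le_of_oc_eq_bot ht0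
        have htu : t ≠ u := fun e => ht0 (by rw [e]; exact S.oc_self h hu)
        exact h.oc_le_of_fitLE hM (S.cc h hu).1 hm hF
          ⟨ht, hex t (h.inPi_of_delta (S.cc h hu) ⟨ht, ht0⟩) htu⟩
      exact S.not_Pc_le h hu ((h.eq_of_mutual hM (S.cc h hu) hm hF hb).symm ▸ hP)
  · haveI := Fact.mk hw
    have hw' : InPi p A θ w := ⟨hw, hMs.Pc_ne_bot h⟩
    have hsingle : ∀ v, InPi p A θ v → v ≠ c → v ≠ w → Single p A θ w (L v) := by
      intro v hv hvc hvw
      have h1 : FitLE M (L v) := S.fitLE h hv hM (hMs.other v hv.1 hvw)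
      rcases h.multi_or_single (S.cc h hv) with hm | ⟨r, hr, hsv⟩
      · exact absurd (h.eq_of_mutual (S.cc h hv) hM hm (hall v hv hvc).2 h1 ▸ hm) (h.not_multi hMs)
      · haveI := Fact.mk hr
        by_cases hrw : r = w
        · exact hrw ▸ hsv
        · exact (h.false_of_mutual_single hsv hMs hrw ((hall v hv hvc).2 r hr) (h1 w hw)).elim
    have huniq : ∀ u v, InPi p A θ u → InPi p A θ v → u ≠ c → u ≠ w → v ≠ c → v ≠ w → u = v :=
      fun u v hu hv a b a' b' => by_contra fun hne =>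
        S.single_inj h hu hv hne (hsingle u hu a b) (hsingle v hv a' b')
    have hwc : w ≠ c := fun e => hyx (huniq y x hy hx hyc (e ▸ hyc) hxc (e ▸ hxc))
    obtain ⟨v, hv, hvc, hvw⟩ := S.three c w
    by_cases hMv : M = L v
    · exact Or.inl ⟨v, hv, hvc, fun u hu huc _ => hMv ▸ (hall u hu huc).2⟩
    · refine Or.inr ⟨v, w, hv, hw', hvc, hwc, hvw, fun u hu => ?_, hsingle v hv hvc hvw,
        M, hMs, hMv, hP, (hall w hw' hwc).2⟩
      by_cases huc : u = c
      · exact Or.inl huc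
      by_cases huw : u = w
      · exact Or.inr (Or.inr huw)
      · exact Or.inr (Or.inl (huniq u v hu hv huc huw hvc hvw))

/-- An exception at `c` gives the cycle or makes `L c` have two cores. -/
theorem exception_cases {c v w : ℕ} (hc : InPi p A θ c) (hv : InPi p A θ v) (hw : InPi p A θ w)
    (hvc : v ≠ c) (hwc : w ≠ c) (hvw : v ≠ w)
    (hall : ∀ u, InPi p A θ u → u = c ∨ u = v ∨ u = w) (hsv : Single p A θ w (L v))
    {M : Subgroup G} (hM : Single p A θ w M) (hMv : M ≠ L v) (hP : Pc p A θ c ≤ M)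
    (hLw : FitLE (L w) M) :
    ThreeCycle p A θ L v c w ∨ (Multi (L c) ∧ Delta (L c) v ∧ Delta (L c) w ∧
      oc v (L c) ⊓ M = ⊥) := by
  haveI := Fact.mk hc.1
  haveI := Fact.mk hv.1
  haveI := Fact.mk hw.1
  obtain ⟨N, hN⟩ := h.exists_Nr w hw.2
  have hns : ¬ ∀ t : ℕ, t.Prime → t ≠ w → oc t N = ⊥ := fun hN' =>
    hMv ((hM.eq_Nr (fun H => rank_bound H) h hN hN').trans
      (hsv.eq_Nr (fun H => rank_bound H) h hN hN').symm)
  have hNc : oc c N = ⊥ := by_contra fun hne =>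
    hsv.not_Pc_le h hN hc.1 hwc.symm hne (S.Pc_le h hv hc.1 hvc.symm)
  have hNv : oc v N ≠ ⊥ := by
    push Not at hns
    obtain ⟨t, ht, htw, htn⟩ := hns
    rcases hall t (h.inPi_of_delta hN.1 ⟨ht, htn⟩) with rfl | rfl | rfl
    · exact absurd hNc htn
    · exact htn
    · exact absurd rfl htw
  have hF : FitLE N (L c) := S.fitLE h hc hN.1 hNc
  have hinf : oc v N ⊓ M = ⊥ := hM.inf_oc_Nr_eq_bot h hN hv.1 hvw
  rcases h.multi_or_single hN.1 with hm | ⟨r, hr, hNs⟩
  · refine Or.inr ?_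
    have hNw : oc w N ≠ ⊥ := fun e => by
      obtain ⟨t, ht, htv⟩ := hm.exists_ne v
      rcases hall t (h.inPi_of_delta hN.1 ht) with rfl | rfl | rfl
      · exact ht.2 hNc
      · exact htv rfl
      · exact ht.2 e
    have hb : FitLE (L c) N := fun t ht => by
      by_cases ht0 : oc t (L c) = ⊥
      · exact le_of_oc_eq_bot ht0
      rcases hall t (h.inPi_of_delta (S.cc h hc) ⟨ht, ht0⟩) with rfl | rfl | rfl
      · exact absurd (S.oc_self h hc) ht0
      · exact h.oc_le_of_fitLE hN.1 (S.cc h hc).1 hm hF ⟨ht, hNv⟩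
      · exact h.oc_le_of_fitLE hN.1 (S.cc h hc).1 hm hF ⟨ht, hNw⟩
    have he := h.eq_of_mutual hN.1 (S.cc h hc) hm hF hb
    exact ⟨he.symm ▸ hm, he.symm ▸ ⟨hv.1, hNv⟩, he.symm ▸ ⟨hw.1, hNw⟩, he.symm ▸ hinf⟩
  · refine Or.inl ?_
    obtain rfl := h.delta_single hNs ⟨hv.1, hNv⟩
    have hcw : oc w (L c) = ⊥ := by
      rw [← inf_eq_left.2 ((h.oc_le_Pc (S.cc h hc) w).trans (hN.Pc_le h))]
      exact h.oc_inf_eq_bot hN.1 hF hw.1 (hNs.other w hw.1 hvw.symm)
    have hsc : Single p A θ v (L c) := S.single_of_two h hc fun u hu huv => by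
      rcases hall u hu with rfl | rfl | rfl
      · exact S.oc_self h hu
      · exact absurd rfl huv
      · exact hcw
    have hc2 : FitLE (L c) (L w) := S.arrow_of_oc h hc hw hcw
    have hXM : oc v (L c) ⊓ M = ⊥ :=
      h.oc_inf_eq_bot hM.cc (S.fitLE h hc hM.cc (hM.other c hc.1 hwc.symm)) hv.1
        (hM.other v hv.1 hvw)
    have hwv : oc v (L w) = ⊥ := by
      by_contra hne
      have hTc : oc v (L w) ≤ L c := S.oc_le h hc (S.cc h hw) hv.1 hvc
      have hfix := inf_centralizer_ne_bot (isPGroup_oc v (L c)) (isPGroup_oc v (L w))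
        ((hc2 v hv.1).trans (le_normalizer_oc v (L w))) hne
      refine hfix (le_bot_iff.1 (le_trans (le_inf ?_ (inf_le_left.trans (hLw v hv.1))) hXM.le))
      exact (inf_le_inf_right _ hTc).trans (hsc.inf_centralizer_oc_le h)
    refine S.threeCycle_of_arrows h hv hc hw hvc hwc.symm hvw.symm (fun u hu => ?_)
      (S.arrow_of_oc h hv hc (hsv.other c hc.1 hwc.symm)) hc2 (S.arrow_of_oc h hw hv hwv)
    rcases hall u hu with rfl | rfl | rfl <;> tauto

/-- An exception gives a cycle. -/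
theorem threeCycle_of_exception {c v w : ℕ} (hc : InPi p A θ c) (hv : InPi p A θ v)
    (hw : InPi p A θ w) (hvc : v ≠ c) (hwc : w ≠ c) (hvw : v ≠ w)
    (hall : ∀ u, InPi p A θ u → u = c ∨ u = v ∨ u = w) (hsv : Single p A θ w (L v))
    {M : Subgroup G} (hM : Single p A θ w M) (hMv : M ≠ L v) (hP : Pc p A θ c ≤ M)
    (hLw : FitLE (L w) M) : ThreeCycle p A θ L v c w := by
  rcases S.exception_cases h hc hv hw hvc hwc hvw hall hsv hM hMv hP hLw with
    ht | ⟨hm, hΔv, hΔw, hTM⟩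
  · exact ht
  exfalso
  haveI := Fact.mk hc.1
  haveI := Fact.mk hv.1
  haveI := Fact.mk hw.1
  set T := oc v (L c) with hTdef
  set T' := oc v (L w) with hTdef'
  have hTw : T ≤ L w := S.oc_le h hw (S.cc h hc) hv.1 hvw
  have hT'c : T' ≤ L c := S.oc_le h hc (S.cc h hw) hv.1 hvc
  have hTT' : T ⊓ T' = ⊥ :=
    le_bot_iff.1 ((inf_le_inf_left _ (hLw v hv.1)).trans hTM.le)
  have hcomm : T ≤ centralizer (T' : Set G) :=
    commute_of_disjoint (hTw.trans (le_normalizer_oc v _)) (hT'c.trans (le_normalizer_oc v _)) hTT'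
  have hT1 : T ≠ ⊥ := hΔv.2
  have hTnot : ¬ T ≤ T' := fun hle => hT1 ((inf_eq_left.2 hle).symm.trans hTT')
  rcases S.sink_or_exception h hv with ⟨s, hs, hsv', hsink⟩ |
    ⟨v', w', hv', hw', hv'v, hw'v, hv'w', hall', hs1, M', hM', hMv', hP', hLw'⟩
  · rcases hall s hs with rfl | rfl | rfl
    · have hF := hsink w hw hvw.symm hwc
      refine hTnot (le_oc_of_centralizes (S.cc h hw).1.1 hTw (isPGroup_oc v _) fun t ht => ?_)
      haveI := Fact.mk ht
      by_cases htv : t = v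
      · exact htv ▸ hcomm
      · exact commute_of_coprime (hTw.trans (le_normalizer_oc t _))
          ((hF t ht).trans (le_normalizer_oc v _))
          (coprime_of_pgroup_ne (Ne.symm htv) (isPGroup_oc v _) (isPGroup_oc t _))
    · exact hsv' rfl
    · have hF := hsink c hc hvc.symm hwc.symm
      have hT'1 : T' = ⊥ := by
        refine le_bot_iff.1 (le_trans (le_inf (le_oc_of_centralizes (s := v) (S.cc h hc).1.1 hT'c
          (isPGroup_oc v _) fun t ht => ?_) (hLw v hv.1)) hTM.le)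
        haveI := Fact.mk ht
        by_cases htv : t = v
        · exact htv ▸ le_centralizer_symm hcomm
        · exact commute_of_coprime (hT'c.trans (le_normalizer_oc t _))
            ((hF t ht).trans (le_normalizer_oc v _))
            (coprime_of_pgroup_ne (Ne.symm htv) (isPGroup_oc v _) (isPGroup_oc t _))
      exact hΔw.2 (S.oc_eq_bot_of_cycle h hv hc hw hvw.symm
        (S.arrow_of_oc h hv hc (hsv.other c hc.1 hwc.symm)) hF (S.arrow_of_oc h hw hv hT'1))
  · rcases hall v' hv' with rfl | rfl | rfl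
    · exact h.not_multi hs1 hm
    · exact hv'v rfl
    · have hw'c : w' = c := by
        rcases hall w' hw' with e | e | e
        · exact e
        · exact absurd e hw'v
        · exact absurd e hv'w'.symm
      subst hw'c
      rcases S.exception_cases h hv hv' hw' hvw.symm hvc.symm hwc hall' hs1 hM' hMv' hP' hLw' with
        ht | ⟨hm', -, -, -⟩
      · exact h.not_multi ht.sd hm
      · exact h.not_multi hsv hm'

/-- Exactly three primes in a cycle. -/
theorem exists_threeCycle : ∃ c e d, ThreeCycle p A θ L c e d := by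
  by_cases hex : ∃ c, InPi p A θ c ∧ ¬ ∃ s, InPi p A θ s ∧ s ≠ c ∧
      ∀ v, InPi p A θ v → v ≠ c → v ≠ s → FitLE (L v) (L s)
  · obtain ⟨c, hc, hns⟩ := hex
    obtain ⟨v, w, hv, hw, hvc, hwc, hvw, hall, hsv, M, hM, hMv, hP, hLw⟩ :=
      (S.sink_or_exception h hc).resolve_left hns
    exact ⟨v, c, w, S.threeCycle_of_exception h hc hv hw hvc hwc hvw hall hsv hM hMv hP hLw⟩
  push Not at hex
  choose! s hs hsne hsink using hex
  obtain ⟨a, ha, -, -⟩ := S.three 0 0
  by_cases h4 : ∃ x y z w, InPi p A θ x ∧ InPi p A θ y ∧ InPi p A θ z ∧ InPi p A θ w ∧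
      x ≠ y ∧ x ≠ z ∧ x ≠ w ∧ y ≠ z ∧ y ≠ w ∧ z ≠ w
  · exfalso
    obtain ⟨x, y, z, w, hx, hy, hz, hw, hxy, hxz, hxw, hyz, hyw, hzw⟩ := h4
    -- the sink of the sink
    set a := x with hax
    set b := s a with hb
    have hbπ := hs a hx
    have hab : b ≠ a := hsne a hx
    have h4' : ∀ u v : ℕ, ∃ t, InPi p A θ t ∧ t ≠ a ∧ t ≠ u ∧ t ≠ v := by
      intro u v
      by_cases hy' : y ≠ u ∧ y ≠ v
      · exact ⟨y, hy, hxy.symm, hy'.1, hy'.2⟩
      by_cases hz' : z ≠ u ∧ z ≠ v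
      · exact ⟨z, hz, hxz.symm, hz'.1, hz'.2⟩
      refine ⟨w, hw, hxw.symm, fun e => ?_, fun e => ?_⟩ <;> (subst e; grind)
    have hsb : s b = a := by
      by_contra hne
      obtain ⟨v, hv, hva, hvb, hvd⟩ := h4' b (s b)
      exact S.no_triangle h hv (hs b hbπ) hbπ hvd (hsne b hbπ) (hsink b hbπ v hv hvb hvd)
        (hsink a hx (s b) (hs b hbπ) hne (hsne b hbπ)) (hsink a hx v hv hva hvb)
    obtain ⟨u₁, hu₁, hu₁a, hu₁b, -⟩ := h4' b b
    set e := s u₁ with he
    have heπ := hs u₁ hu₁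
    by_cases hea : e = a ∨ e = b
    · obtain ⟨u₂, hu₂, hu₂a, hu₂b, hu₂1⟩ := h4' b u₁
      rcases hea with hea | hea
      · have h1 : FitLE (L b) (L e) :=
          hsink u₁ hu₁ b hbπ hu₁b.symm fun e' => hab (e'.trans hea)
        have h2 : FitLE (L u₂) (L e) :=
          hsink u₁ hu₁ u₂ hu₂ hu₂1 fun e' => hu₂a (e'.trans hea)
        rw [hea] at h1 h2
        exact S.no_triangle h hu₂ hbπ hx hu₂b hab (hsink a hx u₂ hu₂ hu₂a hu₂b) h1 h2
      · have h1 : FitLE (L a) (L e) :=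
          hsink u₁ hu₁ a hx hu₁a.symm fun e' => hab (e'.trans hea).symm
        rw [hea] at h1
        exact S.no_triangle h hu₂ hx hbπ hu₂a hab.symm
          (hsb ▸ hsink b hbπ u₂ hu₂ hu₂b (hsb.symm ▸ hu₂a)) h1 (hsink a hx u₂ hu₂ hu₂a hu₂b)
    · push Not at hea
      exact S.not_mutual h hx heπ hea.1.symm (hsink u₁ hu₁ a hx hu₁a.symm hea.1.symm)
        (hsb ▸ hsink b hbπ e heπ hea.2 (hsb.symm ▸ hea.1))
  obtain ⟨b, hb, hba, -⟩ := S.three a a
  obtain ⟨c, hc, hca, hcb⟩ := S.three a b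
  have hall : ∀ u, InPi p A θ u → u = a ∨ u = b ∨ u = c := fun u hu => by
    by_contra hu'
    push Not at hu'
    exact h4 ⟨a, b, c, u, ha, hb, hc, hu, hba.symm, hca.symm, hu'.1.symm, hcb.symm,
      hu'.2.1.symm, hu'.2.2.symm⟩
  have A1 : FitLE (L b) (L c) ∨ FitLE (L c) (L b) := by
    rcases hall (s a) (hs a ha) with e | e | e
    · exact absurd e (hsne a ha)
    · exact Or.inr (e ▸ hsink a ha c hc hca (e ▸ hcb))
    · exact Or.inl (e ▸ hsink a ha b hb hba (e ▸ hcb.symm))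
  have A2 : FitLE (L a) (L c) ∨ FitLE (L c) (L a) := by
    rcases hall (s b) (hs b hb) with e | e | e
    · exact Or.inr (e ▸ hsink b hb c hc hcb (e ▸ hca))
    · exact absurd e (hsne b hb)
    · exact Or.inl (e ▸ hsink b hb a ha hba.symm (e ▸ hca.symm))
  have A3 : FitLE (L a) (L b) ∨ FitLE (L b) (L a) := by
    rcases hall (s c) (hs c hc) with e | e | e
    · exact Or.inr (e ▸ hsink c hc b hb hcb.symm (e ▸ hba))
    · exact Or.inl (e ▸ hsink c hc a ha hca.symm (e ▸ hba.symm))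
    · exact absurd e (hsne c hc)
  rcases A1 with b1 | b1 <;> rcases A2 with a2 | a2 <;> rcases A3 with a3 | a3
  · exact (S.no_triangle h ha hb hc hba.symm hcb.symm a3 b1 a2).elim
  · exact (S.no_triangle h hb ha hc hba hca.symm a3 a2 b1).elim
  · exact ⟨a, b, c, S.threeCycle_of_arrows h ha hb hc hba.symm hcb.symm hca hall a3 b1 a2⟩
  · exact (S.no_triangle h hb hc ha hcb.symm hca b1 a2 a3).elim
  · exact (S.no_triangle h ha hc hb hca.symm hcb a2 b1 a3).elim
  · exact ⟨a, c, b, S.threeCycle_of_arrows h ha hc hb hca.symm hcb hba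
      (fun u hu => by rcases hall u hu with rfl | rfl | rfl <;> tauto) a2 b1 a3⟩
  · exact (S.no_triangle h hc ha hb hca hba.symm a2 a3 b1).elim
  · exact (S.no_triangle h hc hb ha hcb hba b1 a3 a2).elim

end Large

end CfsgLib.SFT
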