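import Cfsg.Agent.SFT.TwoFinal

/-!
A star leads to completeness: no minimal counterexample exists.
-/

set_option autoImplicit false
set_option linter.unusedSectionVars false
set_option linter.style.haveILetI false
set_option linter.deprecated false

namespace CfsgLib.SFT

open Subgroup Pointwise CfsgLib.SZ
open scoped commutatorElement

universe u

variable {G : Type u} [Group G] [Finite G] {p : ℕ} [Fact p.Prime] {A : Subgroup G}
  {θ : G → Subgroup G}

local notation "C" => Cfsg.signalizerInf A θ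

namespace IsStar

variable (h : MinCex p A θ) {L : Subgroup G} (S : IsStar p A θ L)
include h S

theorem fitLE {M : Subgroup G} (hM : IsCC p A θ M) : FitLE M L :=
  fun t ht => (h.oc_le_Pc hM t).trans (S.2 t ht)

theorem delta_of_meet {M : Subgroup G} (hM : IsCC p A θ M) {q : ℕ} (hq : q.Prime)
    (hne : oc q L ⊓ M ≠ ⊥) : Delta M q :=
  ⟨hq, fun e => hne (h.oc_inf_eq_bot hM (S.fitLE h hM) hq e)⟩

/-- A member with two cores contains the cores of the star that it meets. -/
theorem le_of_meet {M : Subgroup G} (hM : IsCC p A θ M) (hm : Multi M) {q : ℕ} (hq : q.Prime)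
    (hne : oc q L ⊓ M ≠ ⊥) : oc q L ≤ M :=
  h.oc_le_of_fitLE hM S.1.1 hm (S.fitLE h hM) (S.delta_of_meet h hM hq hne)

theorem multi_of_meet {M : Subgroup G} (hM : IsCC p A θ M) {q t : ℕ} (hqt : q ≠ t) (hq : q.Prime)
    (ht : t.Prime) (hne : oc q L ⊓ M ≠ ⊥) (hne' : oc t L ⊓ M ≠ ⊥) : Multi M :=
  ⟨q, t, S.delta_of_meet h hM hq hne, S.delta_of_meet h hM ht hne', hqt⟩

theorem eq_of_meets_all {M : Subgroup G} (hM : IsCC p A θ M)
    (hall : ∀ t, Delta L t → oc t L ⊓ M ≠ ⊥) : M = L := by
  by_cases hm : Multi M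
  · refine (h.eq_of_mutual hM S.1 hm (S.fitLE h hM) fun t ht => ?_).symm
    by_cases h0 : oc t L = ⊥
    · exact le_of_oc_eq_bot h0
    · exact S.le_of_meet h hM hm ht (hall t ⟨ht, h0⟩)
  rcases h.multi_or_single S.1 with hmL | ⟨r, hr, hsL⟩
  · obtain ⟨s, t, hs, ht, hst⟩ := hmL
    exact absurd (S.multi_of_meet h hM hst hs.1 ht.1 (hall s hs) (hall t ht)) hm
  haveI := Fact.mk hr
  obtain ⟨r', hr', hsM⟩ := (h.multi_or_single hM).resolve_left hm
  obtain rfl : r = r' :=
    h.delta_single hsM (S.delta_of_meet h hM hr (hall r ⟨hr, hsL.oc_ne_bot h⟩))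
  obtain ⟨N, hN⟩ := h.exists_Nr r (hsL.Pc_ne_bot h)
  have hN' : ∀ t : ℕ, t.Prime → t ≠ r → oc t N = ⊥ := fun t ht htr => by_contra fun hne =>
    hsL.not_Pc_le h hN ht htr hne (S.2 t ht)
  exact (hsM.eq_Nr (fun H => rank_bound H) h hN hN').trans
    (hsL.eq_Nr (fun H => rank_bound H) h hN hN').symm

/-- A member meeting all cores of the star is the star, for members containing a given subgroup. -/
theorem exists_missing {M : Subgroup G} (hM : IsCC p A θ M) {K : Subgroup G} (hK : K ≤ M)
    (hKL : ¬ K ≤ L) : ∃ q, Delta L q ∧ oc q L ⊓ M = ⊥ := by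
  by_contra hc
  push Not at hc
  exact hKL (S.eq_of_meets_all h hM hc ▸ hK)

theorem fix_inf_le {x : G} (hx : x ∈ A) (hx1 : x ≠ 1) {M : Subgroup G} (hle : θ x ≤ M) (t : ℕ) :
    oc t L ⊓ centralizer {x} ≤ oc t L ⊓ M :=
  le_inf inf_le_left ((h.inf_centralizer_le_theta (h.oc_mem S.1 t) hx hx1).trans hle)

/-- An element with value outside the star centralizes the odd cores of the star in which it has
fixed points. -/
theorem centralizes_odd {x : G} (hx : x ∈ A) (hx1 : x ≠ 1) (hbad : ¬ θ x ≤ L) {q : ℕ}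
    (hq : Delta L q) (hq2 : q ≠ 2) (hfix : oc q L ⊓ centralizer {x} ≠ ⊥) :
    oc q L ≤ centralizer {x} := by
  haveI := Fact.mk hq.1
  obtain ⟨M, hM, hle⟩ := h.exists_cc_theta hx hx1
  have hmeet : oc q L ⊓ M ≠ ⊥ := fun e =>
    hfix (le_bot_iff.1 ((S.fix_inf_le h hx hx1 hle q).trans e.le))
  set X := oc q M
  have hXm : Mem p A θ X := h.oc_mem hM q
  have hXL : X ≤ L := S.fitLE h hM q hq.1
  have hAX := h.A_le_normalizer hXm
  have hXx : X ≤ centralizer {x} := by
    rw [← commutator_zpowers_eq_bot_iff]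
    by_contra hU
    set U := ⁅X, zpowers x⁆
    have hUX : U ≤ X := le_normalizer_iff_commutator_le_left.1 (h.zpowers_normalizes hx hAX)
    have hAU : A ≤ normalizer (U : Set G) :=
      le_normalizer_commutator hAX (h.A_le_normalizer_zpowers hx)
    have hzn : ∀ {Y : Subgroup G}, Y ≤ centralizer {x} → Y ≤ normalizer (zpowers x : Set G) :=
      fun hY => hY.trans ((centralizer_singleton_le_zpowers x).trans (centralizer_le_normalizer _))
    obtain ⟨W, hW, hmax⟩ := h.exists_cc_normalizer (h.mem_of_le hXm hUX hAU) hU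
      (le_normalizer_commutator (hM.2.1.trans (le_normalizer_oc q M))
        (hzn (h.C_le_centralizer_singleton hx)))
    have hθW : θ x ≤ W := hmax _ (h.theta_mem hx hx1)
      (le_normalizer_commutator (hle.trans (le_normalizer_oc q M))
        (hzn (CfsgLib.Signalizer.theta_le_centralizer h.solv hx hx1)))
    obtain ⟨t, ht, htW⟩ := S.exists_missing h hW hθW hbad
    haveI := Fact.mk ht.1
    by_cases htq : t = q
    · subst htq
      have hne := inf_centralizer_ne_bot ((isPGroup_oc t M).to_le hUX) (isPGroup_oc t L)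
        ((hUX.trans hXL).trans (le_normalizer_oc t L)) hq.2
      refine hne (le_bot_iff.1 ((le_inf inf_le_left (hmax _ ?_ ?_)).trans htW.le))
      · exact h.mem_of_le (h.oc_mem S.1 t) inf_le_left
          (le_normalizer_inf (h.A_le_normalizer (h.oc_mem S.1 t)) (le_normalizer_centralizer hAU))
      · exact inf_le_right.trans (centralizer_le_normalizer _)
    · have hc : U ≤ centralizer (oc t L : Set G) := by
        by_cases hf : oc t L ⊓ centralizer {x} = ⊥
        · exact odd_commutator_centralizes hq2 (h.delta_ne_p S.1 hq) (h.delta_ne_p S.1 ht)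
            (Ne.symm htq) (h.elem.2 x hx) (isPGroup_oc q M) (isPGroup_oc t L) (hAX hx)
            (h.A_le_normalizer (h.oc_mem S.1 t) hx) (hXL.trans (le_normalizer_oc t L)) hf
        · have htM : oc t L ⊓ M ≠ ⊥ := fun e =>
            hf (le_bot_iff.1 ((S.fix_inf_le h hx hx1 hle t).trans e.le))
          have htle := S.le_of_meet h hM (S.multi_of_meet h hM htq ht.1 hq.1 htM hmeet) ht.1 htM
          exact hUX.trans (commute_of_coprime (hXL.trans (le_normalizer_oc t L))
            (htle.trans (le_normalizer_oc q M))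
            (coprime_of_pgroup_ne (Ne.symm htq) (isPGroup_oc q M) (isPGroup_oc t L)))
      have htW' : oc t L ≤ W := hmax _ (h.oc_mem S.1 t)
        ((le_centralizer_symm hc).trans (centralizer_le_normalizer _))
      exact ht.2 (by rw [← inf_eq_left.2 htW', htW])
  have hX1 : oc q M ≠ ⊥ := (S.delta_of_meet h hM hq.1 hmeet).2
  have hW₀ : oc q L ⊓ centralizer (X : Set G) ≤ X := by
    have hWM : oc q L ⊓ centralizer (X : Set G) ≤ M :=
      h.le_cc_oc hM hX1 (h.mem_of_le (h.oc_mem S.1 q) inf_le_left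
        (le_normalizer_inf (h.A_le_normalizer (h.oc_mem S.1 q)) (le_normalizer_centralizer hAX)))
        (inf_le_right.trans (centralizer_le_normalizer _))
    refine le_oc_of_centralizes hM.1.1 hWM ((isPGroup_oc q L).to_le inf_le_left) fun t ht => ?_
    by_cases htq : t = q
    · rw [htq]; exact inf_le_right
    by_cases h0 : oc t M = ⊥
    · exact centralizer_bot_top _ h0
    haveI := Fact.mk ht
    have hm : Multi M := ⟨t, q, ⟨ht, h0⟩, ⟨hq.1, hX1⟩, htq⟩
    exact inf_le_left.trans (commute_of_coprime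
      ((S.le_of_meet h hM hm hq.1 hmeet).trans (le_normalizer_oc t M))
      ((S.fitLE h hM t ht).trans (le_normalizer_oc q L))
      (coprime_of_pgroup_ne (Ne.symm htq) (isPGroup_oc q L) (isPGroup_oc t M)))
  rw [← commutator_zpowers_eq_bot_iff]
  exact CfsgLib.CoprimeAct.p_times_q_aux _ q X (zpowers x) (oc q L) rfl (isPGroup_oc q M)
    (((Nat.coprime_primes h.prime hq.1).2 (h.delta_ne_p S.1 hq).symm).coprime_dvd_left
      (by rw [CfsgLib.Signalizer.card_zpowers_eq h.elem hx hx1]))
    (isPGroup_oc q L) (hXx.trans (centralizer_singleton_le_zpowers x))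
    (hXL.trans (le_normalizer_oc q L))
    (h.zpowers_normalizes hx (h.A_le_normalizer (h.oc_mem S.1 q)))
    ((hW₀.trans hXx).trans (centralizer_singleton_le_zpowers x))

/-- All lines have their values in the star. -/
theorem line_le {B : Subgroup G} (hB : B ≤ A) (hi : B.relIndex A ≤ p) :
    Cfsg.signalizerInf B θ ≤ L := by
  by_contra hne
  set K := Cfsg.signalizerInf B θ
  obtain ⟨⟨z₀, hz₀⟩, hz₀'⟩ := ne_bot_iff_exists_ne_one.1 (h.line_ne_bot hB hi)
  have fixB : ∀ t, Delta L t → ∃ z ∈ B, z ≠ 1 ∧ oc t L ⊓ centralizer {z} ≠ ⊥ := fun t ht => by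
    by_contra hc
    push Not at hc
    exact ht.2 (le_bot_iff.1 (h.le_of_forall hB (h.sq_le_card hB hi) (h.oc_mem S.1 t)
      fun z hz hz1 => (hc z hz hz1).le))
  let Sset : Set (Subgroup G) :=
    {M | IsCC p A θ M ∧ K ≤ M ∧ (Delta L 2 → oc 2 L ⊓ M ≠ ⊥)}
  classical
  let μ : Subgroup G → Finset ℕ := fun M =>
    (Nat.card L).primeFactors.filter fun t => Delta L t ∧ oc t L ⊓ M ≠ ⊥
  have hne0 : Sset.Nonempty := by
    by_cases h2 : Delta L 2
    · obtain ⟨z, hz, hz1, hf⟩ := fixB 2 h2
      obtain ⟨M, hM, hle⟩ := h.exists_cc_theta (hB hz) hz1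
      exact ⟨M, hM, (CfsgLib.Signalizer.signalizerInf_le hz hz1).trans hle, fun _ e =>
        hf (le_bot_iff.1 ((S.fix_inf_le h (hB hz) hz1 hle 2).trans e.le))⟩
    · have hz1 : z₀ ≠ 1 := fun e => hz₀' (Subtype.ext e)
      obtain ⟨M, hM, hle⟩ := h.exists_cc_theta (hB hz₀) hz1
      exact ⟨M, hM, (CfsgLib.Signalizer.signalizerInf_le hz₀ hz1).trans hle,
        fun h2' => absurd h2' h2⟩
  obtain ⟨M, ⟨hM, hKM, h2M⟩, hmax⟩ :=
    Set.exists_max_image Sset (fun M => (μ M).card) (Set.toFinite _) hne0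
  obtain ⟨q, hq, hqM⟩ := S.exists_missing h hM hKM hne
  haveI := Fact.mk hq.1
  have hq2 : q ≠ 2 := fun e => h2M (e ▸ hq) (e ▸ hqM)
  obtain ⟨e, he, he1, hef⟩ := fixB q hq
  have hbad : ¬ θ e ≤ L := fun hle => hne ((CfsgLib.Signalizer.signalizerInf_le he he1).trans hle)
  have heA : e ∈ A := hB he
  have hTe : oc q L ≤ centralizer {e} := S.centralizes_odd h heA he1 hbad hq hq2 hef
  have hKe : K ≤ centralizer {e} :=
    (CfsgLib.Signalizer.signalizerInf_le he he1).trans
      (CfsgLib.Signalizer.theta_le_centralizer h.solv heA he1)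
  have hMe : M ≤ centralizer {e} := by
    refine le_singleton_of_mem_centralizer ((le_centralizer_of_cores hM.1.1
      (h.zpowers_normalizes heA (h.A_le_normalizer hM.1))
      ((h.coprime_A hM.1).coprime_dvd_left (card_dvd_of_le (zpowers_le.2 heA))) fun r hr => ?_)
        (mem_zpowers e))
    refine le_centralizer_symm (commutator_eq_bot_iff_le_centralizer.1 ?_)
    by_contra hU
    haveI := Fact.mk hr
    set U := ⁅oc r M, zpowers e⁆
    have hrΔ : Delta M r := ⟨hr, fun e' => hU (by
      show ⁅oc r M, zpowers e⁆ = ⊥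
      rw [e', commutator_bot_left])⟩
    have hUX : U ≤ oc r M := le_normalizer_iff_commutator_le_left.1
      (h.zpowers_normalizes heA (h.A_le_normalizer (h.oc_mem hM r)))
    have hAU : A ≤ normalizer (U : Set G) :=
      le_normalizer_commutator (h.A_le_normalizer (h.oc_mem hM r)) (h.A_le_normalizer_zpowers heA)
    have hUL : U ≤ L := hUX.trans (S.fitLE h hM r hr)
    have hzn : ∀ {Y : Subgroup G}, Y ≤ centralizer {e} → Y ≤ normalizer (zpowers e : Set G) :=
      fun hY => hY.trans ((centralizer_singleton_le_zpowers e).trans (centralizer_le_normalizer _))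
    obtain ⟨W, hW, hWmax⟩ := h.exists_cc_normalizer (h.mem_of_le (h.oc_mem hM r) hUX hAU) hU
      (le_normalizer_commutator (hM.2.1.trans (le_normalizer_oc r M))
        (hzn (h.C_le_centralizer_singleton heA)))
    have hKW : K ≤ W := hWmax K (CfsgLib.Signalizer.signalizerInf_mem h.solv hB
      (h.line_ne_bot hB hi))
      (le_normalizer_commutator (hKM.trans (le_normalizer_oc r M)) (hzn hKe))
    have hmono : ∀ t, Delta L t → oc t L ⊓ M ≠ ⊥ → oc t L ⊓ W ≠ ⊥ := by
      intro t ht htM
      haveI := Fact.mk ht.1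
      by_cases htr : t = r
      · subst htr
        have hne' := inf_centralizer_ne_bot ((isPGroup_oc t M).to_le hUX) (isPGroup_oc t L)
          (hUL.trans (le_normalizer_oc t L)) ht.2
        refine fun e' => hne' (le_bot_iff.1 ((le_inf inf_le_left (hWmax _ ?_ ?_)).trans e'.le))
        · exact h.mem_of_le (h.oc_mem S.1 t) inf_le_left
            (le_normalizer_inf (h.A_le_normalizer (h.oc_mem S.1 t)) (le_normalizer_centralizer hAU))
        · exact inf_le_right.trans (centralizer_le_normalizer _)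
      · have htle := S.le_of_meet h hM
          ⟨t, r, S.delta_of_meet h hM ht.1 htM, hrΔ, htr⟩ ht.1 htM
        have hc : U ≤ centralizer (oc t L : Set G) :=
          hUX.trans (commute_of_coprime ((S.fitLE h hM r hr).trans (le_normalizer_oc t L))
            (htle.trans (le_normalizer_oc r M))
            (coprime_of_pgroup_ne (Ne.symm htr) (isPGroup_oc r M) (isPGroup_oc t L)))
        rw [inf_eq_left.2 (hWmax _ (h.oc_mem S.1 t)
          ((le_centralizer_symm hc).trans (centralizer_le_normalizer _)))]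
        exact ht.2
    have hqW : oc q L ≤ W := hWmax _ (h.oc_mem S.1 q)
      ((le_centralizer_symm (commutator_le_centralizer_of_mem
        ((S.fitLE h hM r hr).trans (le_normalizer_oc q L)) hTe)).trans (centralizer_le_normalizer _))
    have hlt : μ M ⊂ μ W := by
      rw [Finset.ssubset_iff_of_subset]
      · refine ⟨q, ?_, ?_⟩
        · simp only [μ, Finset.mem_filter, Nat.mem_primeFactors]
          exact ⟨⟨hq.1, hq.dvd, Nat.card_pos.ne'⟩, hq, by rw [inf_eq_left.2 hqW]; exact hq.2⟩
        · simp only [μ, Finset.mem_filter, not_and]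
          exact fun _ _ => by rw [hqM]; simp
      · intro t ht
        simp only [μ, Finset.mem_filter] at ht ⊢
        exact ⟨ht.1, ht.2.1, hmono t ht.2.1 ht.2.2⟩
    exact absurd (hmax W ⟨hW, hKW, fun h2 => hmono 2 h2 (h2M h2)⟩)
      (not_le.2 (Finset.card_lt_card hlt))
  have hθ : θ e = M := hM.2.2 (θ e) (h.theta_mem heA he1)
    ((le_inf le_rfl hMe).trans (h.inf_centralizer_le_theta hM.1 heA he1))
  exact hef (le_bot_iff.1 ((S.fix_inf_le h heA he1 hθ.le q).trans hqM.le))

theorem complete : Complete p A θ :=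
  ⟨L, S.1.1, fun x hx hx1 => CfsgLib.Signalizer.le_of_forall_hyperplane h.elem
    (h.A_le_normalizer (h.theta_mem hx hx1)) (h.theta_mem hx hx1).2.1 fun _ hB hi =>
    (CfsgLib.Signalizer.inf_centralizer_le_signalizerInf (h.theta_mem hx hx1) hB).trans
      (S.line_le h hB hi)⟩

end IsStar

/-- There is no minimal counterexample. -/
theorem MinCex.false (h : MinCex p A θ) : False := by
  obtain ⟨L, hL⟩ := h.exists_star
  exact h.notComplete (hL.complete h)

end CfsgLib.SFT
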