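import Cfsg.Agent.SFT.Tools
import Cfsg.Agent.Solvable.CoprimeAbelian
import Cfsg.Agent.OddLocal.ExceptionalAction

/-!
An element of prime order without fixed points on two coprime groups: the commutator of the first
with it centralizes the second, if the first is abelian or an `r`-group for an odd prime `r`.
-/

set_option autoImplicit false
set_option linter.unusedSectionVars false
set_option linter.style.haveILetI false
set_option linter.deprecated false

namespace CfsgLib.SFT

open Subgroup Pointwise CfsgLib.SZ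
open scoped commutatorElement

universe u

variable {G : Type u} [Group G] [Finite G]

theorem centralizer_singleton_le_zpowers (x : G) :
    centralizer ({x} : Set G) ≤ centralizer (zpowers x : Set G) := fun g hg =>
  mem_centralizer_iff.2 fun a ha => by
    obtain ⟨i, rfl⟩ := mem_zpowers_iff.1 ha
    exact ((show Commute x g from (mem_centralizer_singleton_iff.1 hg).symm).zpow_left i).eq

theorem eq_of_pow_eq {p i : ℕ} [Fact p.Prime] {y z : G} (hy : y ^ p = 1) (hz : z ^ p = 1)
    (hi : 0 < i) (hip : i < p) (h : y ^ i = z ^ i) : y = z := by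
  have hc : i.Coprime p :=
    ((Fact.out : p.Prime).coprime_iff_not_dvd.2 fun hd => (Nat.le_of_dvd hi hd).not_gt hip).symm
  have key : ∀ w : G, w ^ p = 1 → w = (w ^ i) ^ Nat.gcdA i p := by
    intro w hw
    have : w = w ^ ((i : ℤ) * Nat.gcdA i p + (p : ℤ) * Nat.gcdB i p) := by
      rw [← Nat.gcd_eq_gcd_ab, show Nat.gcd i p = 1 from hc]; simp
    calc w = _ := this
      _ = (w ^ i) ^ Nat.gcdA i p := by
        rw [zpow_add, zpow_mul, zpow_mul, zpow_natCast, zpow_natCast, hw, one_zpow, mul_one]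
  rw [key y hy, key z hz, h]

/-- An abelian group with a fixed-point-free automorphism of prime order centralizes every abelian
group of coprime order on which the same element is fixed-point-free. -/
theorem abelian_fpf_centralizes {p : ℕ} [Fact p.Prime] {U V : Subgroup G} {x : G}
    (hU : U ≤ centralizer (U : Set G)) (hV : V ≤ centralizer (V : Set G)) (hx : x ^ p = 1)
    (hxU : x ∈ normalizer (U : Set G)) (hxV : x ∈ normalizer (V : Set G))
    (hUV : U ≤ normalizer (V : Set G)) (hfU : U ⊓ centralizer {x} = ⊥)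
    (hfV : V ⊓ centralizer {x} = ⊥) (hcop : (Nat.card U).Coprime (Nat.card V)) :
    U ≤ centralizer (V : Set G) := by
  classical
  haveI := Fintype.ofFinite U
  letI : CommGroup V := { (inferInstance : Group V) with
    mul_comm := fun a b => Subtype.ext (mem_centralizer_iff.1 (hV b.2) a a.2) }
  set N := normalizer (V : Set G)
  let φ : N →* MulAut V := normalizerMonoidHom V
  set X : N := ⟨x, hxV⟩ with hX
  let ι : U → N := fun u => ⟨u, hUV u.2⟩
  -- every element of `x U` is conjugate to `x`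
  let c : U → U := fun t => ⟨x⁻¹ * t * x * (t : G)⁻¹, U.mul_mem
    ((mem_normalizer_iff''.1 hxU _).1 t.2) (U.inv_mem t.2)⟩
  have hcinj : Function.Injective c := by
    intro s t hst
    have h1 : x⁻¹ * s * x * (s : G)⁻¹ = x⁻¹ * t * x * (t : G)⁻¹ := congrArg Subtype.val hst
    have h2 : (t : G)⁻¹ * s ∈ U ⊓ centralizer {x} := by
      refine ⟨U.mul_mem (U.inv_mem t.2) s.2, mem_centralizer_singleton_iff.2 ?_⟩
      have hts : Commute (t : G)⁻¹ s :=
        (show Commute (t : G) s from mem_centralizer_iff.1 (hU s.2) t t.2).inv_left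
      calc (t : G)⁻¹ * s * x = (t : G)⁻¹ * x * (x⁻¹ * s * x * (s : G)⁻¹) * s := by group
        _ = (t : G)⁻¹ * x * (x⁻¹ * t * x * (t : G)⁻¹) * s := by rw [h1]
        _ = x * ((t : G)⁻¹ * s) := by group
    rw [hfU, mem_bot, inv_mul_eq_one] at h2
    exact Subtype.ext h2.symm
  have hconj : ∀ u : U, ∃ t : U, x * u = t * x * (t : G)⁻¹ := fun u => by
    obtain ⟨t, ht⟩ := Finite.surjective_of_injective hcinj u
    refine ⟨t, ?_⟩
    rw [← ht]
    show x * (x⁻¹ * t * x * (t : G)⁻¹) = t * x * (t : G)⁻¹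
    group
  have hyp : ∀ u : U, (x * u : G) ^ p = 1 := fun u => by
    obtain ⟨t, ht⟩ := hconj u
    rw [ht, conj_pow, hx]; group
  have hfix : ∀ (u : U) (v : V), φ (X * ι u) v = v → v = 1 := by
    intro u v hv
    obtain ⟨t, ht⟩ := hconj u
    have h1 : (x * u : G) * v * (x * u : G)⁻¹ = v := congrArg Subtype.val hv
    rw [ht] at h1
    have h2 : (t : G)⁻¹ * v * t ∈ V ⊓ centralizer {x} := by
      refine ⟨(mem_normalizer_iff''.1 (hUV t.2) _).1 v.2, mem_centralizer_singleton_iff.2 ?_⟩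
      conv_lhs => rw [← h1]
      group
    rw [hfV, mem_bot] at h2
    refine Subtype.ext ?_
    calc (v : G) = t * ((t : G)⁻¹ * v * t) * (t : G)⁻¹ := by group
      _ = 1 := by rw [h2]; group
  have hprod : ∀ (u : U) (v : V), ∏ i ∈ Finset.range p, φ ((X * ι u) ^ i) v = 1 := by
    intro u v
    refine hfix u _ ?_
    obtain ⟨k, hk⟩ := Nat.exists_eq_succ_of_ne_zero (Fact.out : p.Prime).ne_zero
    have hp1 : (X * ι u) ^ p = 1 := Subtype.ext (by simpa [X, ι] using hyp u)
    rw [map_prod, show (∏ i ∈ Finset.range p, φ (X * ι u) (φ ((X * ι u) ^ i) v)) =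
      ∏ i ∈ Finset.range p, φ ((X * ι u) ^ (i + 1)) v from Finset.prod_congr rfl fun i _ => by
        rw [← MulAut.mul_apply, ← map_mul, ← pow_succ']]
    rw [hk, Finset.prod_range_succ, Finset.prod_range_succ', ← show p = k + 1 from hk, hp1, pow_zero]
  -- summing over `U`
  let S : V → V := fun v => ∏ u : U, φ (ι u) v
  have hψ : ∀ i, 0 < i → i < p → ∀ v : V,
      ∏ u : U, φ ((X * ι u) ^ i) v = φ (X ^ i) (S v) := by
    intro i hi hip v
    have hmem : ∀ (j : ℕ) (u : U), (x ^ j)⁻¹ * (x * u : G) ^ j ∈ U := by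
      intro j
      induction j with
      | zero => intro u; simp
      | succ j ih =>
        intro u
        have h1 : (x ^ (j + 1))⁻¹ * (x * u : G) ^ (j + 1) =
            (x⁻¹ * ((x ^ j)⁻¹ * (x * u : G) ^ j) * x) * u := by
          rw [pow_succ, pow_succ]; group
        rw [h1]
        exact U.mul_mem ((mem_normalizer_iff''.1 hxU _).1 (ih u)) u.2
    let ψ : U → U := fun u => ⟨_, hmem i u⟩
    have hψinj : Function.Injective ψ := fun s t hst => by
      have h1 : (x * s : G) ^ i = (x * t : G) ^ i := mul_left_cancel (congrArg Subtype.val hst)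
      exact Subtype.ext (mul_left_cancel (eq_of_pow_eq (hyp s) (hyp t) hi hip h1))
    rw [map_prod, ← Equiv.prod_comp (Equiv.ofBijective ψ (Finite.injective_iff_bijective.1 hψinj))
      (fun u => φ (X ^ i) (φ (ι u) v))]
    refine Finset.prod_congr rfl fun u _ => ?_
    show _ = φ (X ^ i) (φ (ι (ψ u)) v)
    rw [← MulAut.mul_apply, ← map_mul]
    congr 2
    exact Subtype.ext (by simp [X, ι, ψ])
  have hS : ∀ v : V, S v = v ^ Fintype.card U := by
    intro v
    obtain ⟨k, hk⟩ := Nat.exists_eq_succ_of_ne_zero (Fact.out : p.Prime).ne_zero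
    have h1 : ∏ i ∈ Finset.range p, ∏ u : U, φ ((X * ι u) ^ i) v = 1 := by
      rw [Finset.prod_comm]
      exact Finset.prod_eq_one fun u _ => hprod u v
    have h2 : ∏ i ∈ Finset.range p, φ (X ^ i) (S v) = 1 := by
      have := hprod 1 (S v)
      rwa [show ι 1 = 1 from Subtype.ext rfl, mul_one] at this
    rw [hk, Finset.prod_range_succ'] at h1 h2
    have h3 : ∀ i ∈ Finset.range k,
        ∏ u : U, φ ((X * ι u) ^ (i + 1)) v = φ (X ^ (i + 1)) (S v) := fun i hi =>
      hψ _ (Nat.succ_pos i) (by rw [hk]; exact Nat.succ_lt_succ (Finset.mem_range.1 hi)) v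
    rw [Finset.prod_congr rfl h3] at h1
    have h4 := h1.trans h2.symm
    simp only [pow_zero, map_one, MulAut.one_apply, Finset.prod_const, Finset.card_univ] at h4
    exact (mul_left_cancel h4).symm
  intro u₀ hu₀
  refine mem_centralizer_iff.2 fun w hw => ?_
  have hinv : ∀ v : V, φ (ι ⟨u₀, hu₀⟩) (S v) = S v := by
    intro v
    simp only [S, map_prod]
    rw [← Equiv.prod_comp (Equiv.mulLeft (⟨u₀, hu₀⟩ : U)) (fun u => φ (ι u) v)]
    refine Finset.prod_congr rfl fun u _ => ?_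
    rw [← MulAut.mul_apply, ← map_mul]
    rfl
  have hcop' : (Nat.card V).Coprime (Fintype.card U) := by
    rw [← Nat.card_eq_fintype_card]; exact hcop.symm
  obtain ⟨v, hv⟩ := (powCoprime hcop').surjective ⟨w, hw⟩
  rw [powCoprime_apply] at hv
  have h5 := hinv v
  rw [hS, hv] at h5
  exact (mul_inv_eq_iff_eq_mul.1 (congrArg Subtype.val h5)).symm

/-- The same with a `q`-group in place of the second abelian group. -/
theorem abelian_fpf_centralizes_pgroup {p q : ℕ} [Fact p.Prime] [Fact q.Prime] (hpq : q ≠ p)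
    {U T : Subgroup G} {x : G} (hU : U ≤ centralizer (U : Set G)) (hT : IsPGroup q T)
    (hx : x ^ p = 1) (hxU : x ∈ normalizer (U : Set G)) (hxT : x ∈ normalizer (T : Set G))
    (hUT : U ≤ normalizer (T : Set G)) (hfU : U ⊓ centralizer {x} = ⊥)
    (hfT : T ⊓ centralizer {x} = ⊥) (hcop : (Nat.card U).Coprime q) :
    U ≤ centralizer (T : Set G) := by
  set Φ := (frattini T).map T.subtype with hΦ
  have hΦT : Φ ≤ T := map_subtype_le _
  set N := normalizer (T : Set G)
  have hΦn : N ≤ normalizer (Φ : Set G) :=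
    CfsgLib.OddLocal.UTool.normalizer_le_normalizer_map T _ frattini_characteristic
  haveI hΦN : (Φ.subgroupOf N).Normal :=
    (normal_subgroupOf_iff_le_normalizer (hΦT.trans le_normalizer)).2 hΦn
  set f : N →* N ⧸ Φ.subgroupOf N := QuotientGroup.mk' (Φ.subgroupOf N) with hf
  have hker : ∀ y : N, f y = 1 ↔ (y : G) ∈ Φ := fun y => by
    rw [hf, QuotientGroup.mk'_apply, QuotientGroup.eq_one_iff, mem_subgroupOf]
  haveI : Group.IsNilpotent T := hT.isNilpotent
  obtain ⟨hcm, hpw⟩ := CfsgLib.PGroupBasic.commutator_pow_le_frattini hT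
  set V := (T.subgroupOf N).map f with hV
  set U' := (U.subgroupOf N).map f
  have hxp : IsPGroup p (zpowers x) := fun a => ⟨1, by
    obtain ⟨i, hi⟩ := mem_zpowers_iff.1 a.2
    refine Subtype.ext ?_
    rw [SubmonoidClass.coe_pow, pow_one, ← hi, ← zpow_natCast, ← zpow_mul, mul_comm, zpow_mul,
      zpow_natCast, hx, one_zpow]
    rfl⟩
  have hcx : (Nat.card (zpowers x)).Coprime (Nat.card T) := coprime_of_pgroup_ne hpq.symm hxp hT
  have hRT : zpowers x ≤ normalizer (T : Set G) := zpowers_le.2 hxT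
  set X : N := ⟨x, hxT⟩
  have hfV : V ⊓ centralizer {f X} = ⊥ := by
    refine (eq_bot_iff_forall _).2 ?_
    rintro _ ⟨⟨v, hv, rfl⟩, hvc⟩
    refine (hker v).2 ?_
    obtain ⟨c, hc, hcv⟩ := CfsgLib.CoprimeAct.exists_centralizing_mem_coset hRT hcx hΦT
      (hRT.trans hΦn) (Or.inr (isSolvable_of_le hΦT (by haveI := hT.isNilpotent; infer_instance)))
      (show (v : G) ∈ T from hv)
      fun a ha => by
        obtain ⟨i, rfl⟩ := mem_zpowers_iff.1 ha
        have hcm' : Commute (f X ^ i) (f v) := (show Commute (f X) (f v) from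
          (mem_centralizer_singleton_iff.1 hvc).symm).zpow_left i
        have h1 : f (v⁻¹ * (X ^ i * v * (X ^ i)⁻¹)) = 1 := by
          rw [map_mul, map_inv, map_mul, map_mul, map_inv, map_zpow, hcm'.eq, mul_inv_cancel_right,
            inv_mul_cancel]
        simpa [X] using (hker _).1 h1
    have h2 : c ∈ T ⊓ centralizer {x} :=
      ⟨hc.1, mem_centralizer_singleton_iff.2 (mem_centralizer_iff.1 hc.2 x (mem_zpowers x)).symm⟩
    rw [hfT, mem_bot] at h2
    rw [h2, mul_one] at hcv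
    simpa using inv_mem hcv
  have hUΦ : ∀ u ∈ U, u ∈ Φ → u = 1 := fun u hu hu' =>
    (eq_bot_iff_forall _).1 (inf_eq_bot_of_coprime (coprime_of_pgroup hT hcop).symm) u ⟨hu, hΦT hu'⟩
  have hfU' : U' ⊓ centralizer {f X} = ⊥ := by
    refine (eq_bot_iff_forall _).2 ?_
    rintro _ ⟨⟨u, hu, rfl⟩, huc⟩
    have hc : f X * f u = f u * f X := (mem_centralizer_singleton_iff.1 huc).symm
    have h1 : f (X * u * X⁻¹ * u⁻¹) = 1 := by
      rw [map_mul, map_mul, map_mul, map_inv, map_inv, hc]; group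
    have hmem : x * (u : G) * x⁻¹ * (u : G)⁻¹ ∈ U :=
      U.mul_mem ((mem_normalizer_iff.1 hxU _).1 hu) (U.inv_mem hu)
    have h2 : x * (u : G) * x⁻¹ * (u : G)⁻¹ = 1 :=
      hUΦ _ hmem (by simpa [X] using (hker _).1 h1)
    have h3 : (u : G) ∈ U ⊓ centralizer {x} := ⟨hu, mem_centralizer_singleton_iff.2
      (mul_inv_eq_iff_eq_mul.1 (mul_inv_eq_one.1 h2)).symm⟩
    rw [hfU, mem_bot] at h3
    rw [show u = 1 from Subtype.ext h3, map_one]
  have habV : V ≤ centralizer (V : Set (N ⧸ Φ.subgroupOf N)) := by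
    rintro _ ⟨a, ha, rfl⟩
    refine mem_centralizer_iff.2 ?_
    rintro _ ⟨b, hb, rfl⟩
    refine commutatorElement_eq_one_iff_mul_comm.1 ?_
    rw [← map_commutatorElement, hker]
    exact ⟨⁅(⟨b, hb⟩ : T), ⟨a, ha⟩⁆, hcm (commutator_mem_commutator (mem_top _) (mem_top _)), rfl⟩
  have habU : U' ≤ centralizer (U' : Set (N ⧸ Φ.subgroupOf N)) := by
    rintro _ ⟨a, ha, rfl⟩
    refine mem_centralizer_iff.2 ?_
    rintro _ ⟨b, hb, rfl⟩
    rw [← map_mul, ← map_mul]
    exact congrArg f (Subtype.ext (mem_centralizer_iff.1 (hU ha) b hb))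
  have hxn : ∀ H : Subgroup G, x ∈ normalizer (H : Set G) →
      f X ∈ normalizer ((H.subgroupOf N).map f : Set (N ⧸ Φ.subgroupOf N)) := fun H hH =>
    le_normalizer_map f ⟨X, mem_normalizer_iff.2 fun t => by
      simpa [mem_subgroupOf, X] using mem_normalizer_iff.1 hH (t : G), rfl⟩
  haveI : V.Normal := (normal_in_normalizer (H := T)).map f (QuotientGroup.mk'_surjective _)
  have hmain := abelian_fpf_centralizes (p := p) (x := f X) habU habV
    (by rw [← map_pow, show X ^ p = 1 from Subtype.ext (by simpa [X] using hx), map_one])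
    (hxn U hxU) (hxn T hxT) (by rw [normalizer_eq_top]; exact le_top) hfU' hfV
    (by
      obtain ⟨k, hk⟩ := IsPGroup.iff_card.1 ((hT.comap_subtype (K := N)).map f)
      rw [show Nat.card V = q ^ k from hk]
      refine (hcop.coprime_dvd_left ?_).pow_right k
      exact (card_map_dvd _ f).trans (by rw [Nat.card_congr (subgroupOfEquivOfLe hUT).toEquiv]))
  refine CfsgLib.CoprimeAct.trivial_on_frattini_quotient hUT ?_ fun a ha k hk => ?_
  · obtain ⟨k, hk⟩ := IsPGroup.iff_card.1 hT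
    exact (hcop.pow_right k).coprime_dvd_right (hk ▸ card_subgroup_dvd_card (frattini T))
  · set a' : N := ⟨a, hUT ha⟩
    set k' : N := ⟨k, le_normalizer hk⟩
    have hc := mem_centralizer_iff.1 (hmain ⟨a', ha, rfl⟩) (f k') ⟨k', hk, rfl⟩
    refine (hker (a' * k' * a'⁻¹ * k'⁻¹)).1 ?_
    rw [map_mul, map_mul, map_mul, map_inv, map_inv, ← hc]
    group

/-- An involution without fixed points inverts. -/
theorem involution_inverts {S : Subgroup G} {x : G} (hx : x ^ 2 = 1)
    (hxS : x ∈ normalizer (S : Set G)) (hfix : S ⊓ centralizer {x} = ⊥) :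
    ∀ s ∈ S, x * s * x⁻¹ = s⁻¹ := by
  let c : S → S := fun s => ⟨(s : G)⁻¹ * (x * s * x⁻¹),
    S.mul_mem (S.inv_mem s.2) ((mem_normalizer_iff.1 hxS _).1 s.2)⟩
  have hinj : Function.Injective c := by
    intro s t h
    have h1 : (s : G)⁻¹ * (x * s * x⁻¹) = (t : G)⁻¹ * (x * t * x⁻¹) := congrArg Subtype.val h
    have h2 : (t : G) * (s : G)⁻¹ ∈ S ⊓ centralizer {x} := by
      refine ⟨S.mul_mem t.2 (S.inv_mem s.2), mem_centralizer_singleton_iff.2 ?_⟩
      calc (t : G) * (s : G)⁻¹ * x = t * ((s : G)⁻¹ * (x * s * x⁻¹)) * x * (s : G)⁻¹ := by group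
        _ = t * ((t : G)⁻¹ * (x * t * x⁻¹)) * x * (s : G)⁻¹ := by rw [h1]
        _ = x * (t * (s : G)⁻¹) := by group
    rw [hfix, mem_bot, mul_inv_eq_one] at h2
    exact Subtype.ext h2.symm
  intro s hs
  obtain ⟨t, ht⟩ := Finite.surjective_of_injective hinj ⟨s, hs⟩
  have h1 : (t : G)⁻¹ * (x * t * x⁻¹) = s := congrArg Subtype.val ht
  have hx' : x⁻¹ = x := inv_eq_of_mul_eq_one_right (by rw [← sq, hx])
  rw [← h1, hx']
  have hxx : x * x = 1 := by rw [← sq, hx]
  calc x * ((t : G)⁻¹ * (x * t * x)) * x = x * (t : G)⁻¹ * x * t * (x * x) := by group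
    _ = x * (t : G)⁻¹ * x * t := by rw [hxx, mul_one]
    _ = ((t : G)⁻¹ * (x * t * x))⁻¹ := by rw [mul_inv_rev, mul_inv_rev, mul_inv_rev, inv_inv, hx']; group

/-- A fixed-point-free element on `S`: its commutators with an odd coprime `r`-group centralize `S`. -/
theorem odd_commutator_centralizes {p r s : ℕ} [Fact p.Prime] [Fact r.Prime] [Fact s.Prime]
    (hr2 : r ≠ 2) (hrp : r ≠ p) (hsp : s ≠ p) (hrs : r ≠ s) {K S : Subgroup G} {x : G}
    (hx : x ^ p = 1) (hK : IsPGroup r K) (hS : IsPGroup s S)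
    (hxK : x ∈ normalizer (K : Set G)) (hxS : x ∈ normalizer (S : Set G))
    (hKS : K ≤ normalizer (S : Set G)) (hfix : S ⊓ centralizer {x} = ⊥) :
    ⁅K, zpowers x⁆ ≤ centralizer (S : Set G) := by
  by_cases hx1 : x = 1
  · rw [hx1, zpowers_one_eq_bot, commutator_bot_right]; exact bot_le
  by_cases hp : p = 2
  · subst hp
    have hinv := involution_inverts hx hxS hfix
    rw [commutator_le]
    intro k hk a ha
    obtain ⟨i, rfl⟩ := mem_zpowers_iff.1 ha
    refine mem_centralizer_iff.2 fun v hv => ?_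
    have hcase : x ^ i = 1 ∨ x ^ i = x := by
      obtain ⟨j, rfl | rfl⟩ := Int.even_or_odd' i
      · exact Or.inl (by rw [zpow_mul, zpow_ofNat, hx, one_zpow])
      · exact Or.inr (by rw [zpow_add, zpow_mul, zpow_ofNat, hx, one_zpow, one_mul, zpow_one])
    rcases hcase with e | e <;> rw [e]
    · simp [commutatorElement_def]
    · have hv1 : x⁻¹ * v * x = v⁻¹ := by
        calc x⁻¹ * v * x = (x⁻¹ * x⁻¹) * (x * v * x⁻¹) * (x * x) := by group
          _ = v⁻¹ := by rw [hinv v hv, ← mul_inv_rev, ← sq, hx, inv_one, one_mul, mul_one]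
      have hw : k⁻¹ * v * k ∈ S := (mem_normalizer_iff''.1 (hKS hk) v).1 hv
      have h2 : (⁅k, x⁆)⁻¹ * v * ⁅k, x⁆ = v := by
        calc (⁅k, x⁆)⁻¹ * v * ⁅k, x⁆ = x * (k * (x⁻¹ * (k⁻¹ * v * k) * x) * k⁻¹) * x⁻¹ := by
              rw [commutatorElement_def]; group
          _ = x * (k * (k⁻¹ * v * k)⁻¹ * k⁻¹) * x⁻¹ := by
            have hw1 : x⁻¹ * (k⁻¹ * v * k) * x = (k⁻¹ * v * k)⁻¹ := by
              calc x⁻¹ * (k⁻¹ * v * k) * x
                  = (x⁻¹ * x⁻¹) * (x * (k⁻¹ * v * k) * x⁻¹) * (x * x) := by group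
                _ = (k⁻¹ * v * k)⁻¹ := by
                  rw [hinv _ hw, ← mul_inv_rev, ← sq, hx, inv_one, one_mul, mul_one]
            rw [hw1]
          _ = x * v⁻¹ * x⁻¹ := by group
          _ = v := by rw [hinv _ (S.inv_mem hv), inv_inv]
      calc v * ⁅k, x⁆ = ⁅k, x⁆ * ((⁅k, x⁆)⁻¹ * v * ⁅k, x⁆) := by group
        _ = ⁅k, x⁆ * v := by rw [h2]
  · obtain ⟨n, hn⟩ := IsPGroup.iff_card.1 hK
    haveI := hK.isNilpotent
    exact CfsgLib.OddLocal.Excep.commutator_centralizes_pgroup hp hsp.symm hS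
      (orderOf_eq_prime hx hx1) hxS hfix (hn ▸ ((Fact.out : r.Prime).odd_of_ne_two hr2).pow)
      (pgroup_coprime_prime hrp hK) (pgroup_coprime_prime hrs hK) hKS hxK

/-- The commutators of an abelian coprime group with a fixed-point-free element on `T` centralize
`T`. -/
theorem abelian_commutator_centralizes {p q r : ℕ} [Fact p.Prime] [Fact q.Prime] [Fact r.Prime]
    (hqp : q ≠ p) (hrq : r ≠ q) (hrp : r ≠ p) {Z T : Subgroup G} {x : G}
    (hZ : Z ≤ centralizer (Z : Set G)) (hZr : IsPGroup r Z) (hT : IsPGroup q T) (hx : x ^ p = 1)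
    (hxZ : x ∈ normalizer (Z : Set G)) (hxT : x ∈ normalizer (T : Set G))
    (hZT : Z ≤ normalizer (T : Set G)) (hfT : T ⊓ centralizer {x} = ⊥) :
    ⁅Z, zpowers x⁆ ≤ centralizer (T : Set G) := by
  have hle : ⁅Z, zpowers x⁆ ≤ Z := le_normalizer_iff_commutator_le_left.1 (zpowers_le.2 hxZ)
  haveI : IsMulCommutative Z := ⟨⟨fun a b => Subtype.ext (mem_centralizer_iff.1 (hZ b.2) a a.2)⟩⟩
  have hxp : IsPGroup p (zpowers x) := fun a => ⟨1, by
    obtain ⟨i, hi⟩ := mem_zpowers_iff.1 a.2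
    refine Subtype.ext ?_
    rw [SubmonoidClass.coe_pow, pow_one, ← hi, ← zpow_natCast, ← zpow_mul, mul_comm, zpow_mul,
      zpow_natCast, hx, one_zpow]
    rfl⟩
  have hfix := CfsgLib.CoprimeAct.fixed_inf_commutator_abelian (zpowers_le.2 hxZ)
    (coprime_of_pgroup_ne hrp.symm hxp hZr)
  refine abelian_fpf_centralizes_pgroup hqp
    (hle.trans (hZ.trans (centralizer_le (SetLike.coe_subset_coe.2 hle)))) hT hx ?_ hxT
    (hle.trans hZT) ?_ hfT ((pgroup_coprime_prime hrq hZr).coprime_dvd_left (card_dvd_of_le hle))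
  · exact le_normalizer_commutator (zpowers_le.2 hxZ) le_normalizer (mem_zpowers x)
  · refine eq_bot_iff.2 (le_trans ?_ hfix.le)
    exact le_inf (le_inf (inf_le_left.trans hle)
      (inf_le_right.trans (centralizer_singleton_le_zpowers x))) inf_le_left

end CfsgLib.SFT
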