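import Cfsg.Agent.SFT.MasterDefs

/-!
A maximal member with one core: members containing `C` and `F` have their `r`-core in it.
-/

set_option autoImplicit false
set_option linter.unusedSectionVars false
set_option linter.style.haveILetI false
set_option linter.deprecated false

namespace CfsgLib.SFT

open Subgroup Pointwise CfsgLib.SZ

universe u

variable {G : Type u} [Group G] [Finite G] {p : ℕ} [Fact p.Prime] {A : Subgroup G}
  {θ : G → Subgroup G} {r : ℕ} [Fact r.Prime] {M : Subgroup G}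

local notation "C" => Cfsg.signalizerInf A θ

namespace Single

variable (hK : ∀ (H : Type u) [Group H] [Finite H], RankBound H)
variable (h : MinCex p A θ) (hM : Single p A θ r M)
include h hM

theorem oc_ne_bot : oc r M ≠ ⊥ := by
  obtain ⟨t, ht, hne⟩ := h.exists_oc_ne_bot hM.cc
  by_cases htr : t = r
  · exact htr ▸ hne
  · exact absurd (hM.other t ht htr) hne

theorem ne_p : r ≠ p := fun e =>
  hM.cc.1.2.1 (e ▸ oc_ne_bot_imp_dvd (hM.oc_ne_bot h))

theorem solvable : Group.IsSolvable M := hM.cc.1.1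

theorem inf_centralizer_oc_le : M ⊓ centralizer (oc r M : Set G) ≤ oc r M := by
  refine (le_iSup_oc_of_centralizes (hM.solvable h) inf_le_left fun t ht => ?_).trans
    (iSup_le fun t => ?_)
  · by_cases htr : t = r
    · exact htr ▸ inf_le_right
    · exact fun g _ => mem_centralizer_iff.2 fun v hv => by
        rw [hM.other t ht htr, SetLike.mem_coe, mem_bot] at hv; simp [hv]
  · by_cases htr : (t : ℕ) = r
    · rw [htr]
    · rw [hM.other t t.2 htr]; exact bot_le

theorem A_le : A ≤ normalizer (M : Set G) := h.A_le_normalizer hM.cc.1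

theorem inf_centralizer_A_le {X : Subgroup G} (hX : C ≤ normalizer (X : Set G)) :
    M ⊓ centralizer (A : Set G) ≤ normalizer (X : Set G) :=
  (h.inf_centralizer_le_C hM.cc.1).trans hX

theorem setting {P : Subgroup G} (hPM : P ≤ M)
    (hP : RMod r P (centralizer (elY r M : Set G))) (hAP : A ≤ normalizer (P : Set G))
    (hCP : C ≤ normalizer (P : Set G)) : RSetting p r A M (elY r M) P where
  ne := hM.ne_p h
  elA := h.elem
  elW := elZ_elementary (elY_le r M)
  solv := hM.solvable h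
  cop := hM.cc.1.2.1
  AK := hM.A_le h
  AW := le_normalizer_elY_of_le r (hM.A_le h)
  KW := le_normalizer_elY r M
  core := fun _ _ hRM hn hR => elY_reduced hRM hn hR
  PK := hPM
  Pr := hP
  AP := hAP
  CP := hM.inf_centralizer_A_le h hCP

/-- An `r`-subgroup of `M` normalized by `F` meets the centralizer of `Y` in `O_r(M)`. -/
theorem inf_centralizer_elY_le {D : Subgroup G} (hD : IsPGroup r D) (hDM : D ≤ M)
    (hFD : elF r M ≤ normalizer (D : Set G)) :
    D ⊓ centralizer (elY r M : Set G) ≤ oc r M := by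
  set CY := M ⊓ centralizer (elY r M : Set G)
  obtain ⟨hXF, hFC, hn, -⟩ := elF_spec r M
  have hXC := oc_le_inf_centralizer_elY r M
  have hMCY : M ≤ normalizer (CY : Set G) :=
    le_normalizer_inf le_normalizer (le_normalizer_centralizer (le_normalizer_elY r M))
  have hsol : Group.IsSolvable CY := isSolvable_of_le inf_le_left (hM.solvable h)
  have hXn : CY ≤ normalizer (oc r M : Set G) := inf_le_left.trans (le_normalizer_oc r M)
  have hcore : rcore r CY (oc r M) ≤ oc r M := by
    refine le_oc ((rcore_le r _ _).trans inf_le_left) (fun x => ?_)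
      (le_normalizer_rcore_of_le hXn hMCY (le_normalizer_oc r M))
    obtain ⟨a, ha⟩ := rmod_rcore r hXn (x : G) x.2
    obtain ⟨b, hb⟩ := isPGroup_oc r M ⟨_, ha⟩
    refine ⟨a + b, Subtype.ext ?_⟩
    rw [pow_add, pow_mul, SubmonoidClass.coe_pow, SubmonoidClass.coe_pow]
    exact congrArg Subtype.val hb
  have hDC : D ⊓ centralizer (elY r M : Set G) ≤ CY := inf_le_inf_right _ hDM
  refine le_of_centralizes_upc hsol hXC hXn hcore hDC (RMod.of_pgroup (hD.to_le inf_le_left) _)
    fun d hd f hf => ?_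
  have h1 : d * f * d⁻¹ * f⁻¹ ∈ D := by
    have := D.mul_mem hd.1 (conj_mem hFD hf (D.inv_mem hd.1))
    simpa [mul_assoc] using this
  have h2 : d * f * d⁻¹ * f⁻¹ ∈ elF r M :=
    (elF r M).mul_mem (conj_mem hn (hDC hd) hf) ((elF r M).inv_mem hf)
  exact mem_of_upc_of_rmod hXC hXn (RMod.of_pgroup hD _) h1 h2

include hK in
/-- The offender bound for `M` acting on `Y`. -/
theorem bound {P : Subgroup G} (hPM : P ≤ M) (hP : RMod r P (centralizer (elY r M : Set G)))
    (hAP : A ≤ normalizer (P : Set G)) (hCP : C ≤ normalizer (P : Set G)) {T : Subgroup G}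
    (hT : T ≤ P) (hTab : T ≤ centralizer (T : Set G)) (hTe : ∀ x ∈ T, x ^ r = 1)
    (hne : ¬ T ≤ centralizer (elY r M : Set G)) :
    r ^ 2 * (centralizer (elY r M : Set G)).relIndex T ≤
      (centralizer (T : Set G)).relIndex (elY r M) := by
  have h1 := (hM.setting h hPM hP hAP hCP).offender (hK G) T hT
    (fun x hx y hy => by
      rw [show x * y * x⁻¹ * y⁻¹ = 1 by
        rw [mem_centralizer_iff.1 (hTab hy) x hx, mul_inv_cancel_right, mul_inv_cancel]]
      exact one_mem _)
    (fun x hx => by rw [hTe x hx]; exact one_mem _) hne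
  rwa [inf_relIndex_left] at h1

omit h hM in
theorem cj_elY_props (g : G) : cj g (elY r M) ≤ centralizer (cj g (elY r M) : Set G) ∧
    ∀ x ∈ cj g (elY r M), x ^ r = 1 := by
  refine ⟨?_, ?_⟩
  · rw [← cj_centralizer]
    exact cj_mono fun x hx => mem_centralizer_iff.2 fun y hy =>
      mem_centralizer_iff.1 (elY_le r M hx).1.2 y (elY_le r M hy).1.1
  · rintro _ ⟨x, hx, rfl⟩
    rw [← map_pow, (elY_le r M hx).2, map_one]

include hK in
/-- Two mutually inverse conjugates of `Y` in an invariant `r`-subgroup of `M`. -/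
theorem cj_le_oc {J : Subgroup G} (hJ : IsPGroup r J) (hJM : J ≤ M)
    (hAJ : A ≤ normalizer (J : Set G)) (hCJ : C ≤ normalizer (J : Set G))
    (hFJ : elF r M ≤ normalizer (J : Set G)) {g : G} (h₁ : cj g (elY r M) ≤ J)
    (h₂ : cj g⁻¹ (elY r M) ≤ J) : cj g (elY r M) ≤ oc r M := by
  refine le_trans (le_inf h₁ ?_) (hM.inf_centralizer_elY_le h hJ hJM hFJ)
  by_contra hne
  set Y := elY r M
  have hne' : ¬ cj g⁻¹ Y ≤ centralizer (Y : Set G) := fun hc =>
    hne (le_centralizer_symm (by rwa [cj_le_centralizer_iff, inv_inv] at hc))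
  have hP := RMod.of_pgroup hJ (centralizer (Y : Set G))
  have e₁ := hM.bound hK h hJM hP hAJ hCJ h₁ (cj_elY_props g).1 (cj_elY_props g).2 hne
  have e₂ := hM.bound hK h hJM hP hAJ hCJ h₂ (cj_elY_props g⁻¹).1 (cj_elY_props g⁻¹).2 hne'
  rw [relIndex_centralizer_cj_left g Y Y] at e₁
  rw [relIndex_centralizer_cj_left g⁻¹ Y Y, inv_inv] at e₂
  have h4 : 4 ≤ r ^ 2 := Nat.pow_le_pow_left (Fact.out : r.Prime).two_le 2
  have := one_le_relIndex (centralizer (Y : Set G)) (cj g Y)
  nlinarith

/-- A member carrying the conjugates of `Y` into `O_r(M)` along all walks lies in `M`. -/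
theorem le_of_walk {L : Subgroup G} (hL : Mem p A θ L)
    (hw : ∀ k, ∀ g ∈ pal L M k, cj g (elY r M) ≤ oc r M) : L ≤ M := by
  set Y := elY r M
  set D := ⨆ g : {g : G // ∃ k, g ∈ pal L M k}, cj (g : G) Y
  have hle : ∀ g k, g ∈ pal L M k → cj g Y ≤ D := fun g k hg =>
    le_iSup_of_le (f := fun g : {g : G // ∃ k, g ∈ pal L M k} => cj (g : G) Y) ⟨g, k, hg⟩ le_rfl
  have hnorm : ∀ {X : Subgroup G},
      (∀ x ∈ X, ∀ g k, g ∈ pal L M k → cj (x * g) Y ≤ D) → X ≤ normalizer (D : Set G) := by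
    intro X hX x hx
    refine mem_normalizer_of_conj fun y hy => ?_
    have hle' : cj x D ≤ D := by
      simp only [D, cj, Subgroup.map_iSup]
      refine iSup_le fun g => ?_
      obtain ⟨k, hk⟩ := g.2
      show cj x (cj (g : G) Y) ≤ D
      rw [cj_cj]
      exact hX x hx g k hk
    exact hle' ⟨y, hy, rfl⟩
  have hAY : A ≤ normalizer (Y : Set G) := le_normalizer_elY_of_le r (hM.A_le h)
  have hY1 : cj 1 Y ≤ D := hle 1 0 (one_mem L)
  rw [cj_one] at hY1
  refine h.le_cc hM.cc (X := D) ?_ ?_ ?_ ?_ hL ?_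
  · exact iSup_le fun g => ((hw _ g g.2.choose_spec).trans (oc_le r M))
  · exact fun hbot => elY_ne_bot (hM.oc_ne_bot h) (le_bot_iff.1 (hY1.trans hbot.le))
  · refine hnorm fun a ha g k hg => ?_
    refine le_trans (le_of_eq ?_) (hle _ k (conj_mem_pal (h.A_le_normalizer hL) (hM.A_le h) ha hg))
    conv_lhs => rw [show a * g = (a * g * a⁻¹) * a by group, ← cj_cj, cj_eq_of_mem (hAY ha)]
  · refine hnorm fun m hm g k hg => hle _ (k + 1) ?_
    simpa using pal_succ_mem (L := L) (one_mem L) hm hg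
  · exact hnorm fun l hl g k hg => hle _ k (pal_left hl hg)

include hK in
/-- A member normalizing an `r`-subgroup of `M` that contains `O_r(M)` lies in `M`. -/
theorem le_of_normalizes {L J : Subgroup G} (hL : Mem p A θ L) (hJ : IsPGroup r J) (hJM : J ≤ M)
    (hXJ : oc r M ≤ J) (hAJ : A ≤ normalizer (J : Set G)) (hCJ : C ≤ normalizer (J : Set G))
    (hFJ : elF r M ≤ normalizer (J : Set G)) (hLJ : L ≤ normalizer (J : Set G)) : L ≤ M := by
  have hYX : elY r M ≤ oc r M := (elY_le r M).trans (elZ_le r _)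
  have key : ∀ k, (∀ g ∈ pal L M k, cj g (elY r M) ≤ J) := by
    intro k
    induction k with
    | zero => exact fun g hg => cj_le_of_mem (hLJ hg) (hYX.trans hXJ)
    | succ k ih =>
      rintro _ ⟨_, ⟨l, hl, m, hm, rfl⟩, g', hg', rfl⟩
      rw [← cj_cj, ← cj_cj]
      refine cj_le_of_mem (hLJ hl) ((cj_le_of_mem (le_normalizer_oc r M hm) ?_).trans hXJ)
      exact hM.cj_le_oc hK h hJ hJM hAJ hCJ hFJ (ih g' hg') (ih _ (inv_mem_pal hg'))
  exact hM.le_of_walk h hL fun k g hg =>
    hM.cj_le_oc hK h hJ hJM hAJ hCJ hFJ (key k g hg) (key k _ (inv_mem_pal hg))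

include hK in
/-- The `r`-core of a member containing `C` and `F` lies in `M`. -/
theorem oc_le_of_F_le {L : Subgroup G} (hL : Mem p A θ L) (hCL : C ≤ L) (hFL : elF r M ≤ L) :
    oc r L ≤ M := by
  by_contra hne
  set D := oc r L
  set I := M ⊓ L
  set J := oc r I
  have hXI : oc r M ≤ I := le_inf (oc_le r M) ((elF_spec r M).1.trans hFL)
  have hXJ : oc r M ≤ J :=
    le_oc hXI (isPGroup_oc r M) (inf_le_left.trans (le_normalizer_oc r M))
  have hAI : A ≤ normalizer (I : Set G) := le_normalizer_inf (hM.A_le h) (h.A_le_normalizer hL)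
  have hAJ : A ≤ normalizer (J : Set G) := le_normalizer_oc_of_le r hAI
  have hIJ : I ≤ normalizer (J : Set G) := le_normalizer_oc r I
  have hJL : J ≤ L := (oc_le r I).trans inf_le_right
  have hJM : J ≤ M := (oc_le r I).trans inf_le_left
  have hJD : J ≤ normalizer (D : Set G) := hJL.trans (le_normalizer_oc r L)
  have hDM : D ⊓ M ≤ J := le_oc (le_inf inf_le_right (inf_le_left.trans (oc_le r L)))
    ((isPGroup_oc r L).to_le inf_le_left)
    (le_normalizer_inf (inf_le_right.trans (le_normalizer_oc r L))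
      (inf_le_left.trans le_normalizer))
  have hH : IsPGroup r ↥(J ⊔ D) :=
    (isPGroup_oc r I).to_sup_of_normal_right' (isPGroup_oc r L) hJD
  have hlt : J < J ⊔ D := lt_of_le_of_ne le_sup_left fun e => hne ((le_sup_right.trans e.ge).trans hJM)
  obtain ⟨x, hx, hxJ, hxn⟩ := exists_normalizing (N := ⊥) bot_le hlt
    (fun g _ => mem_normalizer_of_conj fun z hz => by rw [mem_bot.1 hz]; simp)
    (RMod.of_pgroup hH _)
  obtain ⟨j, hj, d, hd, rfl⟩ := (CfsgLib.Solvable.mem_sup_of_le_normalizer hJD).1 hx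
  set D₂ := D ⊓ normalizer (J : Set G)
  have hdD : d ∈ D₂ := ⟨hd, by simpa using mul_mem (inv_mem (le_normalizer hj)) hxn⟩
  have hD₂ : ¬ D₂ ≤ M := fun hle => hxJ (mul_mem hj (hDM ⟨hd, hle hdD⟩))
  have hAD₂ : A ≤ normalizer (D₂ : Set G) :=
    le_normalizer_inf (le_normalizer_oc_of_le r (h.A_le_normalizer hL)) (hAJ.trans le_normalizer)
  have hID₂ : I ≤ normalizer (D₂ : Set G) :=
    le_normalizer_inf (inf_le_right.trans (le_normalizer_oc r L)) (hIJ.trans le_normalizer)
  have hm : Mem p A θ (D₂ ⊔ I) :=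
    h.sup_mem (h.mem_of_le hL (inf_le_left.trans (oc_le r L)) hAD₂)
      (h.mem_of_le hL inf_le_right hAI) hID₂
  exact hD₂ (le_sup_left.trans (hM.le_of_normalizes hK h hm (isPGroup_oc r I) hJM hXJ hAJ
    ((le_inf hM.cc.2.1 hCL).trans hIJ) ((le_inf (elF_le r M) hFL).trans hIJ)
    (sup_le inf_le_right hIJ)))

end Single

end CfsgLib.SFT
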