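import Cfsg.Agent.SFT.MasterStep

/-!
The module generated by the `L`-conjugates of `Y`, and the strict comparison of indices for abelian
subgroups of `O_r(M)` acting on it.
-/

set_option autoImplicit false
set_option linter.unusedSectionVars false
set_option linter.style.haveILetI false
set_option linter.deprecated false

namespace CfsgLib.SFT

open Subgroup Pointwise CfsgLib.SZ

universe u

variable {G : Type u} [Group G] [Finite G] {p : ℕ} [Fact p.Prime] {A : Subgroup G}
  {θ : G → Subgroup G} {r : ℕ} [Fact r.Prime] {M : Subgroup G}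

local notation "C" => Cfsg.signalizerInf A θ

/-- The subgroup generated by the `L`-conjugates of `Y`. -/
def elV (r : ℕ) (M L : Subgroup G) : Subgroup G := ⨆ l : L, cj (l : G) (elY r M)

theorem cj_le_elV {M L : Subgroup G} {l : G} (hl : l ∈ L) : cj l (elY r M) ≤ elV r M L :=
  le_iSup (fun l : L => cj (l : G) (elY r M)) ⟨l, hl⟩

theorem elY_le_elV {M L : Subgroup G} : elY r M ≤ elV r M L := by
  have h1 := cj_le_elV (r := r) (M := M) (one_mem L)
  rwa [cj_one] at h1

theorem cj_elV_le {M L D : Subgroup G} {g : G} (h : ∀ l ∈ L, cj (g * l) (elY r M) ≤ D) :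
    cj g (elV r M L) ≤ D := by
  simp only [elV, cj, Subgroup.map_iSup]
  refine iSup_le fun l => ?_
  show cj g (cj (l : G) (elY r M)) ≤ D
  rw [cj_cj]
  exact h l l.2

theorem le_normalizer_elV {M L : Subgroup G} : L ≤ normalizer (elV r M L : Set G) := fun l hl => by
  refine mem_normalizer_of_conj fun x hx => ?_
  exact cj_elV_le (fun l' hl' => cj_le_elV (L.mul_mem hl hl')) ⟨x, hx, rfl⟩

theorem prime_le_relIndex {Z K : Subgroup G} (hK : IsPGroup r K) (h : ¬ K ≤ Z) :
    r ≤ Z.relIndex K := by
  obtain ⟨k, hk⟩ := hK.index (Z.subgroupOf K)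
  rw [Subgroup.relIndex, hk]
  rcases Nat.eq_zero_or_pos k with rfl | hk0
  · exact absurd (relIndex_eq_one.1 (by rw [Subgroup.relIndex, hk, pow_zero])) h
  · exact Nat.le_self_pow hk0.ne' r

namespace Above

variable (hK : ∀ (H : Type u) [Group H] [Finite H], RankBound H)
variable (h : MinCex p A θ) (hM : Single p A θ r M) {L I : Subgroup G}
  (S : Above p A θ r M L I)
include hK h hM S

theorem cj_le_core {l : G} (hl : l ∈ L) : cj l (elY r M) ≤ oc r L :=
  cj_le_of_mem (le_normalizer_oc r L hl) (S.elY_le_oc hK h hM)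

theorem cj_le_X {l : G} (hl : l ∈ L) : cj l (elY r M) ≤ oc r M :=
  hM.cj_le_oc hK h (isPGroup_oc r L) S.core (S.An h hM) (S.Cn h hM) (S.Fn h hM)
    (S.cj_le_core hK h hM hl) (S.cj_le_core hK h hM (L.inv_mem hl))

theorem V_le_X : elV r M L ≤ oc r M := iSup_le fun l => S.cj_le_X hK h hM l.2

theorem V_le_core : elV r M L ≤ oc r L := iSup_le fun l => S.cj_le_core hK h hM l.2

theorem V_le_elZ : elV r M L ≤ elZ r (elV r M L) := by
  refine iSup_le fun l x hx => ⟨⟨cj_le_elV l.2 hx, ?_⟩, (Single.cj_elY_props (l : G)).2 x hx⟩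
  revert x
  refine le_centralizer_symm (iSup_le fun l' => ?_)
  have h1 : cj ((l : G)⁻¹ * l') (elY r M) ≤ centralizer (elY r M : Set G) :=
    (S.cj_le_X hK h hM (L.mul_mem (L.inv_mem l.2) l'.2)).trans
      (le_centralizer_symm ((elY_le r M).trans (elZ_le_centralizer r _)))
  have h2 := cj_mono (g := (l : G)) h1
  rwa [cj_cj, mul_inv_cancel_left, cj_centralizer] at h2

theorem A_le_normalizer_V : A ≤ normalizer (elV r M L : Set G) := fun a ha => by
  refine mem_normalizer_of_conj fun x hx => ?_
  refine cj_elV_le (fun l hl => ?_) ⟨x, hx, rfl⟩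
  rw [show a * l = (a * l * a⁻¹) * a by group, ← cj_cj,
    cj_eq_of_mem (le_normalizer_elY_of_le r (hM.A_le h) ha)]
  exact cj_le_elV (conj_mem (S.AL h hM) ha hl)

theorem L_le_normalizer_CV : L ≤ normalizer (centralizer (elV r M L : Set G) : Set G) :=
  le_normalizer_centralizer le_normalizer_elV

/-- The `r`-core of `L` modulo the centralizer of `V` lies in `I`. -/
theorem rcore_le_I : rcore r L (centralizer (elV r M L : Set G)) ≤ I := by
  set R := rcore r L (centralizer (elV r M L : Set G))
  by_contra hne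
  set J := oc r I
  set DV := L ⊓ centralizer (elV r M L : Set G)
  have hLC := S.L_le_normalizer_CV hK h hM
  have hRL : R ≤ L := rcore_le r L _
  have hDVI : DV ≤ I :=
    (inf_le_inf_left _ (centralizer_le (SetLike.coe_subset_coe.2 elY_le_elV))).trans
      (S.inf_centralizer_elY_le h hM)
  have hDVn : L ≤ normalizer (DV : Set G) := le_normalizer_inf le_normalizer hLC
  have hDVR : DV ≤ R := le_rcore inf_le_left hDVn fun x hx => ⟨0, by simpa using hx.2⟩
  have hJI : J ≤ I := oc_le r I
  have hIJ : I ≤ normalizer (J : Set G) := le_normalizer_oc r I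
  have hAR : A ≤ normalizer (R : Set G) := le_normalizer_rcore_of_le hLC (S.AL h hM)
    (le_normalizer_centralizer (S.A_le_normalizer_V hK h hM))
  have hAK : A ≤ normalizer ((J ⊔ R ⊓ I : Subgroup G) : Set G) :=
    le_normalizer_sup (le_normalizer_oc_of_le r S.AI) (le_normalizer_inf hAR S.AI)
  have hIK : I ≤ normalizer ((J ⊔ R ⊓ I : Subgroup G) : Set G) :=
    le_normalizer_sup hIJ
      (le_normalizer_inf (S.IL.trans (le_normalizer_rcore r L _)) le_normalizer)
  have hKI : J ⊔ R ⊓ I ≤ I := sup_le hJI inf_le_right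
  have hJR : J ≤ normalizer (R : Set G) := (hJI.trans S.IL).trans (le_normalizer_rcore r L _)
  have hlt : J ⊔ R ⊓ I < J ⊔ R := lt_of_le_of_ne (sup_le_sup_left inf_le_left _)
    fun e => hne ((le_sup_right.trans e.ge).trans hKI)
  have hRD : RMod r R DV := fun x hx => by
    obtain ⟨n, hn⟩ := rmod_rcore r hLC x hx
    exact ⟨n, pow_mem (hRL hx) _, hn⟩
  have hHD : RMod r (J ⊔ R) DV := (RMod.sup hJR (RMod.of_pgroup (isPGroup_oc r I) R)).trans hRD
  obtain ⟨x, hx, hxK, hxn⟩ := exists_normalizing (le_sup_of_le_right (le_inf hDVR hDVI)) hlt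
    ((sup_le (hJI.trans S.IL) hRL).trans hDVn) hHD
  obtain ⟨j, hj, e, he, rfl⟩ := (CfsgLib.Solvable.mem_sup_of_le_normalizer hJR).1 hx
  have heU : e ∈ R ⊓ normalizer ((J ⊔ R ⊓ I : Subgroup G) : Set G) :=
    ⟨he, by simpa using mul_mem (inv_mem (le_normalizer (mem_sup_left hj))) hxn⟩
  have hUI : ¬ R ⊓ normalizer ((J ⊔ R ⊓ I : Subgroup G) : Set G) ≤ I := fun hle =>
    hxK (mul_mem (mem_sup_left hj) (mem_sup_right ⟨he, hle heU⟩))
  have hLK : L ≤ normalizer ((J ⊔ R ⊓ I : Subgroup G) : Set G) :=
    S.grow h hM (inf_le_left.trans hRL) (le_normalizer_inf hAR (hAK.trans le_normalizer)) hUI hIK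
      inf_le_right
  refine S.notX (le_trans ?_ (le_oc (H := L) ((oc_le r _).trans (hKI.trans S.IL))
    (isPGroup_oc r (J ⊔ R ⊓ I)) (le_normalizer_oc_of_le r hLK)))
  refine le_trans ?_ (le_oc le_sup_left (isPGroup_oc r I) (hKI.trans hIJ))
  exact le_oc (S.XI h hM) (isPGroup_oc r M) (S.IM.trans (le_normalizer_oc r M))

/-- An abelian subgroup of exponent `r` of `O_r(M)` acts on `V` with smaller orbit index on itself. -/
theorem compare : ∀ T : Subgroup G, T ≤ oc r M → T ≤ centralizer (T : Set G) →
    (∀ x ∈ T, x ^ r = 1) → ¬ T ≤ centralizer (elV r M L : Set G) →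
      (centralizer (elV r M L : Set G)).relIndex T <
        (centralizer (T : Set G)).relIndex (elV r M L) := by
  intro T
  induction T using WellFoundedLT.induction with | _ T ih => ?_
  intro hTX hTab hTe hT
  set V := elV r M L
  set Y := elY r M
  have hr2 := (Fact.out : r.Prime).two_le
  have weak : ∀ T₁, T₁ < T → (centralizer (V : Set G)).relIndex T₁ ≤
      (centralizer (T₁ : Set G)).relIndex V := by
    intro T₁ hlt
    by_cases hc : T₁ ≤ centralizer (V : Set G)
    · rw [relIndex_eq_one.2 hc]; exact one_le_relIndex _ _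
    · exact (ih T₁ hlt (hlt.le.trans hTX)
        (hlt.le.trans (hTab.trans (centralizer_le (SetLike.coe_subset_coe.2 hlt.le))))
        (fun x hx => hTe x (hlt.le hx)) hc).le
  have hLC := S.L_le_normalizer_CV hK h hM
  set R := rcore r L (centralizer (V : Set G)) with hR
  have hRL : R ≤ L := rcore_le r L _
  have hRI : R ≤ I := S.rcore_le_I hK h hM
  have hRmod : RMod r R (centralizer (V : Set G)) := rmod_rcore r hLC
  have hCVY : centralizer (V : Set G) ≤ centralizer (Y : Set G) :=
    centralizer_le (SetLike.coe_subset_coe.2 elY_le_elV)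
  have hAR : A ≤ normalizer (R : Set G) := le_normalizer_rcore_of_le hLC (S.AL h hM)
    (le_normalizer_centralizer (S.A_le_normalizer_V hK h hM))
  have hCR : C ≤ normalizer (R : Set G) :=
    (S.CI.trans S.IL).trans (le_normalizer_rcore r L _)
  by_cases hTR : T ≤ R
  · obtain ⟨l, hl, hTl⟩ : ∃ l ∈ L, ¬ T ≤ centralizer (cj l Y : Set G) := by
      by_contra hc
      push Not at hc
      exact hT (le_centralizer_symm (iSup_le fun l => le_centralizer_symm (hc l l.2)))
    have hTl' : ¬ cj l⁻¹ T ≤ centralizer (Y : Set G) := by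
      rwa [cj_le_centralizer_iff, inv_inv]
    have h1 := hM.bound hK h (hRI.trans S.IM) (hRmod.mono le_rfl hCVY) hAR hCR
      (cj_le_of_mem (le_normalizer_rcore r L _ (L.inv_mem hl)) hTR)
      (by rw [← cj_centralizer]; exact cj_mono hTab)
      (by rintro _ ⟨x, hx, rfl⟩; rw [← map_pow, hTe x hx, map_one]) hTl'
    rw [← relIndex_centralizer_cj_left l Y T, relIndex_centralizer_cj_left l⁻¹ T Y, inv_inv] at h1
    set Z := cj l Y
    set T₁ := T ⊓ centralizer (Z : Set G)
    have hlt : T₁ < T := inf_lt_left.2 hTl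
    have h2 := relIndex_centralizer_piece (T := T) (T₁ := T₁) (V := V) (Z := Z) inf_le_left
      (cj_le_elV hl) (le_centralizer_symm inf_le_right)
    have h3 : (centralizer (V : Set G)).relIndex T ≤
        (centralizer (Z : Set G)).relIndex T * (centralizer (V : Set G)).relIndex T₁ :=
      (relIndex_le_mul (T₁ := T₁) inf_le_left).trans
        (le_of_eq (by rw [inf_relIndex_left]))
    have h4 := weak T₁ hlt
    have h5 := one_le_relIndex (centralizer (Z : Set G)) T
    have h6 := one_le_relIndex (centralizer (T₁ : Set G)) V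
    have h7 := Nat.mul_le_mul_left ((centralizer (T₁ : Set G)).relIndex V) h1
    have h8 := Nat.mul_le_mul_left ((centralizer (Z : Set G)).relIndex T) h4
    have h9 : 4 ≤ r ^ 2 := Nat.pow_le_pow_left hr2 2
    have h10 := Nat.mul_le_mul h9
      (Nat.mul_le_mul h5 h6)
    nlinarith
  · have hXI := S.XI h hM
    have hXn : oc r M ≤ normalizer (R : Set G) := (hXI.trans S.IL).trans (le_normalizer_rcore r L _)
    have hTn : RMod r (oc r M ⊔ R) R := RMod.sup hXn (RMod.of_pgroup (isPGroup_oc r M) R)
    have hcore : rcore r L R ≤ R := le_rcore (rcore_le r L _) (le_normalizer_rcore r L _)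
      ((rmod_rcore r (le_normalizer_rcore r L _)).trans hRmod)
    obtain ⟨U, hUT, -, hUi, d, hd, hdU, u, hu, huU, hud⟩ :=
      exists_hyperplane (T := T) (Tn := oc r M ⊔ R) (I := I) S.mem.1 hRI S.IL
        (le_normalizer_rcore r L _) hcore (hTX.trans le_sup_left) (sup_le hXI hRI)
        (le_normalizer_sup (S.IM.trans (le_normalizer_oc r M))
          (S.IL.trans (le_normalizer_rcore r L _)))
        hTn (fun x hx y hy => mem_centralizer_iff.1 (hTab hy) x hx) hTe hTR
    have hdL : d ∈ L := (upc_spec r hRL (le_normalizer_rcore r L _)).2.1 hd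
    set Z := cj d Y
    have hUlt : U < T := lt_of_le_of_ne hUT fun e => huU (e.symm ▸ hu)
    have hZV : Z ≤ V := cj_le_elV hdL
    have hUab : U ≤ centralizer (U : Set G) :=
      hUT.trans (hTab.trans (centralizer_le (SetLike.coe_subset_coe.2 hUT)))
    have hab : (centralizer (V : Set G)).relIndex T ≤ r * (centralizer (V : Set G)).relIndex U :=
      (relIndex_le_mul hUT).trans (Nat.mul_le_mul_right _ hUi)
    have hTmono : (centralizer (U : Set G)).relIndex V ≤ (centralizer (T : Set G)).relIndex V :=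
      relIndex_le_of_le_left (centralizer_le (SetLike.coe_subset_coe.2 hUT)) index_ne_zero_of_finite
    by_cases hUZ : U ≤ centralizer (Z : Set G)
    · have hTZ : ¬ Z ≤ centralizer (T : Set G) := fun hc => by
        have h1 : u ∈ centralizer (Z : Set G) := le_centralizer_symm hc hu
        rw [← cj_centralizer, mem_cj] at h1
        exact hud (S.inf_centralizer_elY_le h hM
          ⟨L.mul_mem (L.mul_mem (L.inv_mem hdL) (hTX.trans (hXI.trans S.IL) hu)) hdL, h1⟩)
      by_cases hUV : U ≤ centralizer (V : Set G)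
      · rw [relIndex_eq_one.2 hUV, mul_one] at hab
        have huR : u ∉ R := fun huR => hud (hRI
          ((mem_normalizer_iff''.1 (le_normalizer_rcore r L _ hdL) u).1 huR))
        have h1 : r ^ 3 ≤ (V ⊓ centralizer ({u} : Set G)).relIndex V := by
          by_contra hlt
          push Not at hlt
          exact huR (mem_rcore_of_small hK (hM.ne_p h) h.elem
            (elZ_elementary (S.V_le_elZ hK h hM)) S.mem.1 S.mem.2.1 (S.AL h hM)
            (S.A_le_normalizer_V hK h hM) le_normalizer_elV (hXI.trans S.IL) (isPGroup_oc r M)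
            (le_normalizer_oc_of_le r (hM.A_le h))
            ((h.inf_centralizer_le_C S.mem).trans (hM.cc.2.1.trans (le_normalizer_oc r M)))
            (hTX hu) (by rw [hTe u hu]; exact one_mem _) hlt)
        rw [inf_relIndex_left] at h1
        have h2 : (centralizer ({u} : Set G)).relIndex V ≤ (centralizer (T : Set G)).relIndex V :=
          relIndex_le_of_le_left (centralizer_le (by simpa using hu)) index_ne_zero_of_finite
        have h3 : r < r ^ 3 := lt_self_pow₀ (Fact.out : r.Prime).one_lt (by norm_num)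
        omega
      · have h1 := ih U hUlt (hUT.trans hTX) hUab (fun x hx => hTe x (hUT hx)) hUV
        have h2 := relIndex_centralizer_piece (T := T) (T₁ := U) (V := V) (Z := Z) hUT hZV
          (le_centralizer_symm hUZ)
        have h3 : r ≤ (centralizer (T : Set G)).relIndex Z :=
          prime_le_relIndex ((isPGroup_oc r L).to_le (S.cj_le_core hK h hM hdL)) hTZ
        have h4 := Nat.mul_le_mul_left ((centralizer (U : Set G)).relIndex V) h3
        nlinarith
    · have hUd : cj d⁻¹ U ≤ oc r M ⊔ R := by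
        rintro _ ⟨x, hx, rfl⟩
        show d⁻¹ * x * d⁻¹⁻¹ ∈ oc r M ⊔ R
        rw [show d⁻¹ * x * d⁻¹⁻¹ = x * (x⁻¹ * (d⁻¹ * x * d)) by group]
        exact mul_mem (mem_sup_left (hTX (hUT hx))) (mem_sup_right (hdU x hx).2)
      have h1 := hM.bound hK h (sup_le (oc_le r M) (hRI.trans S.IM))
        (hTn.trans (hRmod.mono le_rfl hCVY))
        (le_normalizer_sup (le_normalizer_oc_of_le r (hM.A_le h)) hAR)
        (le_normalizer_sup (hM.cc.2.1.trans (le_normalizer_oc r M)) hCR) hUd
        (by rw [← cj_centralizer]; exact cj_mono hUab)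
        (by rintro _ ⟨x, hx, rfl⟩; rw [← map_pow, hTe x (hUT hx), map_one])
        (by rwa [cj_le_centralizer_iff, inv_inv])
      rw [← relIndex_centralizer_cj_left d Y U, relIndex_centralizer_cj_left d⁻¹ U Y, inv_inv] at h1
      set T₁ := U ⊓ centralizer (Z : Set G)
      have h2 := relIndex_centralizer_piece (T := U) (T₁ := T₁) (V := V) (Z := Z) inf_le_left hZV
        (le_centralizer_symm inf_le_right)
      have h3 : (centralizer (V : Set G)).relIndex U ≤
          (centralizer (Z : Set G)).relIndex U * (centralizer (V : Set G)).relIndex T₁ :=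
        (relIndex_le_mul (T₁ := T₁) inf_le_left).trans
          (le_of_eq (by rw [inf_relIndex_left]))
      have h4 := weak T₁ (lt_of_le_of_lt inf_le_left hUlt)
      set a₁ := (centralizer (T₁ : Set G)).relIndex V
      set t := (centralizer (Z : Set G)).relIndex U
      have h5 : 1 ≤ t * a₁ := Nat.mul_pos (one_le_relIndex _ _) (one_le_relIndex _ _)
      calc (centralizer (V : Set G)).relIndex T ≤ r * (t * a₁) :=
            hab.trans (Nat.mul_le_mul_left r (h3.trans (Nat.mul_le_mul_left t h4)))
        _ < r ^ 2 * (t * a₁) :=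
            Nat.mul_lt_mul_of_pos_right
              (lt_self_pow₀ (Fact.out : r.Prime).one_lt one_lt_two) (by omega)
        _ = a₁ * (r ^ 2 * t) := by ring
        _ ≤ _ := (Nat.mul_le_mul_left a₁ h1).trans (h2.trans hTmono)

end Above

end CfsgLib.SFT
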