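import Cfsg.Agent.SFT.RMod

/-!
Conjugates, walks between two subgroups, index lemmas for centralizers, a hyperplane lemma for
the `r'`-core, and normalizer growth in `r`-groups modulo a normal subgroup.
-/

set_option autoImplicit false
set_option linter.unusedSectionVars false
set_option linter.style.haveILetI false
set_option linter.deprecated false

namespace CfsgLib.SFT

open Subgroup Pointwise CfsgLib.SZ

universe u

variable {G : Type u} [Group G] [Finite G]

/-- The conjugate `g H g⁻¹`. -/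
abbrev cj (g : G) (H : Subgroup G) : Subgroup G := H.map (MulAut.conj g).toMonoidHom

theorem mem_cj {g x : G} {H : Subgroup G} : x ∈ cj g H ↔ g⁻¹ * x * g ∈ H := by
  constructor
  · rintro ⟨y, hy, rfl⟩
    show g⁻¹ * (g * y * g⁻¹) * g ∈ H
    simpa [mul_assoc] using hy
  · intro h
    refine ⟨_, h, ?_⟩
    show g * (g⁻¹ * x * g) * g⁻¹ = x
    group

theorem cj_mono {g : G} {H K : Subgroup G} (h : H ≤ K) : cj g H ≤ cj g K := map_mono h

theorem cj_cj (g h : G) (H : Subgroup G) : cj g (cj h H) = cj (g * h) H := by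
  ext x; simp only [mem_cj, mul_inv_rev]; group

theorem cj_one (H : Subgroup G) : cj 1 H = H := by
  ext x; simp [mem_cj]

theorem cj_eq_of_mem {g : G} {H : Subgroup G} (h : g ∈ normalizer (H : Set G)) : cj g H = H :=
  mem_normalizer_iff_map_conj_eq.1 h

theorem cj_le_of_mem {g : G} {H K : Subgroup G} (h : g ∈ normalizer (K : Set G)) (hH : H ≤ K) :
    cj g H ≤ K := (cj_mono hH).trans (cj_eq_of_mem h).le

theorem cj_centralizer (g : G) (H : Subgroup G) :
    cj g (centralizer (H : Set G)) = centralizer (cj g H : Set G) := by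
  ext x
  simp only [mem_cj, mem_centralizer_iff, SetLike.mem_coe]
  constructor
  · intro h y hy
    have h1 := h _ hy
    calc y * x = g * ((g⁻¹ * y * g) * (g⁻¹ * x * g)) * g⁻¹ := by group
      _ = g * ((g⁻¹ * x * g) * (g⁻¹ * y * g)) * g⁻¹ := by rw [h1]
      _ = x * y := by group
  · intro h y hy
    have h1 := h (g * y * g⁻¹) (by simpa [mul_assoc] using hy)
    calc y * (g⁻¹ * x * g) = g⁻¹ * ((g * y * g⁻¹) * x) * g := by group
      _ = g⁻¹ * (x * (g * y * g⁻¹)) * g := by rw [h1]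
      _ = g⁻¹ * x * g * y := by group

theorem cj_le_cj_iff {g : G} {H K : Subgroup G} : cj g H ≤ cj g K ↔ H ≤ K :=
  map_le_map_iff_of_injective (MulAut.conj g).injective

theorem cj_le_centralizer_iff {g : G} {H K : Subgroup G} :
    cj g H ≤ centralizer (K : Set G) ↔ H ≤ centralizer (cj g⁻¹ K : Set G) := by
  conv_lhs => rw [show K = cj g (cj g⁻¹ K) by rw [cj_cj, mul_inv_cancel, cj_one]]
  rw [← cj_centralizer, cj_le_cj_iff]

theorem relIndex_centralizer_cj (g : G) (H K : Subgroup G) :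
    (centralizer (cj g H : Set G)).relIndex (cj g K) = (centralizer (H : Set G)).relIndex K := by
  rw [← cj_centralizer]
  exact relIndex_map_map_of_injective _ _ (MulAut.conj g).injective

theorem relIndex_centralizer_cj_left (g : G) (H K : Subgroup G) :
    (centralizer (cj g H : Set G)).relIndex K =
      (centralizer (H : Set G)).relIndex (cj g⁻¹ K) := by
  conv_lhs => rw [show K = cj g (cj g⁻¹ K) by rw [cj_cj, mul_inv_cancel, cj_one]]
  exact relIndex_centralizer_cj g H _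

/-- Products alternating between `L` and `M`, starting and ending in `L`. -/
def pal (L M : Subgroup G) : ℕ → Set G
  | 0 => L
  | k + 1 => (L : Set G) * M * pal L M k

section Pal

variable {L M : Subgroup G}

theorem pal_left {k : ℕ} {l g : G} (hl : l ∈ L) (hg : g ∈ pal L M k) : l * g ∈ pal L M k := by
  cases k with
  | zero => exact L.mul_mem hl hg
  | succ k =>
    obtain ⟨_, ⟨l', hl', m, hm, rfl⟩, g', hg', rfl⟩ := hg
    exact ⟨l * l' * m, ⟨l * l', L.mul_mem hl hl', m, hm, rfl⟩, g', hg', by group⟩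

theorem pal_right {k : ℕ} {l g : G} (hg : g ∈ pal L M k) (hl : l ∈ L) : g * l ∈ pal L M k := by
  induction k generalizing g with
  | zero => exact L.mul_mem hg hl
  | succ k ih =>
    obtain ⟨x, hx, g', hg', rfl⟩ := hg
    exact ⟨x, hx, g' * l, ih hg', by group⟩

theorem pal_succ_mem {k : ℕ} {l m g : G} (hl : l ∈ L) (hm : m ∈ M) (hg : g ∈ pal L M k) :
    l * m * g ∈ pal L M (k + 1) := ⟨l * m, ⟨l, hl, m, hm, rfl⟩, g, hg, rfl⟩

theorem pal_succ_mem_right {k : ℕ} {l m g : G} (hg : g ∈ pal L M k) (hm : m ∈ M) (hl : l ∈ L) :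
    g * m * l ∈ pal L M (k + 1) := by
  induction k generalizing g with
  | zero => exact pal_succ_mem hg hm hl
  | succ k ih =>
    obtain ⟨x, hx, g', hg', rfl⟩ := hg
    exact ⟨x, hx, g' * m * l, ih hg', by group⟩

theorem inv_mem_pal {k : ℕ} {g : G} (hg : g ∈ pal L M k) : g⁻¹ ∈ pal L M k := by
  induction k generalizing g with
  | zero => exact L.inv_mem hg
  | succ k ih =>
    obtain ⟨_, ⟨l, hl, m, hm, rfl⟩, g', hg', rfl⟩ := hg
    have := pal_succ_mem_right (ih hg') (M.inv_mem hm) (L.inv_mem hl)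
    simpa [mul_assoc] using this

theorem conj_mem_pal {X : Subgroup G} (hL : X ≤ normalizer (L : Set G))
    (hM : X ≤ normalizer (M : Set G)) {k : ℕ} {a g : G} (ha : a ∈ X) (hg : g ∈ pal L M k) :
    a * g * a⁻¹ ∈ pal L M k := by
  induction k generalizing g with
  | zero => exact conj_mem hL ha hg
  | succ k ih =>
    obtain ⟨_, ⟨l, hl, m, hm, rfl⟩, g', hg', rfl⟩ := hg
    have := pal_succ_mem (conj_mem hL ha hl) (conj_mem hM ha hm) (ih hg')
    simpa [mul_assoc] using this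

end Pal

theorem one_le_relIndex (H K : Subgroup G) : 1 ≤ H.relIndex K :=
  Nat.pos_of_ne_zero index_ne_zero_of_finite

theorem relIndex_le_mul {C T T₁ : Subgroup G} (h : T₁ ≤ T) :
    C.relIndex T ≤ T₁.relIndex T * C.relIndex T₁ := by
  have h1 := relIndex_inf_mul_relIndex (H := C) (K := T₁) (L := T)
  rw [inf_eq_left.2 h] at h1
  rw [mul_comm, h1]
  exact relIndex_le_of_le_left inf_le_left index_ne_zero_of_finite

/-- A piece of `V` fixed by `T₁` adds its own index. -/
theorem relIndex_centralizer_piece {T T₁ V Z : Subgroup G} (hT : T₁ ≤ T) (hZ : Z ≤ V)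
    (hZ₁ : Z ≤ centralizer (T₁ : Set G)) :
    (centralizer (T₁ : Set G)).relIndex V * (centralizer (T : Set G)).relIndex Z ≤
      (centralizer (T : Set G)).relIndex V := by
  set C := centralizer (T : Set G)
  set C₁ := centralizer (T₁ : Set G)
  have hC : C ⊓ V ≤ C₁ ⊓ V := inf_le_inf_right _ (centralizer_le (by exact_mod_cast hT))
  have h2 : C.relIndex Z ≤ (C ⊓ V).relIndex (C₁ ⊓ V) :=
    (relIndex_le_of_le_left inf_le_left index_ne_zero_of_finite).trans
      (relIndex_le_of_le_right (le_inf hZ₁ hZ) index_ne_zero_of_finite)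
  calc C₁.relIndex V * C.relIndex Z ≤ C₁.relIndex V * (C ⊓ V).relIndex (C₁ ⊓ V) :=
        Nat.mul_le_mul_left _ h2
    _ = C.relIndex V := by
      rw [← inf_relIndex_right C₁ V, mul_comm, relIndex_mul_relIndex _ _ _ hC inf_le_right,
        inf_relIndex_right]

/-- An `r`-group modulo `N` has proper subgroups properly contained in their normalizers. -/
theorem exists_normalizing {r : ℕ} [Fact r.Prime] {H N K : Subgroup G} (hNK : N ≤ K) (hKH : K < H)
    (hn : H ≤ normalizer (N : Set G)) (hH : RMod r H N) :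
    ∃ x ∈ H, x ∉ K ∧ x ∈ normalizer (K : Set G) := by
  haveI := normal_subgroupOf_of_le_normalizer hn
  set mk := QuotientGroup.mk' (N.subgroupOf H)
  have hQ : IsPGroup r (H ⧸ N.subgroupOf H) := fun y => by
    obtain ⟨x, rfl⟩ := QuotientGroup.mk'_surjective _ y
    obtain ⟨n, hn'⟩ := hH x x.2
    refine ⟨n, ?_⟩
    rw [← map_pow]
    exact (QuotientGroup.eq_one_iff _).2 (by simpa [mem_subgroupOf] using hn')
  haveI := hQ.isNilpotent
  set Kb := (K.subgroupOf H).map mk
  have hback : ∀ x : H, mk x ∈ Kb → (x : G) ∈ K := by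
    intro x hx
    have h1 : x ∈ (K.subgroupOf H) ⊔ mk.ker := by rw [← comap_map_eq]; exact hx
    rw [QuotientGroup.ker_mk', sup_eq_left.2 (fun z hz => mem_subgroupOf.2 (hNK hz))] at h1
    exact h1
  have hlt : Kb < ⊤ := lt_top_iff_ne_top.2 fun e => hKH.not_ge fun x hx =>
    hback ⟨x, hx⟩ (e ▸ mem_top _)
  obtain ⟨y, hy, hyK⟩ := SetLike.exists_of_lt (normalizerCondition_of_isNilpotent Kb hlt)
  obtain ⟨x, rfl⟩ := QuotientGroup.mk'_surjective _ y
  refine ⟨x, x.2, fun h => hyK ⟨x, h, rfl⟩, mem_normalizer_of_conj fun z hz => ?_⟩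
  have := (mem_normalizer_iff.1 hy (mk ⟨z, hKH.le hz⟩)).1 ⟨⟨z, hKH.le hz⟩, hz, rfl⟩
  rw [← map_inv, ← map_mul, ← map_mul] at this
  exact hback _ this

/-- An abelian `r`-subgroup `T` modulo `N` has a subgroup of index at most `r` centralized modulo `N`
by an element of the `r'`-core modulo `N` which moves an element of `T` out of `I`. -/
theorem exists_hyperplane {r : ℕ} [Fact r.Prime] {L I N T Tn : Subgroup G}
    (hL : Group.IsSolvable L) (hNI : N ≤ I) (hIL : I ≤ L) (hn : L ≤ normalizer (N : Set G))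
    (hcore : rcore r L N ≤ N) (hTT : T ≤ Tn) (hTnI : Tn ≤ I) (hITn : I ≤ normalizer (Tn : Set G))
    (hTn : RMod r Tn N) (hTab : ∀ x ∈ T, ∀ y ∈ T, x * y = y * x) (hTe : ∀ x ∈ T, x ^ r = 1)
    (hT : ¬ T ≤ N) :
    ∃ U, U ≤ T ∧ T ⊓ N ≤ U ∧ U.relIndex T ≤ r ∧ ∃ d ∈ upc r L N,
      (∀ x ∈ U, x⁻¹ * (d * x * d⁻¹) ∈ N ∧ x⁻¹ * (d⁻¹ * x * d) ∈ N) ∧
      ∃ u ∈ T, u ∉ U ∧ d⁻¹ * u * d ∉ I := by
  haveI := hL
  have hNL : N ≤ L := hNI.trans hIL
  haveI := normal_subgroupOf_of_le_normalizer hn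
  obtain ⟨heq, -⟩ := exists_quotient r hNL hn
  set mk := QuotientGroup.mk' (N.subgroupOf L)
  haveI := CfsgLib.Solvable.pPrimeCore_normal (G := L ⧸ N.subgroupOf L) r
  set F := Cfsg.pPrimeCore r (L ⧸ N.subgroupOf L)
  have hmk : ∀ x : L, mk x = 1 ↔ (x : G) ∈ N := fun x => by
    rw [QuotientGroup.mk'_apply, QuotientGroup.eq_one_iff, mem_subgroupOf]
  set Tb := (T.subgroupOf L).map mk with hTb
  set Tnb := (Tn.subgroupOf L).map mk
  have hTbel : Cfsg.IsElementaryAbelian r Tb := by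
    refine ⟨⟨⟨?_⟩⟩, ?_⟩
    · rintro ⟨_, x, hx, rfl⟩ ⟨_, y, hy, rfl⟩
      refine Subtype.ext (show mk x * mk y = mk y * mk x from ?_)
      rw [← map_mul, ← map_mul]
      exact congrArg mk (Subtype.ext (hTab x hx y hy))
    · rintro _ ⟨x, hx, rfl⟩
      rw [← map_pow, show x ^ r = 1 from Subtype.ext (by simpa using hTe x hx), map_one]
  have hTnb : IsPGroup r Tnb := by
    rintro ⟨_, x, hx, rfl⟩
    obtain ⟨n, hn'⟩ := hTn (x : G) hx
    refine ⟨n, Subtype.ext (show mk x ^ r ^ n = 1 from ?_)⟩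
    rw [← map_pow, hmk]
    simpa using hn'
  have hFc : (Nat.card F).Coprime r := CfsgLib.Solvable.coprime_card_pPrimeCore r
  have hFT : F ⊓ Tnb = ⊥ := by
    rw [inf_comm]
    exact inf_eq_bot_of_coprime (coprime_of_pgroup hTnb hFc)
  by_contra hcon
  push Not at hcon
  refine hT (le_of_centralizes_upc hL hNL hn hcore (hTT.trans (hTnI.trans hIL))
    (hTn.mono hTT le_rfl) ?_)
  have hmain : F ≤ centralizer (Tb : Set (L ⧸ N.subgroupOf L)) := by
    refine CfsgLib.Signalizer.le_of_forall_hyperplane hTbel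
      (fun x _ => by simp [normalizer_eq_top])
      (fun hd => (Fact.out : r.Prime).ne_one (Nat.eq_one_of_dvd_coprimes hFc hd dvd_rfl))
      fun B hB hBi => ?_
    rintro e ⟨heF, heB⟩
    obtain ⟨d, rfl⟩ : ∃ d, mk d = e := QuotientGroup.mk'_surjective _ e
    refine mem_centralizer_iff.2 ?_
    rintro _ ⟨x, hx, rfl⟩
    set U := ((B.comap mk).map L.subtype) ⊓ T
    have hTL : T ≤ L := hTT.trans (hTnI.trans hIL)
    have hUmem : ∀ y : L, (y : G) ∈ T → ((y : G) ∈ U ↔ mk y ∈ B) := fun y hy =>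
      ⟨fun hyU => by
        obtain ⟨z, hz, hzy⟩ := hyU.1
        exact Subtype.ext hzy ▸ hz, fun hyB => ⟨⟨y, hyB, rfl⟩, hy⟩⟩
    have hUN : T ⊓ N ≤ U := fun z hz => (hUmem ⟨z, hTL hz.1⟩ hz.1).2 (by
      rw [(hmk _).2 hz.2]; exact one_mem B)
    have hUi : U.relIndex T ≤ r := by
      refine le_trans (le_of_eq ?_) hBi
      calc U.relIndex T = ((B.comap mk).map L.subtype).relIndex T := inf_relIndex_right _ _
        _ = (B.comap mk).relIndex (T.subgroupOf L) := by
          conv_lhs => rw [← map_subgroupOf_eq_of_le hTL]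
          exact relIndex_map_map_of_injective _ _ L.subtype_injective
        _ = B.relIndex Tb := relIndex_comap B mk _
    have hUd : ∀ z ∈ U, z⁻¹ * ((d : G) * z * (d : G)⁻¹) ∈ N ∧
        z⁻¹ * ((d : G)⁻¹ * z * d) ∈ N := by
      rintro _ ⟨⟨z, hz, rfl⟩, -⟩
      have hc : mk z * mk d = mk d * mk z := mem_centralizer_iff.1 heB _ hz
      refine ⟨(hmk (z⁻¹ * (d * z * d⁻¹))).1 ?_, (hmk (z⁻¹ * (d⁻¹ * z * d))).1 ?_⟩
      · rw [map_mul, map_mul, map_mul, map_inv, map_inv, ← hc]; group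
      · rw [map_mul, map_mul, map_mul, map_inv, map_inv, mul_assoc (mk d)⁻¹, hc]; group
    have hI : ((d⁻¹ * x * d : L) : G) ∈ I := by
      by_cases hxU : (x : G) ∈ U
      · have h1 : ((d⁻¹ * x * d : L) : G) = x * ((x : G)⁻¹ * ((d : G)⁻¹ * x * d)) := by
          simp [mul_assoc]
        rw [h1]
        exact I.mul_mem (hTnI (hTT hx)) (hNI (hUd _ hxU).2)
      · simpa using hcon U inf_le_right hUN hUi d (heq ▸ ⟨d, heF, rfl⟩) hUd x hx hxU
    set z := x⁻¹ * (d⁻¹ * x * d)
    have hzF : mk z ∈ F := by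
      have h1 := mul_mem (Normal.conj_mem inferInstance _ (inv_mem heF) (mk x)⁻¹) heF
      simpa [z, mul_assoc, -QuotientGroup.mk'_apply] using h1
    have hzI : (z : G) ∈ I := by
      simpa [z] using I.mul_mem (I.inv_mem (hTnI (hTT hx))) hI
    have hxn : mk x ∈ Tnb := ⟨x, hTT hx, rfl⟩
    have hzx : mk z * mk x * (mk z)⁻¹ * (mk x)⁻¹ = 1 := by
      refine (eq_bot_iff_forall _).1 hFT _ ⟨?_, ?_⟩
      · have h1 := mul_mem hzF (Normal.conj_mem inferInstance _ (inv_mem hzF) (mk x))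
        simpa [mul_assoc, -QuotientGroup.mk'_apply] using h1
      · refine Tnb.mul_mem ⟨z * x * z⁻¹, ?_, by rw [map_mul, map_mul, map_inv]⟩ (Tnb.inv_mem hxn)
        show ((z * x * z⁻¹ : L) : G) ∈ Tn
        simpa using conj_mem hITn hzI (hTT hx)
    have hcomm : Commute (mk x) (mk z) :=
      ((mul_inv_eq_iff_eq_mul.1 (mul_inv_eq_one.1 hzx))).symm
    have hx1 : mk x ^ r = 1 := by
      rw [← map_pow, show x ^ r = 1 from Subtype.ext (by simpa using hTe x hx), map_one]
    have hz1 : mk z ^ r = 1 := by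
      have h1 : (mk x * mk z) ^ r = 1 := by
        have h2 : mk x * mk z = (mk d)⁻¹ * mk x * ((mk d)⁻¹)⁻¹ := by simp [z, mul_assoc, -QuotientGroup.mk'_apply]
        rw [h2, conj_pow, hx1]; group
      rwa [hcomm.mul_pow, hx1, one_mul] at h1
    have hz2 : mk z = 1 := by
      rw [← orderOf_eq_one_iff]
      exact Nat.eq_one_of_dvd_coprimes hFc (orderOf_dvd_natCard F hzF)
        (orderOf_dvd_of_pow_eq_one hz1)
    have h3 : (mk d)⁻¹ * mk x * mk d = mk x := by
      have h4 : mk x * mk z = (mk d)⁻¹ * mk x * mk d := by simp [z, mul_assoc, -QuotientGroup.mk'_apply]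
      rw [← h4, hz2, mul_one]
    calc mk x * mk d = mk d * ((mk d)⁻¹ * mk x * mk d) := by group
      _ = mk d * mk x := by rw [h3]
  intro t ht f hf
  have htL : t ∈ L := hIL (hTnI (hTT ht))
  rw [heq] at hf
  obtain ⟨f, hf, rfl⟩ := hf
  have hc : mk ⟨t, htL⟩ * mk f = mk f * mk ⟨t, htL⟩ :=
    mem_centralizer_iff.1 (hmain hf) _ ⟨⟨t, htL⟩, ht, rfl⟩
  refine (hmk (⟨t, htL⟩ * f * ⟨t, htL⟩⁻¹ * f⁻¹)).1 ?_
  rw [map_mul, map_mul, map_mul, map_inv, map_inv, hc]
  group

end CfsgLib.SFT
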