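import Cfsg.Agent.SFT.Members
import Cfsg.Agent.SFT.Chain
import Cfsg.Agent.SFT.Walk

/-!
A maximal member with one nontrivial core: the reduced central module `Y` of its core, the
`r'`-core `F` of the centralizer of `Y` modulo the core, and their basic properties.
-/

set_option autoImplicit false
set_option linter.unusedSectionVars false
set_option linter.style.haveILetI false
set_option linter.deprecated false

namespace CfsgLib.SFT

open Subgroup Pointwise CfsgLib.SZ

universe u

variable {G : Type u} [Group G] [Finite G]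

/-- A maximal member with at most one nontrivial core, at the prime `r`. -/
structure Single (p : ℕ) (A : Subgroup G) (θ : G → Subgroup G) (r : ℕ) (M : Subgroup G) : Prop where
  cc : IsCC p A θ M
  other : ∀ t : ℕ, t.Prime → t ≠ r → oc t M = ⊥

/-- The elements of exponent `r` in the center of `P`. -/
def elZ (r : ℕ) (P : Subgroup G) : Subgroup G where
  carrier := {x | x ∈ P ⊓ centralizer (P : Set G) ∧ x ^ r = 1}
  one_mem' := ⟨one_mem _, one_pow r⟩
  mul_mem' := fun {a b} ha hb => ⟨mul_mem ha.1 hb.1, by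
    have hc : Commute a b := mem_centralizer_iff.1 hb.1.2 a ha.1.1
    rw [hc.mul_pow, ha.2, hb.2, one_mul]⟩
  inv_mem' := fun {a} ha => ⟨inv_mem ha.1, by rw [inv_pow, ha.2, inv_one]⟩

theorem mem_elZ {r : ℕ} {P : Subgroup G} {x : G} :
    x ∈ elZ r P ↔ (x ∈ P ∧ x ∈ centralizer (P : Set G)) ∧ x ^ r = 1 := Iff.rfl

theorem elZ_le (r : ℕ) (P : Subgroup G) : elZ r P ≤ P := fun _ hx => hx.1.1

theorem elZ_le_centralizer (r : ℕ) (P : Subgroup G) : elZ r P ≤ centralizer (P : Set G) :=
  fun _ hx => hx.1.2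

theorem le_normalizer_elZ {X P : Subgroup G} (r : ℕ) (h : X ≤ normalizer (P : Set G)) :
    X ≤ normalizer (elZ r P : Set G) := fun g hg => mem_normalizer_of_conj fun x hx =>
  ⟨⟨conj_mem h hg hx.1.1, conj_mem (le_normalizer_centralizer h) hg hx.1.2⟩, by
    rw [conj_pow, hx.2, mul_one, mul_inv_cancel]⟩

theorem elZ_ne_bot {r : ℕ} [Fact r.Prime] {P : Subgroup G} (hP : IsPGroup r P) (h : P ≠ ⊥) :
    elZ r P ≠ ⊥ := by
  have hne := inf_centralizer_ne_bot hP hP le_normalizer h
  have hp : IsPGroup r ↥(P ⊓ centralizer (P : Set G)) := hP.to_le inf_le_left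
  haveI : Nontrivial ↥(P ⊓ centralizer (P : Set G)) := (nontrivial_iff_ne_bot _).2 hne
  have hd : r ∣ Nat.card ↥(P ⊓ centralizer (P : Set G)) := by
    obtain ⟨k, hk, he⟩ := hp.nontrivial_iff_card.1 inferInstance
    exact he ▸ dvd_pow_self r hk.ne'
  obtain ⟨x, hx⟩ := exists_prime_orderOf_dvd_card' r hd
  intro hbot
  have h1 : (x : G) ∈ elZ r P := ⟨x.2, by
    rw [← SubmonoidClass.coe_pow, ← hx, pow_orderOf_eq_one]; rfl⟩
  rw [hbot, mem_bot] at h1
  have : x = 1 := Subtype.ext h1
  rw [this, orderOf_one] at hx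
  exact (Fact.out : r.Prime).ne_one hx.symm

theorem elZ_elementary {r : ℕ} {V P : Subgroup G} (h : V ≤ elZ r P) :
    Cfsg.IsElementaryAbelian r V :=
  ⟨⟨⟨fun x y => Subtype.ext (mem_centralizer_iff.1 (h y.2).1.2 x (h x.2).1.1)⟩⟩,
    fun x hx => (h hx).2⟩

/-- The largest central exponent-`r` normal subgroup of `M` in `O_r(M)` on which `M` acts without
nontrivial normal `r`-subgroups. -/
def elY (r : ℕ) (M : Subgroup G) : Subgroup G :=
  sSup {V : Subgroup G | V ≤ elZ r (oc r M) ∧ M ≤ normalizer (V : Set G) ∧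
    ∀ R, R ≤ M → M ≤ normalizer (R : Set G) → RMod r R (centralizer (V : Set G)) →
      R ≤ centralizer (V : Set G)}

theorem elY_le (r : ℕ) (M : Subgroup G) : elY r M ≤ elZ r (oc r M) := sSup_le fun _ h => h.1

theorem le_normalizer_elY (r : ℕ) (M : Subgroup G) : M ≤ normalizer (elY r M : Set G) := by
  simp only [elY, sSup_eq_iSup']
  exact le_normalizer_iSup fun V => V.2.2.1

theorem elY_reduced {r : ℕ} {M R : Subgroup G} (hRM : R ≤ M) (hn : M ≤ normalizer (R : Set G))
    (hR : RMod r R (centralizer (elY r M : Set G))) : R ≤ centralizer (elY r M : Set G) := by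
  refine le_centralizer_symm (sSup_le fun V hV => le_centralizer_symm ?_)
  exact hV.2.2 R hRM hn (hR.mono le_rfl (centralizer_le (SetLike.coe_subset_coe.2 (le_sSup hV))))

theorem le_normalizer_elY_of_le {X : Subgroup G} (r : ℕ) {M : Subgroup G}
    (h : X ≤ normalizer (M : Set G)) : X ≤ normalizer (elY r M : Set G) := by
  intro g hg
  refine mem_normalizer_of_conj fun x hx => ?_
  have hM := cj_eq_of_mem (h hg)
  have hMi : cj g⁻¹ M = M := cj_eq_of_mem (inv_mem (h hg))
  suffices cj g (elY r M) ≤ elY r M from this ⟨x, hx, rfl⟩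
  rw [elY, cj, Subgroup.map_le_iff_le_comap]
  refine sSup_le fun V hV => map_le_iff_le_comap.1 (le_sSup ⟨?_, ?_, fun R hR hn hm => ?_⟩)
  · exact cj_le_of_mem (le_normalizer_elZ r (le_normalizer_oc_of_le r h) hg) hV.1
  · calc M = cj g M := hM.symm
      _ ≤ cj g (normalizer (V : Set G)) := cj_mono hV.2.1
      _ ≤ normalizer (cj g V : Set G) := le_normalizer_map _
  · have h1 : cj g⁻¹ R ≤ centralizer (V : Set G) := by
      refine hV.2.2 _ ((cj_mono hR).trans hMi.le) ?_ ?_
      · calc M = cj g⁻¹ M := hMi.symm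
          _ ≤ cj g⁻¹ (normalizer (R : Set G)) := cj_mono hn
          _ ≤ normalizer (cj g⁻¹ R : Set G) := le_normalizer_map _
      · rintro _ ⟨y, hy, rfl⟩
        obtain ⟨n, hn'⟩ := hm y hy
        refine ⟨n, ?_⟩
        rw [← map_pow]
        have h2 : (MulAut.conj g⁻¹).toMonoidHom (y ^ r ^ n) ∈
            cj g⁻¹ (centralizer (cj g V : Set G)) := ⟨_, hn', rfl⟩
        rwa [cj_centralizer, cj_cj, inv_mul_cancel, cj_one] at h2
    have h3 := cj_mono (g := g) h1
    rwa [cj_cj, mul_inv_cancel, cj_one, cj_centralizer] at h3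

theorem elY_ne_bot {r : ℕ} [Fact r.Prime] {M : Subgroup G} (h : oc r M ≠ ⊥) :
    elY r M ≠ ⊥ := by
  have hX := isPGroup_oc r M
  obtain ⟨U, hU, ⟨hU1, hMU⟩, hmin⟩ := exists_minimal_le_of_wellFoundedLT
    (fun V : Subgroup G => V ≠ ⊥ ∧ M ≤ normalizer (V : Set G)) (elZ r (oc r M))
    ⟨elZ_ne_bot hX h, le_normalizer_elZ r (le_normalizer_oc r M)⟩
  intro hbot
  suffices hUY : U ≤ elY r M from hU1 (le_bot_iff.1 (hUY.trans hbot.le))
  refine le_sSup ⟨hU, hMU, fun R hR hn hm => ?_⟩
  have hne := inf_centralizer_ne_bot_of_rmod (hX.to_le (hU.trans (elZ_le r _))) hU1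
    (hR.trans hMU) hm
  exact le_centralizer_symm ((hmin ⟨hne, le_normalizer_inf hMU (le_normalizer_centralizer hn)⟩
    inf_le_left).trans inf_le_right)

/-- The `r'`-core of the centralizer of `Y` in `M` modulo `O_r(M)`. -/
def elF (r : ℕ) (M : Subgroup G) : Subgroup G :=
  upc r (M ⊓ centralizer (elY r M : Set G)) (oc r M)

theorem oc_le_inf_centralizer_elY (r : ℕ) (M : Subgroup G) :
    oc r M ≤ M ⊓ centralizer (elY r M : Set G) :=
  le_inf (oc_le r M) (le_centralizer_symm ((elY_le r M).trans (elZ_le_centralizer r _)))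

theorem elF_spec (r : ℕ) (M : Subgroup G) :
    oc r M ≤ elF r M ∧ elF r M ≤ M ⊓ centralizer (elY r M : Set G) ∧
      M ⊓ centralizer (elY r M : Set G) ≤ normalizer (elF r M : Set G) ∧
      ((oc r M).relIndex (elF r M)).Coprime r :=
  upc_spec r (oc_le_inf_centralizer_elY r M) (inf_le_left.trans (le_normalizer_oc r M))

theorem le_normalizer_elF (r : ℕ) {X M : Subgroup G} (h : X ≤ normalizer (M : Set G)) :
    X ≤ normalizer (elF r M : Set G) :=
  le_normalizer_upc_of_le r (oc_le_inf_centralizer_elY r M)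
    (inf_le_left.trans (le_normalizer_oc r M))
    (le_normalizer_inf h (le_normalizer_centralizer (le_normalizer_elY_of_le r h)))
    (le_normalizer_oc_of_le r h)

theorem elF_le (r : ℕ) (M : Subgroup G) : elF r M ≤ M := (elF_spec r M).2.1.trans inf_le_left

/-- `F` centralizes every normal subgroup of exponent `r` in the center of `O_r(M)`. -/
theorem elF_le_centralizer {r : ℕ} [Fact r.Prime] {M : Subgroup G} :
    ∀ V : Subgroup G, V ≤ elZ r (oc r M) → M ≤ normalizer (V : Set G) →
      elF r M ≤ centralizer (V : Set G) := by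
  intro V
  induction V using WellFoundedLT.induction with | _ V ih => ?_
  intro hV hMV
  obtain ⟨hXF, hFC, -, hcop⟩ := elF_spec r M
  set R := rcore r M (centralizer (V : Set G))
  have hRmod := rmod_rcore r (le_normalizer_centralizer hMV)
  by_cases hR : R ≤ centralizer (V : Set G)
  · refine hFC.trans (inf_le_right.trans (centralizer_le (SetLike.coe_subset_coe.2 ?_)))
    exact le_sSup ⟨hV, hMV, fun R' h1 h2 h3 => (le_rcore h1 h2 h3).trans hR⟩
  · have hlt : V ⊓ centralizer (R : Set G) < V :=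
      inf_lt_left.2 fun h => hR (le_centralizer_symm h)
    have h0 := ih _ hlt (inf_le_left.trans hV)
      (le_normalizer_inf hMV (le_normalizer_centralizer (le_normalizer_rcore r M _)))
    intro f hf
    haveI := (elZ_elementary hV).1
    letI : CommGroup V := { (inferInstance : Group V) with
      mul_comm := (elZ_elementary hV).1.1.comm }
    have hVp : IsPGroup r V := (isPGroup_oc r M).to_le (hV.trans (elZ_le r _))
    have hXV : oc r M ≤ centralizer (V : Set G) :=
      le_centralizer_symm (hV.trans (elZ_le_centralizer r _))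
    let φ : normalizer (V : Set G) →* MulAut V := normalizerMonoidHom V
    have hker : ∀ g : normalizer (V : Set G), (g : G) ∈ centralizer (V : Set G) → φ g = 1 := by
      intro g hg
      ext w
      show (g : G) * w * (g : G)⁻¹ = w
      rw [← mem_centralizer_iff.1 hg w w.2, mul_inv_cancel_right]
    have hfM : f ∈ M := elF_le r M hf
    set f' : normalizer (V : Set G) := ⟨f, hMV hfM⟩
    set n := (oc r M).relIndex (elF r M)
    have hpow : ∀ y ∈ elF r M, y ^ n ∈ centralizer (V : Set G) := by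
      intro y hy
      haveI : ((oc r M).subgroupOf (elF r M)).Normal :=
        normal_subgroupOf_of_le_normalizer ((elF_le r M).trans (le_normalizer_oc r M))
      exact hXV (by simpa [mem_subgroupOf, Subgroup.relIndex, n] using
        pow_index_mem ((oc r M).subgroupOf (elF r M)) ⟨y, hy⟩)
    have hBp : IsPGroup r ((R.subgroupOf (normalizer (V : Set G))).map φ) := by
      rintro ⟨_, x, hx, rfl⟩
      obtain ⟨m, hm⟩ := hRmod x hx
      exact ⟨m, Subtype.ext (by
        show φ x ^ r ^ m = 1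
        rw [← map_pow]; exact hker _ (by simpa using hm))⟩
    have he : φ f' = 1 := by
      refine eq_one_of_fixes hVp _ hBp _ ?_ ?_ ?_
      · refine hcop.coprime_dvd_left (orderOf_dvd_of_pow_eq_one ?_)
        rw [← map_pow]; exact hker _ (by simpa [f', n] using hpow f hf)
      · rintro _ ⟨x, hx, rfl⟩
        have hxM : (x : G) ∈ M := rcore_le r M _ hx
        have hyR : (x : G) * f * (x : G)⁻¹ * f⁻¹ ∈ R := by
          have := R.mul_mem hx (conj_mem (le_normalizer_rcore r M _) hfM (R.inv_mem hx))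
          simpa [mul_assoc] using this
        have hyF : (x : G) * f * (x : G)⁻¹ * f⁻¹ ∈ elF r M :=
          (elF r M).mul_mem (conj_mem (le_normalizer_elF r le_normalizer) hxM hf)
            ((elF r M).inv_mem hf)
        have h2 : φ (x * f' * x⁻¹ * f'⁻¹) = 1 :=
          hker _ (hRmod.coprime_mem hyR (hpow _ hyF) hcop)
        rwa [map_mul, map_mul, map_mul, map_inv, map_inv, mul_inv_eq_one,
          mul_inv_eq_iff_eq_mul] at h2
      · intro v hv
        refine Subtype.ext ?_
        show f * v * f⁻¹ = v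
        have hv0 : (v : G) ∈ V ⊓ centralizer (R : Set G) := ⟨v.2, mem_centralizer_iff.2 fun x hx => by
          have h2 := congrArg Subtype.val
            (hv (φ ⟨x, hMV (rcore_le r M _ hx)⟩) ⟨_, hx, rfl⟩)
          exact mul_inv_eq_iff_eq_mul.1 h2⟩
        rw [← mem_centralizer_iff.1 (h0 hf) v hv0, mul_inv_cancel_right]
    refine mem_centralizer_iff.2 fun w hw => ?_
    have h3 := congrArg Subtype.val (congrArg (fun e : MulAut V => e ⟨w, hw⟩) he)
    exact (mul_inv_eq_iff_eq_mul.1 h3).symm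

/-- An element stabilizing a series with two terms, the lower an `r`-group, is an `r`-element
modulo the centralizer. -/
theorem rmod_of_stab {r : ℕ} [Fact r.Prime] {H W Z : Subgroup G} (hZ : IsPGroup r Z)
    (h : ∀ l ∈ H, l ∈ centralizer (Z : Set G) ∧ ∀ w ∈ W, w⁻¹ * (l * w * l⁻¹) ∈ Z) :
    RMod r H (centralizer (W : Set G)) := by
  obtain ⟨k, hk⟩ := IsPGroup.iff_card.1 hZ
  refine fun l hl => ⟨k, hk ▸ pow_mem_centralizer (U := Z) ?_ (h l hl).1 (h l hl).2⟩
  intro z hz
  exact congrArg Subtype.val (pow_card_eq_one' (x := (⟨z, hz⟩ : Z)))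

/-- The elements stabilizing a series form a subgroup. -/
theorem stab_sup {H₁ H₂ W Z : Subgroup G}
    (h₁ : ∀ l ∈ H₁, l ∈ centralizer (Z : Set G) ∧ ∀ w ∈ W, w⁻¹ * (l * w * l⁻¹) ∈ Z)
    (h₂ : ∀ l ∈ H₂, l ∈ centralizer (Z : Set G) ∧ ∀ w ∈ W, w⁻¹ * (l * w * l⁻¹) ∈ Z) :
    ∀ l ∈ H₁ ⊔ H₂, l ∈ centralizer (Z : Set G) ∧ ∀ w ∈ W, w⁻¹ * (l * w * l⁻¹) ∈ Z := by
  let S : Subgroup G :=
    { carrier := {l | l ∈ centralizer (Z : Set G) ∧ ∀ w ∈ W, w⁻¹ * (l * w * l⁻¹) ∈ Z}
      one_mem' := ⟨one_mem _, fun w _ => by simp⟩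
      mul_mem' := fun {a b} ha hb => ⟨mul_mem ha.1 hb.1, fun w hw => by
        have h1 := hb.2 w hw
        have h2 : a * (w⁻¹ * (b * w * b⁻¹)) * a⁻¹ = w⁻¹ * (b * w * b⁻¹) := by
          rw [← mem_centralizer_iff.1 ha.1 _ h1, mul_inv_cancel_right]
        have h3 : w⁻¹ * (a * b * w * (a * b)⁻¹) =
            (w⁻¹ * (a * w * a⁻¹)) * (a * (w⁻¹ * (b * w * b⁻¹)) * a⁻¹) := by group
        rw [h3, h2]
        exact mul_mem (ha.2 w hw) h1⟩
      inv_mem' := fun {a} ha => ⟨inv_mem ha.1, fun w hw => by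
        have h1 := ha.2 w hw
        have h2 : a⁻¹ * (w⁻¹ * (a * w * a⁻¹)) * a = w⁻¹ * (a * w * a⁻¹) := by
          rw [mul_assoc, mem_centralizer_iff.1 ha.1 _ h1, inv_mul_cancel_left]
        have h3 : w⁻¹ * (a⁻¹ * w * (a⁻¹)⁻¹) = (a⁻¹ * (w⁻¹ * (a * w * a⁻¹)) * a)⁻¹ := by group
        rw [h3, h2]
        exact inv_mem h1⟩ }
  exact fun l hl => (sup_le (c := S) h₁ h₂) hl

end CfsgLib.SFT
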