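import Cfsg.Agent.SFT.Master

/-!
The setting of a member `L` above `I = M ⊓ L`, minimal among such, and its consequences: the
first layer of conjugates of `Y`, and the comparison of indices for abelian subgroups of `O_r(M)`.
-/

set_option autoImplicit false
set_option linter.unusedSectionVars false
set_option linter.style.haveILetI false
set_option linter.deprecated false

namespace CfsgLib.SFT

open Subgroup Pointwise CfsgLib.SZ

universe u

variable {G : Type u} [Group G] [Finite G] {p : ℕ} [Fact p.Prime] {A : Subgroup G}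
  {θ : G → Subgroup G} {r : ℕ} [Fact r.Prime] {M : Subgroup G}

local notation "C" => Cfsg.signalizerInf A θ

/-- A member `L` with `I = M ⊓ L` maximal among the invariant subgroups of `L`. -/
structure Above (p : ℕ) (A : Subgroup G) (θ : G → Subgroup G) (r : ℕ) (M L I : Subgroup G) :
    Prop where
  mem : Mem p A θ L
  IM : I ≤ M
  IL : I ≤ L
  AI : A ≤ normalizer (I : Set G)
  CI : Cfsg.signalizerInf A θ ≤ I
  FI : elF r M ≤ I
  max : ∀ S, I ≤ S → S ≤ L → A ≤ normalizer (S : Set G) → S = I ∨ S = L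
  nle : ¬ L ≤ M
  core : oc r L ≤ M
  self : L ⊓ centralizer (oc r L : Set G) ≤ oc r L
  notX : ¬ oc r M ≤ oc r L

namespace Above

variable (hK : ∀ (H : Type u) [Group H] [Finite H], RankBound H)
variable (h : MinCex p A θ) (hM : Single p A θ r M) {L I : Subgroup G}
  (S : Above p A θ r M L I)
include h hM S

theorem XI : oc r M ≤ I := (elF_spec r M).1.trans S.FI

theorem AL : A ≤ normalizer (L : Set G) := h.A_le_normalizer S.mem

theorem coreI : oc r L ≤ I := by
  have hA : A ≤ normalizer ((I ⊔ oc r L : Subgroup G) : Set G) :=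
    le_normalizer_sup S.AI (le_normalizer_oc_of_le r (S.AL h hM))
  rcases S.max _ le_sup_left (sup_le S.IL (oc_le r L)) hA with e | e
  · exact le_sup_right.trans e.le
  · exact absurd (e.ge.trans (sup_le S.IM S.core)) S.nle

/-- An invariant subgroup outside `I` normalizing `K` forces `L` to normalize `K`. -/
theorem grow {U K : Subgroup G} (hU : U ≤ L) (hAU : A ≤ normalizer (U : Set G)) (hUI : ¬ U ≤ I)
    (hIK : I ≤ normalizer (K : Set G)) (hUK : U ≤ normalizer (K : Set G)) :
    L ≤ normalizer (K : Set G) := by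
  rcases S.max (I ⊔ U) le_sup_left (sup_le S.IL hU) (le_normalizer_sup S.AI hAU) with e | e
  · exact absurd (le_sup_right.trans e.le) hUI
  · exact e.ge.trans (sup_le hIK hUK)

theorem inf_centralizer_elY_le : L ⊓ centralizer (elY r M : Set G) ≤ I := by
  by_contra hne
  set Y := elY r M
  have hAY : A ≤ normalizer (Y : Set G) := le_normalizer_elY_of_le r (hM.A_le h)
  have hLY : L ≤ normalizer (Y : Set G) :=
    S.grow h hM inf_le_left (le_normalizer_inf (S.AL h hM) (le_normalizer_centralizer hAY)) hne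
      (S.IM.trans (le_normalizer_elY r M)) (inf_le_right.trans (centralizer_le_normalizer (Y : Set G)))
  exact S.nle (h.le_cc hM.cc ((elY_le r M).trans ((elZ_le r _).trans (oc_le r M)))
    (elY_ne_bot (hM.oc_ne_bot h)) hAY (le_normalizer_elY r M) S.mem hLY)

theorem Ln : L ≤ normalizer (oc r L : Set G) := le_normalizer_oc r L

theorem An : A ≤ normalizer (oc r L : Set G) := le_normalizer_oc_of_le r (S.AL h hM)

theorem Cn : C ≤ normalizer (oc r L : Set G) := S.CI.trans (S.IL.trans (le_normalizer_oc r L))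

theorem Fn : elF r M ≤ normalizer (oc r L : Set G) :=
  S.FI.trans (S.IL.trans (le_normalizer_oc r L))

include hK in
/-- `Y` lies in the `r`-core of `L`. -/
theorem elY_le_oc : elY r M ≤ oc r L := by
  by_contra hne
  set Y := elY r M with hY
  set N := oc r L
  have hYX : Y ≤ oc r M := (elY_le r M).trans (elZ_le r _)
  have hYI : Y ≤ I := hYX.trans (S.XI h hM)
  have hNM : N ≤ M := S.core
  have hYn : Y ≤ normalizer (N : Set G) := hYI.trans (S.IL.trans (le_normalizer_oc r L))
  have hcore : rcore r L N ≤ N := by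
    refine le_oc (rcore_le r _ _) (fun x => ?_) (le_normalizer_rcore r _ _)
    obtain ⟨a, ha⟩ := rmod_rcore r (le_normalizer_oc r L) (x : G) x.2
    obtain ⟨b, hb⟩ := isPGroup_oc r L ⟨_, ha⟩
    refine ⟨a + b, Subtype.ext ?_⟩
    rw [pow_add, pow_mul, SubmonoidClass.coe_pow, SubmonoidClass.coe_pow]
    exact congrArg Subtype.val hb
  have hP : IsPGroup r ↥(Y ⊔ N) :=
    ((isPGroup_oc r M).to_le hYX).to_sup_of_normal_right' (isPGroup_oc r L) hYn
  have hYcomm : ∀ x ∈ Y, ∀ y ∈ Y, x * y = y * x := fun x hx y hy =>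
    mem_centralizer_iff.1 (elY_le r M hy).1.2 x (elY_le r M hx).1.1
  obtain ⟨U, hUY, hSU, hUi, d, hd, hdU, u, hu, huU, hud⟩ :=
    exists_hyperplane (T := Y) (Tn := Y ⊔ N) (I := I) S.mem.1 (S.coreI h hM) S.IL
      (le_normalizer_oc r L) hcore le_sup_left (sup_le hYI (S.coreI h hM))
      (le_normalizer_sup (S.IM.trans (le_normalizer_elY r M))
        (S.IL.trans (le_normalizer_oc r L)))
      (RMod.of_pgroup hP _) hYcomm (fun x hx => (elY_le r M hx).2) hne
  obtain ⟨-, hUL, hUn, -⟩ := upc_spec r (oc_le r L) (le_normalizer_oc r L)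
  have hdL : d ∈ L := hUL hd
  have hPM : Y ⊔ N ≤ M := sup_le (hYX.trans (oc_le r M)) hNM
  have hAP : A ≤ normalizer ((Y ⊔ N : Subgroup G) : Set G) :=
    le_normalizer_sup (le_normalizer_elY_of_le r (hM.A_le h)) (S.An h hM)
  have hCP : C ≤ normalizer ((Y ⊔ N : Subgroup G) : Set G) :=
    le_normalizer_sup (hM.cc.2.1.trans (le_normalizer_elY r M)) (S.Cn h hM)
  have hUab : U ≤ centralizer (U : Set G) := fun x hx => mem_centralizer_iff.2 fun y hy =>
    hYcomm y (hUY hy) x (hUY hx)
  have bnd : ∀ g : G, cj g U ≤ Y ⊔ N → ¬ cj g U ≤ centralizer (Y : Set G) →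
      r * (centralizer (Y : Set G)).relIndex (cj g U) ≤
        (centralizer (Y : Set G)).relIndex (cj g⁻¹ U) := by
    intro g hg hne'
    have h1 := hM.bound hK h hPM (RMod.of_pgroup hP _) hAP hCP hg
      (by rw [← cj_centralizer]; exact cj_mono hUab)
      (by rintro _ ⟨x, hx, rfl⟩; rw [← map_pow, (elY_le r M (hUY hx)).2, map_one]) hne'
    have h2 : (centralizer (cj g U : Set G)).relIndex Y ≤
        r * (centralizer (Y : Set G)).relIndex (cj g⁻¹ U) := by
      refine (relIndex_le_mul hUY).trans (Nat.mul_le_mul hUi ?_)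
      rw [relIndex_centralizer_cj_left g U U]
      exact relIndex_le_of_le_left (centralizer_le (SetLike.coe_subset_coe.2 hUY))
        index_ne_zero_of_finite
    have h3 := h1.trans h2
    rw [sq, mul_assoc] at h3
    exact Nat.le_of_mul_le_mul_left h3 (Fact.out : r.Prime).pos
  have hd₁ : cj d U ≤ Y ⊔ N := by
    rintro _ ⟨x, hx, rfl⟩
    show d * x * d⁻¹ ∈ Y ⊔ N
    rw [show d * x * d⁻¹ = x * (x⁻¹ * (d * x * d⁻¹)) by group]
    exact mul_mem (mem_sup_left (hUY hx)) (mem_sup_right (hdU x hx).1)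
  have hd₂ : cj d⁻¹ U ≤ Y ⊔ N := by
    rintro _ ⟨x, hx, rfl⟩
    show d⁻¹ * x * d⁻¹⁻¹ ∈ Y ⊔ N
    rw [show d⁻¹ * x * d⁻¹⁻¹ = x * (x⁻¹ * (d⁻¹ * x * d)) by group]
    exact mul_mem (mem_sup_left (hUY hx)) (mem_sup_right (hdU x hx).2)
  have h2r := (Fact.out : r.Prime).two_le
  have both : cj d U ≤ centralizer (Y : Set G) ∧ cj d⁻¹ U ≤ centralizer (Y : Set G) := by
    have p₁ := one_le_relIndex (centralizer (Y : Set G)) (cj d U)
    have p₂ := one_le_relIndex (centralizer (Y : Set G)) (cj d⁻¹ U)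
    by_cases c₁ : cj d U ≤ centralizer (Y : Set G)
    · refine ⟨c₁, ?_⟩
      by_contra c₂
      have h1 := bnd d⁻¹ hd₂ c₂
      rw [inv_inv, relIndex_eq_one.2 c₁] at h1
      nlinarith
    · exfalso
      have h1 := bnd d hd₁ c₁
      by_cases c₂ : cj d⁻¹ U ≤ centralizer (Y : Set G)
      · rw [relIndex_eq_one.2 c₂] at h1
        nlinarith
      · have h2 := bnd d⁻¹ hd₂ c₂
        rw [inv_inv] at h2
        nlinarith
  set e := d⁻¹ with he
  have heL : e ∈ L := L.inv_mem hdL
  have hUe : U ≤ centralizer (cj e Y : Set G) := by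
    have := both.1
    rwa [cj_le_centralizer_iff] at this
  set W := Y ⊓ N
  set Z := W ⊔ cj e W
  have hWU : W ≤ U := le_trans (by exact le_rfl) hSU
  have hWn : cj e W ≤ N := cj_le_of_mem (le_normalizer_oc r L heL) inf_le_right
  have hZN : Z ≤ N := sup_le inf_le_right hWn
  have hYW : ∀ y ∈ Y, ∀ x ∈ N, x⁻¹ * (y * x * y⁻¹) ∈ W := fun y hy x hx => by
    refine mem_inf.2 ⟨?_, N.mul_mem (N.inv_mem hx) (conj_mem hYn hy hx)⟩
    have h1 : x⁻¹ * (y * x * y⁻¹) = (x⁻¹ * y * x) * y⁻¹ := by group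
    rw [h1]
    exact Y.mul_mem ((mem_normalizer_iff''.1 (le_normalizer_elY r M (hNM hx)) y).1 hy) (Y.inv_mem hy)
  have hYZ : Y ≤ centralizer (Z : Set G) := le_centralizer_symm (sup_le
    (fun x hx => mem_centralizer_iff.2 fun y hy => hYcomm y hy x hx.1)
    ((cj_mono hWU).trans both.2))
  have hYZ' : cj e Y ≤ centralizer (Z : Set G) := le_centralizer_symm (sup_le
    (hWU.trans hUe) (by
      rw [← cj_centralizer]
      exact cj_mono fun x hx => mem_centralizer_iff.2 fun y hy => hYcomm y hy x hx.1))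
  have hs := stab_sup (H₁ := Y) (H₂ := cj e Y) (W := N) (Z := Z)
    (fun l hl => ⟨hYZ hl, fun x hx => mem_sup_left (hYW l hl x hx)⟩)
    (fun l hl => ⟨hYZ' hl, fun x hx => mem_sup_right (mem_cj.2 (by
      have hx' : e⁻¹ * x * e ∈ N :=
        (mem_normalizer_iff''.1 (le_normalizer_oc r L heL) x).1 hx
      simpa [mul_assoc] using hYW _ (mem_cj.1 hl) _ hx'))⟩)
  have hHL : Y ⊔ cj e Y ≤ L :=
    sup_le (hYI.trans S.IL) ((cj_le_of_mem (le_normalizer heL) (hYI.trans S.IL)))
  have hHmod : RMod r (Y ⊔ cj e Y) N := fun x hx => by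
    obtain ⟨n, hn⟩ := rmod_of_stab ((isPGroup_oc r L).to_le hZN) hs x hx
    exact ⟨n, S.self ⟨pow_mem (hHL hx) _, hn⟩⟩
  have hc : e * u * e⁻¹ * u⁻¹ ∈ N := by
    refine mem_of_upc_of_rmod (oc_le r L) (le_normalizer_oc r L) hHmod
      (mul_mem (mem_sup_right ⟨u, hu, rfl⟩) (mem_sup_left (inv_mem hu))) ?_
    have heu : e ∈ upc r L N := inv_mem hd
    have := (upc r L N).mul_mem heu (conj_mem hUn (S.IL (hYI hu)) (inv_mem heu))
    simpa [mul_assoc] using this
  apply hud
  have := mul_mem (S.coreI h hM hc) (hYI hu)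
  simpa [he, mul_assoc] using this

end Above

end CfsgLib.SFT
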