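import Cfsg.Agent.SFT.MasterCompare

/-!
Uniqueness of maximal members with one core.
-/

set_option autoImplicit false
set_option linter.unusedSectionVars false
set_option linter.style.haveILetI false
set_option linter.deprecated false

namespace CfsgLib.SFT

open Subgroup Pointwise CfsgLib.SZ

universe u

variable {G : Type u} [Group G] [Finite G] {p : ℕ} [Fact p.Prime] {A : Subgroup G}
  {θ : G → Subgroup G} {r : ℕ} [Fact r.Prime] {M : Subgroup G}

local notation "C" => Cfsg.signalizerInf A θ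

namespace Above

variable (hK : ∀ (H : Type u) [Group H] [Finite H], RankBound H)
variable (h : MinCex p A θ) (hM : Single p A θ r M) {L I : Subgroup G}
  (S : Above p A θ r M L I)
include hK h hM S

/-- There is no member above `I`. -/
theorem false_of_above : False := by
  set Y := elY r M
  set V := elV r M L
  have toX : ∀ k, (∀ g ∈ pal L M k, cj g Y ≤ oc r L) → ∀ g ∈ pal L M k, cj g Y ≤ oc r M :=
    fun k hk g hg => hM.cj_le_oc hK h (isPGroup_oc r L) S.core (S.An h hM) (S.Cn h hM)
      (S.Fn h hM) (hk g hg) (hk _ (inv_mem_pal hg))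
  have key : ∀ k, ∀ j ≤ k, ∀ g ∈ pal L M j, cj g Y ≤ oc r L := by
    intro k
    induction k with
    | zero =>
      intro j hj g hg
      rw [Nat.le_zero.1 hj] at hg
      exact S.cj_le_core hK h hM hg
    | succ k ih =>
      intro j hj
      rcases Nat.lt_or_eq_of_le hj with hj' | rfl
      · exact ih j (Nat.le_of_lt_succ hj')
      rintro _ ⟨_, ⟨l, hl, m, hm, rfl⟩, g, hg, rfl⟩
      show cj (l * m * g) Y ≤ oc r L
      rw [show l * m * g = l * (m * g) from mul_assoc _ _ _, ← cj_cj]
      refine cj_le_of_mem (le_normalizer_oc r L hl) ?_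
      have hU : cj (m * g) V ≤ oc r M := cj_elV_le fun l' hl' => by
        rw [mul_assoc, ← cj_cj]
        exact cj_le_of_mem (le_normalizer_oc r M hm)
          (toX k (ih k le_rfl) _ (pal_right hg hl'))
      obtain ⟨l₁, hl₁, g₃, hg₃, hU'⟩ : ∃ l₁ ∈ L, ∃ g₃, l₁ * g₃ = g⁻¹ ∧
          cj (g₃ * m⁻¹) V ≤ oc r M := by
        cases k with
        | zero =>
          refine ⟨g⁻¹, L.inv_mem hg, 1, mul_one _, cj_elV_le fun l' hl' => ?_⟩
          rw [one_mul, ← cj_cj]
          exact cj_le_of_mem (le_normalizer_oc r M (M.inv_mem hm)) (S.cj_le_X hK h hM hl')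
        | succ k =>
          obtain ⟨_, ⟨l₁, hl₁, m₃, hm₃, rfl⟩, g₄, hg₄, he⟩ := inv_mem_pal hg
          refine ⟨l₁, hl₁, m₃ * g₄, by simpa [mul_assoc] using he, cj_elV_le fun l' hl' => ?_⟩
          rw [show m₃ * g₄ * m⁻¹ * l' = m₃ * (g₄ * m⁻¹ * l') by group, ← cj_cj]
          exact cj_le_of_mem (le_normalizer_oc r M hm₃)
            (toX (k + 1) (ih (k + 1) le_rfl) _ (pal_succ_mem_right hg₄ (M.inv_mem hm) hl'))
      set U := cj (m * g) V
      set U' := cj (g₃ * m⁻¹) V
      have he : (m * g)⁻¹ = l₁ * (g₃ * m⁻¹) := by rw [← mul_assoc, hg₃]; group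
      have hab : ∀ x : G, cj x V ≤ centralizer (cj x V : Set G) := fun x => by
        rw [← cj_centralizer]
        exact cj_mono fun y hy => mem_centralizer_iff.2 fun z hz => mem_centralizer_iff.1
          (S.V_le_elZ hK h hM hy).1.2 z hz
      have hexp : ∀ x : G, ∀ y ∈ cj x V, y ^ r = 1 := by
        rintro x _ ⟨y, hy, rfl⟩
        rw [← map_pow, (S.V_le_elZ hK h hM hy).2, map_one]
      have eV : cj l₁ V = V := cj_eq_of_mem (le_normalizer_elV hl₁)
      have e₁ : (centralizer (U : Set G)).relIndex V =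
          (centralizer (V : Set G)).relIndex U' := by
        rw [relIndex_centralizer_cj_left (m * g) V V, he, ← cj_cj]
        conv_lhs => rw [show centralizer (V : Set G) = centralizer (cj l₁ V : Set G) by rw [eV]]
        exact relIndex_centralizer_cj l₁ V U'
      have e₂ : (centralizer (U' : Set G)).relIndex V =
          (centralizer (V : Set G)).relIndex U := by
        rw [← relIndex_centralizer_cj l₁ U' V, eV, cj_cj, ← he, relIndex_centralizer_cj_left,
          inv_inv]
      have hUC : U ≤ centralizer (V : Set G) := by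
        by_contra hne
        have h1 : (centralizer (V : Set G)).relIndex U < (centralizer (U : Set G)).relIndex V :=
          S.compare hK h hM U hU (hab _) (hexp _) hne
        rw [e₁] at h1
        by_cases hne' : U' ≤ centralizer (V : Set G)
        · rw [relIndex_eq_one.2 hne'] at h1
          have := one_le_relIndex (centralizer (V : Set G)) U
          omega
        · have h2 : (centralizer (V : Set G)).relIndex U' < (centralizer (U' : Set G)).relIndex V :=
            S.compare hK h hM U' hU' (hab _) (hexp _) hne'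
          rw [e₂] at h2
          omega
      refine le_trans (cj_mono elY_le_elV) (le_trans (le_inf hU
        (le_inf (hU.trans ((S.XI h hM).trans S.IL)) hUC)) ?_)
      set DV := L ⊓ centralizer (V : Set G)
      have hDVM : DV ≤ M := ((inf_le_inf_left _
        (centralizer_le (SetLike.coe_subset_coe.2 elY_le_elV))).trans
          (S.inf_centralizer_elY_le h hM)).trans S.IM
      refine le_trans (le_oc inf_le_right ((isPGroup_oc r M).to_le inf_le_left)
        (le_normalizer_inf (hDVM.trans (le_normalizer_oc r M)) le_normalizer)) ?_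
      exact le_oc ((oc_le r _).trans inf_le_left) (isPGroup_oc r _)
        (le_normalizer_oc_of_le r (le_normalizer_inf le_normalizer
          (S.L_le_normalizer_CV hK h hM)))
  exact S.nle (hM.le_of_walk h S.mem fun k g hg => toX k (key k k le_rfl) g hg)

end Above

namespace Single

variable (hK : ∀ (H : Type u) [Group H] [Finite H], RankBound H)
variable (h : MinCex p A θ) (hM : Single p A θ r M)
include hK h hM

/-- A maximal member with one core, at `r`, containing `F` is `M`. -/
theorem eq_of_F_le {N : Subgroup G} (hN : Single p A θ r N) (hFN : elF r M ≤ N) : N = M := by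
  by_contra hne
  have hAI : A ≤ normalizer ((M ⊓ N : Subgroup G) : Set G) :=
    le_normalizer_inf (hM.A_le h) (hN.A_le h)
  have hlt : M ⊓ N < N := inf_lt_right.2 fun hle => hne (hN.cc.2.2 M hM.cc.1 hle).symm
  obtain ⟨L, hLN, ⟨hIL, hAL⟩, hmin⟩ := exists_minimal_le_of_wellFoundedLT
    (fun S : Subgroup G => M ⊓ N < S ∧ A ≤ normalizer (S : Set G)) N ⟨hlt, hN.A_le h⟩
  have hLm : Mem p A θ L := h.mem_of_le hN.cc.1 hLN hAL
  have hCI : C ≤ M ⊓ N := le_inf hM.cc.2.1 hN.cc.2.1
  have hFI : elF r M ≤ M ⊓ N := le_inf (elF_le r M) hFN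
  have hnle : ¬ L ≤ M := fun hle => hIL.not_ge (le_inf hle hLN)
  have hcore : oc r L ≤ M := hM.oc_le_of_F_le hK h hLm (hCI.trans hIL.le) (hFI.trans hIL.le)
  have hNcore : oc r N ≤ oc r L := by
    refine le_oc ((le_inf (hM.oc_le_of_F_le hK h hN.cc.1 hN.cc.2.1 hFN) (oc_le r N)).trans hIL.le)
      (isPGroup_oc r N) (hLN.trans (le_normalizer_oc r N))
  have hself : L ⊓ centralizer (oc r L : Set G) ≤ oc r L :=
    (inf_le_inf hLN (centralizer_le (SetLike.coe_subset_coe.2 hNcore))).trans
      ((hN.inf_centralizer_oc_le h).trans hNcore)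
  refine Above.false_of_above (L := L) (I := M ⊓ N) hK h hM ⟨hLm, inf_le_left, hIL.le, hAI, hCI,
    hFI, fun S hS hSL hAS => ?_, hnle, hcore, hself, fun hX => hnle ?_⟩
  · by_cases hS' : S = M ⊓ N
    · exact Or.inl hS'
    · exact Or.inr (le_antisymm hSL (hmin ⟨lt_of_le_of_ne hS (Ne.symm hS'), hAS⟩ hSL))
  · exact hM.le_of_normalizes hK h hLm (isPGroup_oc r L) hcore hX
      (le_normalizer_oc_of_le r hAL) ((hCI.trans hIL.le).trans (le_normalizer_oc r L))
      ((hFI.trans hIL.le).trans (le_normalizer_oc r L)) (le_normalizer_oc r L)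

end Single

/-! ### The common member `N` of a prime -/

/-- A maximal member containing every member normalizing `Ω₁(Z(P_r))`. -/
def IsNr (p : ℕ) (A : Subgroup G) (θ : G → Subgroup G) (r : ℕ) (N : Subgroup G) : Prop :=
  IsCC p A θ N ∧ ∀ X, Mem p A θ X → X ≤ normalizer (elZ r (Pc p A θ r) : Set G) → X ≤ N

section Nr

variable (h : MinCex p A θ)
include h

theorem MinCex.elZ_Pc_mem (r : ℕ) [Fact r.Prime] : Mem p A θ (elZ r (Pc p A θ r)) :=
  h.mem_of_le (h.Pc_mem r) (elZ_le r _) (le_normalizer_elZ r (h.A_le_normalizer (h.Pc_mem r)))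

theorem MinCex.exists_Nr (r : ℕ) [Fact r.Prime] (hP : Pc p A θ r ≠ ⊥) : ∃ N, IsNr p A θ r N :=
  h.exists_cc_normalizer (h.elZ_Pc_mem r) (elZ_ne_bot (h.isPGroup_Pc r) hP)
    (le_normalizer_elZ r (h.C_le_normalizer_Pc r))

theorem IsNr.Pc_le {N : Subgroup G} (hN : IsNr p A θ r N) : Pc p A θ r ≤ N :=
  hN.2 _ (h.Pc_mem r) (le_normalizer_elZ r le_normalizer)

end Nr

namespace Single

variable (hK : ∀ (H : Type u) [Group H] [Finite H], RankBound H)
variable (h : MinCex p A θ) (hM : Single p A θ r M)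
include h hM

theorem oc_le_Pc' : oc r M ≤ Pc p A θ r := h.oc_le_Pc hM.cc r

theorem Pc_ne_bot : Pc p A θ r ≠ ⊥ := fun e =>
  hM.oc_ne_bot h (le_bot_iff.1 ((h.oc_le_Pc hM.cc r).trans e.le))

/-- `F` centralizes `Ω₁(Z(P_r))`. -/
theorem elF_le_centralizer_elZ :
    elF r M ≤ centralizer (elZ r (Pc p A θ r) : Set G) := by
  have hXP := h.oc_le_Pc hM.cc r
  have hEX : elZ r (Pc p A θ r) ≤ centralizer (oc r M : Set G) :=
    (elZ_le_centralizer r _).trans (centralizer_le (SetLike.coe_subset_coe.2 hXP))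
  have hEM : elZ r (Pc p A θ r) ≤ M :=
    h.le_cc_oc hM.cc (hM.oc_ne_bot h) (h.elZ_Pc_mem r)
      (hEX.trans (centralizer_le_normalizer (oc r M : Set G)))
  have hE : elZ r (Pc p A θ r) ≤ elZ r (oc r M) := fun x hx =>
    ⟨⟨hM.inf_centralizer_oc_le h ⟨hEM hx, hEX hx⟩, hEX hx⟩, hx.2⟩
  exact (elF_le_centralizer _ le_rfl (le_normalizer_elZ r (le_normalizer_oc r M))).trans
    (centralizer_le (SetLike.coe_subset_coe.2 hE))

variable {N : Subgroup G} (hN : IsNr p A θ r N)
include hN

theorem elF_le_Nr : elF r M ≤ N :=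
  hN.2 _ (h.mem_of_le hM.cc.1 (elF_le r M) (le_normalizer_elF r (hM.A_le h)))
    ((hM.elF_le_centralizer_elZ h).trans (centralizer_le_normalizer (elZ r (Pc p A θ r) : Set G)))

theorem oc_le_Nr : oc r M ≤ N := (h.oc_le_Pc hM.cc r).trans (hN.Pc_le h)

include hK in
/-- The `r`-core of `N` lies in every maximal member with single core at `r`. -/
theorem oc_Nr_le : oc r N ≤ M :=
  hM.oc_le_of_F_le hK h hN.1.1 hN.1.2.1 (hM.elF_le_Nr h hN)

include hK in
/-- If `N` has a single core at `r`, it is the only such maximal member. -/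
theorem eq_Nr (hN' : ∀ t : ℕ, t.Prime → t ≠ r → oc t N = ⊥) : M = N :=
  (hM.eq_of_F_le hK h ⟨hN.1, hN'⟩ (hM.elF_le_Nr h hN)).symm

/-- The other cores of `N` meet `M` trivially. -/
theorem inf_oc_Nr_eq_bot {t : ℕ} (ht : t.Prime) (htr : t ≠ r) : oc t N ⊓ M = ⊥ := by
  haveI := Fact.mk ht
  have hXN := hM.oc_le_Nr h hN
  have hD : IsPGroup t ↥(oc t N ⊓ M) := (isPGroup_oc t N).to_le inf_le_left
  have hc : oc t N ⊓ M ≤ centralizer (oc r M : Set G) :=
    commute_of_coprime (inf_le_right.trans (le_normalizer_oc r M))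
      (le_normalizer_inf (hXN.trans (le_normalizer_oc t N)) ((oc_le r M).trans le_normalizer))
      (coprime_of_pgroup_ne htr hD (isPGroup_oc r M))
  exact eq_bot_of_pgroup_ne htr hD ((isPGroup_oc r M).to_le
    ((le_inf inf_le_right hc).trans (hM.inf_centralizer_oc_le h)))

/-- If `t` is another core prime of `N`, then `P_t` is not in `M`. -/
theorem not_Pc_le {t : ℕ} (ht : t.Prime) (htr : t ≠ r) (hne : oc t N ≠ ⊥) :
    ¬ Pc p A θ t ≤ M := fun hle => hne (by
  rw [← inf_eq_left.2 ((h.oc_le_Pc hN.1 t).trans hle)]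
  exact hM.inf_oc_Nr_eq_bot h hN ht htr)

end Single

end CfsgLib.SFT
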