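import Cfsg.Agent.SFT.Tools
import Cfsg.Agent.Signalizer.Basic
import Cfsg.Agent.FGSA.InvariantHall
import Cfsg.Agent.S1285

/-!
The setting of a minimal counterexample to the solvable signalizer functor theorem: members,
completions in normalizers, invariant cores of a set of primes, and maximal members.
-/

set_option autoImplicit false
set_option linter.unusedSectionVars false
set_option linter.style.haveILetI false
set_option linter.deprecated false

namespace CfsgLib.SFT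

open Subgroup Pointwise CfsgLib.SZ

variable {G : Type*} [Group G] [Finite G]

/-- A member of the family of the functor. -/
abbrev Mem (p : ℕ) (A : Subgroup G) (θ : G → Subgroup G) (X : Subgroup G) : Prop :=
  X ∈ Cfsg.signalizerFamily p A θ

/-- Some member contains all values of the functor. -/
def Complete (p : ℕ) (A : Subgroup G) (θ : G → Subgroup G) : Prop :=
  ∃ X : Subgroup G, Mem p A θ X ∧ ∀ a ∈ A, a ≠ 1 → θ a ≤ X

/-- A minimal counterexample: every proper subfunctor is complete, and no nontrivial member is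
normalized by all values of the functor. -/
structure MinCex (p : ℕ) (A : Subgroup G) (θ : G → Subgroup G) : Prop where
  prime : p.Prime
  elem : Cfsg.IsElementaryAbelian p A
  card : Nat.card A = p ^ 3
  solv : Cfsg.IsSolvableSignalizerFunctor p A θ
  notComplete : ¬ Complete p A θ
  sub : ∀ θ' : G → Subgroup G, Cfsg.IsSolvableSignalizerFunctor p A θ' →
    (∀ a ∈ A, a ≠ 1 → θ' a ≤ θ a) → (∃ a ∈ A, a ≠ 1 ∧ ¬ θ a ≤ θ' a) → Complete p A θ'
  loc : ∀ X : Subgroup G, Mem p A θ X → X ≠ ⊥ →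
    ∃ a ∈ A, a ≠ 1 ∧ ¬ θ a ≤ normalizer (X : Set G)

/-- A maximal member containing `C`. -/
def IsCC (p : ℕ) (A : Subgroup G) (θ : G → Subgroup G) (M : Subgroup G) : Prop :=
  Mem p A θ M ∧ Cfsg.signalizerInf A θ ≤ M ∧
    ∀ X : Subgroup G, Mem p A θ X → M ≤ X → X = M

/-- The largest invariant `s`-member normalized by `C`. -/
def Pc (p : ℕ) (A : Subgroup G) (θ : G → Subgroup G) (s : ℕ) : Subgroup G :=
  sSup {X : Subgroup G | Mem p A θ X ∧ IsPGroup s X ∧
    Cfsg.signalizerInf A θ ≤ normalizer (X : Set G)}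

theorem eq_bot_of_forall_fixed {p : ℕ} [Fact p.Prime] {A X : Subgroup G}
    (hA : Cfsg.IsElementaryAbelian p A) (hA2 : p ^ 2 ≤ Nat.card A) (hX : ¬ p ∣ Nat.card X)
    (hAX : A ≤ normalizer (X : Set G)) {σ : Set ℕ}
    (h : ∀ a ∈ A, a ≠ 1 → IsPiG σ (X ⊓ centralizer {a})) : IsPiG σ X := by
  intro s hs hd
  haveI := Fact.mk hs
  by_contra hsσ
  haveI := CfsgLib.Signalizer.isSolvable hA
  obtain ⟨S, hS⟩ := CfsgLib.CoprimeAct.exists_invariant_sylow (K := X) hAX
    (CfsgLib.Signalizer.coprime_card hA hX) (Or.inl inferInstance) s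
  have hSX : (S : Subgroup X).map X.subtype ≤ X := map_subtype_le _
  have hbot : (S : Subgroup X).map X.subtype ≤ ⊥ := by
    refine CfsgLib.Signalizer.le_of_forall_centralizer hA le_rfl hA2 hS
      (fun hp => hX (hp.trans (card_dvd_of_le hSX))) fun a ha ha1 => ?_
    set U := (S : Subgroup X).map X.subtype ⊓ centralizer {a} with hU
    have hU1 : IsPGroup s U := (S.2.map _).to_le inf_le_left
    obtain ⟨k, hk⟩ := IsPGroup.iff_card.1 hU1
    rcases Nat.eq_zero_or_pos k with rfl | hk0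
    · exact (eq_bot_of_card_eq _ (by rw [hk, pow_zero])).le
    · refine absurd (h a ha ha1 s hs ?_) hsσ
      exact (hk ▸ dvd_pow_self s hk0.ne' : s ∣ Nat.card U).trans
        (card_dvd_of_le (inf_le_inf_right _ hSX))
  have h1 : s ^ (Nat.card X).factorization s = 1 := by
    rw [← S.card_eq_multiplicity, ← card_map_of_injective X.subtype_injective, le_bot_iff.1 hbot,
      card_bot]
  have h2 : 0 < (Nat.card X).factorization s :=
    hs.factorization_pos_of_dvd Nat.card_pos.ne' hd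
  exact (one_lt_pow₀ hs.one_lt h2.ne').ne' h1

namespace MinCex

variable {p : ℕ} [Fact p.Prime] {A : Subgroup G} {θ : G → Subgroup G}

local notation "C" => Cfsg.signalizerInf A θ

section

variable (h : MinCex p A θ)
include h

theorem card_three : p ^ 3 ≤ Nat.card A := h.card.ge

theorem card_two : p ^ 2 ≤ Nat.card A :=
  (Nat.pow_le_pow_right h.prime.pos (by norm_num)).trans h.card_three

theorem A_ne_bot : A ≠ ⊥ := by
  intro e
  have := h.card
  rw [e, Subgroup.card_bot] at this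
  exact (one_lt_pow₀ h.prime.one_lt (by norm_num)).ne this

theorem exists_ne_one : ∃ a ∈ A, a ≠ 1 := by
  obtain ⟨⟨a, ha⟩, hne⟩ := ne_bot_iff_exists_ne_one.1 h.A_ne_bot
  exact ⟨a, ha, fun e => hne (Subtype.ext e)⟩

theorem theta_mem {a : G} (ha : a ∈ A) (ha1 : a ≠ 1) : Mem p A θ (θ a) :=
  CfsgLib.Signalizer.theta_mem h.solv ha ha1

theorem C_mem : Mem p A θ C :=
  CfsgLib.Signalizer.signalizerInf_mem h.solv le_rfl h.A_ne_bot

theorem C_le_theta {a : G} (ha : a ∈ A) (ha1 : a ≠ 1) : C ≤ θ a :=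
  CfsgLib.Signalizer.signalizerInf_le ha ha1

theorem C_le_centralizer : C ≤ centralizer (A : Set G) :=
  CfsgLib.Signalizer.signalizerInf_le_centralizer h.solv le_rfl

theorem C_le_centralizer_singleton {a : G} (ha : a ∈ A) : C ≤ centralizer {a} :=
  h.C_le_centralizer.trans (centralizer_le (by simpa using ha))

theorem inf_centralizer_le_C {X : Subgroup G} (hX : Mem p A θ X) :
    X ⊓ centralizer (A : Set G) ≤ C :=
  CfsgLib.Signalizer.inf_centralizer_le_signalizerInf hX le_rfl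

theorem A_le_normalizer {X : Subgroup G} (hX : Mem p A θ X) : A ≤ normalizer (X : Set G) :=
  CfsgLib.Signalizer.family_le_normalizer hX

theorem mem_of_le {X Y : Subgroup G} (hX : Mem p A θ X) (hYX : Y ≤ X)
    (hY : A ≤ normalizer (Y : Set G)) : Mem p A θ Y :=
  CfsgLib.Signalizer.family_of_le hX hYX hY

theorem sup_mem {X Y : Subgroup G} (hX : Mem p A θ X) (hY : Mem p A θ Y)
    (hn : Y ≤ normalizer (X : Set G)) : Mem p A θ (X ⊔ Y) :=
  CfsgLib.Signalizer.sup_mem_family h.elem hX hY hn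

theorem coprime_A {X : Subgroup G} (hX : Mem p A θ X) : (Nat.card A).Coprime (Nat.card X) :=
  CfsgLib.Signalizer.coprime_card h.elem hX.2.1

theorem zpowers_le_centralizer_A {a : G} (ha : a ∈ A) : A ≤ centralizer {a} :=
  CfsgLib.Signalizer.le_centralizer_singleton h.elem ha

theorem le_normalizer_inf_centralizer {X : Subgroup G} {a : G} (hX : A ≤ normalizer (X : Set G))
    (ha : a ∈ A) : A ≤ normalizer ((X ⊓ centralizer {a} : Subgroup G) : Set G) :=
  CfsgLib.Signalizer.le_normalizer_inf_centralizer_singleton h.elem hX ha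

/-- Generation of a member over a noncyclic subgroup of `A`. -/
theorem le_of_forall {E X Y : Subgroup G} (hE : E ≤ A) (hE2 : p ^ 2 ≤ Nat.card E)
    (hX : Mem p A θ X) (hY : ∀ a ∈ E, a ≠ 1 → X ⊓ centralizer {a} ≤ Y) : X ≤ Y :=
  CfsgLib.Signalizer.le_of_forall_centralizer h.elem hE hE2 (hE.trans (h.A_le_normalizer hX))
    hX.2.1 hY

theorem le_of_forall_A {X Y : Subgroup G} (hX : Mem p A θ X)
    (hY : ∀ a ∈ A, a ≠ 1 → X ⊓ centralizer {a} ≤ Y) : X ≤ Y :=
  h.le_of_forall le_rfl h.card_two hX hY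

theorem exists_cc_ge {X : Subgroup G} (hX : Mem p A θ X) (hC : C ≤ normalizer (X : Set G)) :
    ∃ M, IsCC p A θ M ∧ X ≤ M := by
  have hXC : Mem p A θ (X ⊔ C) := h.sup_mem hX h.C_mem hC
  obtain ⟨M, hle, hM, hmax⟩ := exists_maximal_ge_of_wellFoundedGT
    (fun Y : Subgroup G => Mem p A θ Y) (X ⊔ C) hXC
  exact ⟨M, ⟨hM, le_sup_right.trans hle, fun Y hY hMY => le_antisymm (hmax hY hMY) hMY⟩,
    le_sup_left.trans hle⟩

theorem exists_cc : ∃ M, IsCC p A θ M :=
  (h.exists_cc_ge h.C_mem le_normalizer).imp fun _ hM => hM.1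

/-- The completion of the functor in the normalizer of a member. -/
theorem exists_W {X : Subgroup G} (hX : Mem p A θ X) (hX1 : X ≠ ⊥) :
    ∃ W, Mem p A θ W ∧ W ≤ normalizer (X : Set G) ∧
      ∀ Y, Mem p A θ Y → Y ≤ normalizer (X : Set G) → Y ≤ W := by
  obtain ⟨a₀, ha₀, ha₀1, hne⟩ := h.loc X hX hX1
  set θ' : G → Subgroup G := fun a => θ a ⊓ normalizer (X : Set G) with hθ'
  have hsol : Cfsg.IsSolvableSignalizerFunctor p A θ' := by
    refine ⟨⟨fun a ha ha1 => inf_le_left.trans (h.solv.1.1 a ha ha1), fun a ha ha1 hd =>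
      h.solv.1.2.1 a ha ha1 (hd.trans (card_dvd_of_le inf_le_left)), fun a ha ha1 b hb x hx => ?_,
      fun a ha ha1 b hb hb1 x hx => ?_⟩, fun a ha ha1 =>
      isSolvable_of_le inf_le_left (h.solv.2 a ha ha1)⟩
    · exact ⟨h.solv.1.2.2.1 a ha ha1 b hb x hx.1,
        (normalizer (X : Set G)).mul_mem ((normalizer (X : Set G)).mul_mem (h.A_le_normalizer hX hb)
          hx.2) ((normalizer (X : Set G)).inv_mem (h.A_le_normalizer hX hb))⟩
    · exact ⟨h.solv.1.2.2.2 a ha ha1 b hb hb1 ⟨hx.1.1, hx.2⟩, hx.1.2⟩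
  obtain ⟨W, hW, hθW⟩ := h.sub θ' hsol (fun a _ _ => inf_le_left)
    ⟨a₀, ha₀, ha₀1, fun hle => hne (hle.trans inf_le_right)⟩
  have hWm : Mem p A θ W :=
    ⟨hW.1, hW.2.1, hW.2.2.1, fun a ha ha1 => (hW.2.2.2 a ha ha1).trans inf_le_left⟩
  refine ⟨W, hWm, ?_, fun Y hY hYn => h.le_of_forall_A hY fun a ha ha1 => ?_⟩
  · exact h.le_of_forall_A hWm fun a ha ha1 => (hW.2.2.2 a ha ha1).trans inf_le_right
  · exact (le_inf (hY.2.2.2 a ha ha1) (inf_le_left.trans hYn)).trans (hθW a ha ha1)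

/-- A maximal member containing every member that normalizes `X`. -/
theorem exists_cc_normalizer {X : Subgroup G} (hX : Mem p A θ X) (hX1 : X ≠ ⊥)
    (hC : C ≤ normalizer (X : Set G)) :
    ∃ M, IsCC p A θ M ∧ ∀ Y, Mem p A θ Y → Y ≤ normalizer (X : Set G) → Y ≤ M := by
  obtain ⟨W, hW, -, hmax⟩ := h.exists_W hX hX1
  have hCW : C ≤ W := hmax _ h.C_mem hC
  obtain ⟨M, hM, hWM⟩ := h.exists_cc_ge hW (hCW.trans le_normalizer)
  exact ⟨M, hM, fun Y hY hYn => (hmax Y hY hYn).trans hWM⟩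

end

section CC

variable (h : MinCex p A θ) {M : Subgroup G} (hM : IsCC p A θ M)
include h hM

/-- A member normalizing a nontrivial invariant normal subgroup of a maximal member lies in it. -/
theorem le_cc {X Y : Subgroup G} (hXM : X ≤ M) (hX1 : X ≠ ⊥) (hAX : A ≤ normalizer (X : Set G))
    (hMX : M ≤ normalizer (X : Set G)) (hY : Mem p A θ Y) (hYn : Y ≤ normalizer (X : Set G)) :
    Y ≤ M := by
  obtain ⟨W, hW, -, hmax⟩ := h.exists_W (h.mem_of_le hM.1 hXM hAX) hX1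
  have := hM.2.2 W hW (hmax M hM.1 hMX)
  exact this ▸ hmax Y hY hYn

theorem cc_ne_bot : M ≠ ⊥ := by
  intro e
  refine h.notComplete ⟨⊥, CfsgLib.Signalizer.bot_mem_family, fun a ha ha1 => ?_⟩
  have := hM.2.2 (θ a) (h.theta_mem ha ha1) (e ▸ bot_le)
  exact (this.trans e).le

theorem exists_oc_ne_bot : ∃ t : ℕ, t.Prime ∧ oc t M ≠ ⊥ :=
  CfsgLib.SFT.exists_oc_ne_bot hM.1.1 (h.cc_ne_bot hM)

theorem C_le : C ≤ M := hM.2.1

theorem oc_mem (s : ℕ) : Mem p A θ (oc s M) :=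
  h.mem_of_le hM.1 (oc_le s M) (le_normalizer_oc_of_le s (h.A_le_normalizer hM.1))

theorem oc_le_Pc (s : ℕ) : oc s M ≤ Pc p A θ s :=
  le_sSup (a := oc s M) ⟨h.oc_mem hM s, isPGroup_oc s M,
    hM.2.1.trans (le_normalizer_oc s M)⟩

theorem le_cc_oc {s : ℕ} (hs : oc s M ≠ ⊥) {Y : Subgroup G} (hY : Mem p A θ Y)
    (hYn : Y ≤ normalizer (oc s M : Set G)) : Y ≤ M :=
  h.le_cc hM (oc_le s M) hs (le_normalizer_oc_of_le s (h.A_le_normalizer hM.1))
    (le_normalizer_oc s M) hY hYn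

end CC

section Cores

variable (h : MinCex p A θ)
include h

/-- The invariant core of a proper set of primes. -/
theorem exists_hallCore (σ : Set ℕ) (hσ : ∃ a ∈ A, a ≠ 1 ∧ ¬ IsPiG σ (θ a)) :
    ∃ H, Mem p A θ H ∧ IsPiG σ H ∧ C ≤ normalizer (H : Set G) ∧
      ∀ X, Mem p A θ X → IsPiG σ X → C ≤ normalizer (X : Set G) → X ≤ H := by
  set Sσ : G → Set (Subgroup G) := fun a => {U | U ≤ θ a ∧ IsPiG σ U ∧
    A ≤ normalizer (U : Set G) ∧ C ≤ normalizer (U : Set G)} with hSσ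
  set θ' : G → Subgroup G := fun a => sSup (Sσ a) with hθ'
  have hle : ∀ a, θ' a ≤ θ a := fun a => sSup_le fun U hU => hU.1
  have hn : ∀ a, A ⊔ C ≤ normalizer (θ' a : Set G) := fun a => by
    simp only [hθ', sSup_eq_iSup']
    exact le_normalizer_iSup fun U => sup_le U.2.2.2.1 U.2.2.2.2
  have hpi : ∀ a ∈ A, a ≠ 1 → IsPiG σ (θ' a) := by
    intro a ha ha1
    have hm := h.theta_mem ha ha1
    obtain ⟨H₀, hH₀, hH₀A⟩ := CfsgLib.InvariantHall.exists_invariant (π := σ)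
      (h.A_le_normalizer hm) (h.coprime_A hm) hm.1
    have hle0 : θ' a ≤ H₀ := sSup_le fun U hU => by
      obtain ⟨H, hH, hHA, hUH⟩ := CfsgLib.InvariantHall.exists_invariant_ge (π := σ) _ G A (θ a) U
        rfl (h.A_le_normalizer hm) (h.coprime_A hm) hm.1 hU.1 hU.2.2.1 hU.2.1
      obtain ⟨c, hc, rfl⟩ := CfsgLib.InvariantHall.invariant_conj (h.A_le_normalizer hm)
        (h.coprime_A hm) hm.1 hH hHA hH₀ hH₀A
      have hcU : MulAut.conj c • U = U :=
        conj_smul_eq_iff_mem_normalizer.2 (hU.2.2.2 (h.inf_centralizer_le_C hm hc))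
      rw [← hcU]
      exact pointwise_smul_le_pointwise_smul_iff.2 hUH
    exact fun q hq hd => hH₀.2.1 q hq (hd.trans (card_dvd_of_le hle0))
  have hsol : Cfsg.IsSolvableSignalizerFunctor p A θ' := by
    refine ⟨⟨fun a ha ha1 => (hle a).trans (h.solv.1.1 a ha ha1), fun a ha ha1 hd =>
      h.solv.1.2.1 a ha ha1 (hd.trans (card_dvd_of_le (hle a))), fun a _ _ b hb x hx =>
      conj_mem (hn a) (mem_sup_left hb) hx, fun a ha ha1 b hb hb1 => ?_⟩, fun a ha ha1 =>
      isSolvable_of_le (hle a) (h.solv.2 a ha ha1)⟩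
    refine le_sSup (a := θ' a ⊓ centralizer {b}) ⟨?_, ?_, ?_, ?_⟩
    · exact (inf_le_inf_right _ (hle a)).trans (h.solv.1.2.2.2 a ha ha1 b hb hb1)
    · exact fun q hq hd => hpi a ha ha1 q hq (hd.trans (card_dvd_of_le inf_le_left))
    · exact h.le_normalizer_inf_centralizer (le_sup_left.trans (hn a)) hb
    · exact CfsgLib.SFT.le_normalizer_inf (le_sup_right.trans (hn a))
        ((h.C_le_centralizer_singleton hb).trans le_normalizer)
  obtain ⟨a₀, ha₀, ha₀1, hne⟩ := hσ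
  obtain ⟨H, hH, hθH⟩ := h.sub θ' hsol (fun a _ _ => hle a)
    ⟨a₀, ha₀, ha₀1, fun hle' => hne fun q hq hd =>
      hpi a₀ ha₀ ha₀1 q hq (hd.trans (card_dvd_of_le hle'))⟩
  have hHm : Mem p A θ H :=
    ⟨hH.1, hH.2.1, hH.2.2.1, fun a ha ha1 => (hH.2.2.2 a ha ha1).trans (hle a)⟩
  refine ⟨H, hHm, eq_bot_of_forall_fixed h.elem h.card_two hH.2.1 (h.A_le_normalizer hHm)
    fun a ha ha1 q hq hd => hpi a ha ha1 q hq (hd.trans (card_dvd_of_le (hH.2.2.2 a ha ha1))),
    ?_, fun X hX hXσ hXC => h.le_of_forall_A hX fun a ha ha1 => ?_⟩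
  · intro c hc
    refine mem_normalizer_of_conj fun x hx => ?_
    have hle' : H ≤ H.comap (MulAut.conj c).toMonoidHom := h.le_of_forall_A hHm fun a ha ha1 x hx => by
      have h1 : c * x * c⁻¹ ∈ θ' a :=
        conj_mem (hn a) (mem_sup_right hc) (hH.2.2.2 a ha ha1 hx)
      exact hθH a ha ha1 h1
    exact hle' hx
  · refine le_trans ?_ (hθH a ha ha1)
    refine le_sSup (a := X ⊓ centralizer {a}) ⟨hX.2.2.2 a ha ha1, ?_, ?_, ?_⟩
    · exact fun q hq hd => hXσ q hq (hd.trans (card_dvd_of_le inf_le_left))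
    · exact h.le_normalizer_inf_centralizer (h.A_le_normalizer hX) ha
    · exact CfsgLib.SFT.le_normalizer_inf hXC ((h.C_le_centralizer_singleton ha).trans le_normalizer)

/-- No prime is the only one dividing the values of the functor. -/
theorem exists_not_pgroup (q : ℕ) [Fact q.Prime] :
    ∃ a ∈ A, a ≠ 1 ∧ ¬ IsPiG {q} (θ a) := by
  by_contra hc
  push Not at hc
  have hq : ∀ a ∈ A, a ≠ 1 → IsPGroup q (θ a) := fun a ha ha1 =>
    IsPGroup.iff_card.2 ⟨_, Nat.eq_prime_pow_of_unique_prime_dvd Nat.card_pos.ne'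
      fun {d} hd hdvd => hc a ha ha1 d hd hdvd⟩
  obtain ⟨hθ, X, hX1, hX2, hX3⟩ :=
    Cfsg.Agent.S1285.result p A h.elem h.card_three θ h.solv q hq
  have hAX : A ≤ normalizer (X : Set G) := CfsgLib.Signalizer.le_normalizer_of_conj_mem hX1
  have hXq : IsPiG {q} X := eq_bot_of_forall_fixed h.elem h.card_two hX2 hAX fun a ha ha1 =>
    (hX3 a ha ha1).symm ▸ hc a ha ha1
  have hXp : IsPGroup q X := IsPGroup.iff_card.2 ⟨_, Nat.eq_prime_pow_of_unique_prime_dvd
    Nat.card_pos.ne' fun {d} hd hdvd => hXq d hd hdvd⟩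
  haveI := hXp.isNilpotent
  exact h.notComplete ⟨X, ⟨inferInstance, hX2, hX1, fun a ha ha1 => (hX3 a ha ha1).le⟩,
    fun a ha ha1 => (hX3 a ha ha1).ge.trans inf_le_left⟩

theorem Pc_spec (s : ℕ) [Fact s.Prime] : Mem p A θ (Pc p A θ s) ∧ IsPGroup s (Pc p A θ s) ∧
    C ≤ normalizer (Pc p A θ s : Set G) := by
  obtain ⟨H, hH, hHs, hHC, hmax⟩ := h.exists_hallCore {s} (h.exists_not_pgroup s)
  have hHp : IsPGroup s H := IsPGroup.iff_card.2 ⟨_, Nat.eq_prime_pow_of_unique_prime_dvd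
    Nat.card_pos.ne' fun {d} hd hdvd => hHs d hd hdvd⟩
  have : Pc p A θ s = H := by
    refine le_antisymm (sSup_le fun X hX => hmax X hX.1 ?_ hX.2.2) (le_sSup ⟨hH, hHp, hHC⟩)
    intro q hq hd
    obtain ⟨k, hk⟩ := IsPGroup.iff_card.1 hX.2.1
    exact (Nat.prime_dvd_prime_iff_eq hq Fact.out).1 (hq.dvd_of_dvd_pow (hk ▸ hd))
  exact this ▸ ⟨hH, hHp, hHC⟩

theorem Pc_mem (s : ℕ) [Fact s.Prime] : Mem p A θ (Pc p A θ s) := (h.Pc_spec s).1

theorem isPGroup_Pc (s : ℕ) [Fact s.Prime] : IsPGroup s (Pc p A θ s) := (h.Pc_spec s).2.1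

theorem C_le_normalizer_Pc (s : ℕ) [Fact s.Prime] : C ≤ normalizer (Pc p A θ s : Set G) :=
  (h.Pc_spec s).2.2

theorem le_Pc {s : ℕ} {X : Subgroup G} (hX : Mem p A θ X) (hXs : IsPGroup s X)
    (hXC : C ≤ normalizer (X : Set G)) : X ≤ Pc p A θ s := le_sSup ⟨hX, hXs, hXC⟩

/-- For a prime `v` dividing some value there is a maximal member containing every core of a
prime other than `v`. -/
theorem exists_cc_cores (v : ℕ) (hv : v.Prime) (hd : ∃ a ∈ A, a ≠ 1 ∧ v ∣ Nat.card (θ a)) :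
    ∃ L H, IsCC p A θ L ∧ H ≤ L ∧ (∀ s : ℕ, s.Prime → s ≠ v → Pc p A θ s ≤ L) ∧
      ∀ X, Mem p A θ X → IsPiG {v}ᶜ X → C ≤ normalizer (X : Set G) → X ≤ H := by
  obtain ⟨a, ha, ha1, hav⟩ := hd
  obtain ⟨H, hH, -, hHC, hmax⟩ := h.exists_hallCore {v}ᶜ ⟨a, ha, ha1, fun hc => hc v hv hav rfl⟩
  obtain ⟨L, hL, hHL⟩ := h.exists_cc_ge hH hHC
  refine ⟨L, H, hL, hHL, fun s hs hsv => (hmax _ ?_ ?_ ?_).trans hHL, hmax⟩
  all_goals haveI := Fact.mk hs
  · exact h.Pc_mem s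
  · intro q hq hqd
    obtain ⟨k, hk⟩ := IsPGroup.iff_card.1 (h.isPGroup_Pc s)
    rw [(Nat.prime_dvd_prime_iff_eq hq hs).1 (hq.dvd_of_dvd_pow (hk ▸ hqd))]
    exact hsv
  · exact h.C_le_normalizer_Pc s

theorem exists_dvd_of_Pc_ne_bot {s : ℕ} [Fact s.Prime] (hs : Pc p A θ s ≠ ⊥) :
    ∃ a ∈ A, a ≠ 1 ∧ s ∣ Nat.card (θ a) := by
  by_contra hc
  push Not at hc
  refine hs (eq_bot_iff.2 (h.le_of_forall_A (h.Pc_mem s) fun a ha ha1 => ?_))
  have hU : IsPGroup s (Pc p A θ s ⊓ centralizer {a} : Subgroup G) :=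
    (h.isPGroup_Pc s).to_le inf_le_left
  refine (eq_bot_of_pgroup_of_coprime hU ?_).le
  exact Nat.Coprime.coprime_dvd_left (card_dvd_of_le ((h.Pc_mem s).2.2.2 a ha ha1))
    (((Fact.out : s.Prime).coprime_iff_not_dvd.2 (hc a ha ha1)).symm)

end Cores

end MinCex

end CfsgLib.SFT
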