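import Cfsg.Agent.SFT.OffenderBound

/-!
Subgroups that are `r`-groups modulo another subgroup, the largest such normal subgroup, and the
`r'`-core modulo a normal subgroup.
-/

set_option autoImplicit false
set_option linter.unusedSectionVars false
set_option linter.style.haveILetI false
set_option linter.deprecated false

namespace CfsgLib.SFT

open Subgroup Pointwise CfsgLib.SZ

universe u

variable {G : Type u} [Group G] [Finite G]

/-- Every element of `T` has an `r`-power power in `N`. -/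
def RMod (r : ℕ) (T N : Subgroup G) : Prop := ∀ x ∈ T, ∃ n : ℕ, x ^ r ^ n ∈ N

theorem RMod.of_pgroup {r : ℕ} {T : Subgroup G} (hT : IsPGroup r T) (N : Subgroup G) :
    RMod r T N := fun x hx => by
  obtain ⟨n, hn⟩ := hT ⟨x, hx⟩
  exact ⟨n, by rw [show x ^ r ^ n = 1 from congrArg Subtype.val hn]; exact one_mem N⟩

theorem RMod.mono {r : ℕ} {T T' N N' : Subgroup G} (h : RMod r T N) (hT : T' ≤ T) (hN : N ≤ N') :
    RMod r T' N' := fun x hx => (h x (hT hx)).imp fun _ hn => hN hn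

theorem RMod.trans {r : ℕ} {T N N' : Subgroup G} (h : RMod r T N) (h' : RMod r N N') :
    RMod r T N' := fun x hx => by
  obtain ⟨a, ha⟩ := h x hx
  obtain ⟨b, hb⟩ := h' _ ha
  exact ⟨a + b, by rwa [pow_add, pow_mul]⟩

theorem pow_mul_mem_of_normalizes {N : Subgroup G} {x y : G} (hx : x ∈ normalizer (N : Set G))
    (hy : y ∈ N) (m : ℕ) : ∃ z ∈ N, (x * y) ^ m = x ^ m * z := by
  induction m with
  | zero => exact ⟨1, one_mem N, by simp⟩
  | succ m ih =>
    obtain ⟨z, hz, he⟩ := ih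
    refine ⟨x⁻¹ * z * x * y, mul_mem ((mem_normalizer_iff''.1 hx z).1 hz) hy, ?_⟩
    rw [pow_succ, he, pow_succ]
    group

theorem RMod.sup {r : ℕ} {X R : Subgroup G} (hXR : X ≤ normalizer (R : Set G)) (h : RMod r X R) :
    RMod r (X ⊔ R) R := fun k hk => by
  obtain ⟨x, hx, y, hy, rfl⟩ := (CfsgLib.Solvable.mem_sup_of_le_normalizer hXR).1 hk
  obtain ⟨n, hn⟩ := h x hx
  obtain ⟨z, hz, he⟩ := pow_mul_mem_of_normalizes (hXR hx) hy (r ^ n)
  exact ⟨n, he ▸ mul_mem hn hz⟩

theorem RMod.coprime_mem {r : ℕ} {T N : Subgroup G} (h : RMod r T N) {x : G} (hx : x ∈ T)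
    {m : ℕ} (hm : x ^ m ∈ N) (hc : m.Coprime r) : x ∈ N := by
  obtain ⟨n, hn⟩ := h x hx
  have h2 : x = (x ^ m) ^ Nat.gcdA m (r ^ n) * (x ^ r ^ n) ^ Nat.gcdB m (r ^ n) := by
    rw [← zpow_natCast x m, ← zpow_natCast x (r ^ n), ← zpow_mul, ← zpow_mul, ← zpow_add]
    rw [← Nat.gcd_eq_gcd_ab, (hc.pow_right n : Nat.Coprime m (r ^ n))]
    simp
  rw [h2]
  exact mul_mem (N.zpow_mem hm _) (N.zpow_mem hn _)

/-- A group that is an `r`-group modulo the centralizer of an `r`-group fixes a nontrivial element. -/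
theorem inf_centralizer_ne_bot_of_rmod {r : ℕ} [Fact r.Prime] {U R : Subgroup G}
    (hU : IsPGroup r U) (hU1 : U ≠ ⊥) (hn : R ≤ normalizer (U : Set G))
    (hR : RMod r R (centralizer (U : Set G))) : U ⊓ centralizer (R : Set G) ≠ ⊥ := by
  let φ : normalizer (U : Set G) →* MulAut U := normalizerMonoidHom U
  set B := (R.subgroupOf (normalizer (U : Set G))).map φ
  have hB : IsPGroup r B := by
    rintro ⟨_, x, hx, rfl⟩
    obtain ⟨m, hm⟩ := hR (x : G) hx
    refine ⟨m, Subtype.ext ?_⟩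
    show φ x ^ r ^ m = 1
    rw [← map_pow]
    ext w
    show ((x ^ r ^ m : normalizer (U : Set G)) : G) * w * _ = (w : G)
    rw [InvMemClass.coe_inv, SubmonoidClass.coe_pow, ← mem_centralizer_iff.1 hm w w.2,
      mul_inv_cancel_right]
  have hd : r ∣ Nat.card U := by
    obtain ⟨k, hk⟩ := IsPGroup.iff_card.1 hU
    rcases Nat.eq_zero_or_pos k with rfl | hk0
    · exact absurd (eq_bot_of_card_eq _ (by rw [hk, pow_zero])) hU1
    · exact hk ▸ dvd_pow_self r hk0.ne'
  obtain ⟨w, hw, hw1⟩ := hB.exists_fixed_point_of_prime_dvd_card_of_fixed_point U hd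
    (a := (1 : U)) (fun b => map_one (b : MulAut U))
  intro hbot
  refine hw1 (Subtype.ext ((eq_bot_iff_forall _).1 hbot _ ⟨w.2, ?_⟩)).symm
  refine mem_centralizer_iff.2 fun x hx => ?_
  have h2 := congrArg Subtype.val (hw ⟨φ ⟨x, hn hx⟩, ⟨x, hn hx⟩, hx, rfl⟩)
  exact mul_inv_eq_iff_eq_mul.1 h2

/-- The largest normal subgroup of `L` that is an `r`-group modulo `N`. -/
def rcore (r : ℕ) (L N : Subgroup G) : Subgroup G :=
  sSup {R : Subgroup G | R ≤ L ∧ L ≤ normalizer (R : Set G) ∧ RMod r R N}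

theorem rcore_spec (r : ℕ) {L N : Subgroup G} (hLN : L ≤ normalizer (N : Set G)) :
    rcore r L N ≤ L ∧ L ≤ normalizer (rcore r L N : Set G) ∧ RMod r (rcore r L N) N := by
  have hs : SupClosed {R : Subgroup G | R ≤ L ∧ L ≤ normalizer (R : Set G) ∧ RMod r R N} := by
    rintro S ⟨hSL, hLS, hS⟩ T ⟨hTL, hLT, hT⟩
    refine ⟨sup_le hSL hTL, le_normalizer_sup hLS hLT, ?_⟩
    intro k hk
    obtain ⟨x, hx, y, hy, rfl⟩ := (CfsgLib.Solvable.mem_sup_of_le_normalizer (hSL.trans hLT)).1 hk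
    obtain ⟨n, hn⟩ := hS x hx
    obtain ⟨z, hz, he⟩ := pow_mul_mem_of_normalizes (hLT (hSL hx)) hy (r ^ n)
    obtain ⟨m, hm⟩ := hT z hz
    have hzN := hLN (hTL hz)
    have ha : z⁻¹ * x ^ r ^ n * z ∈ N := (mem_normalizer_iff''.1 hzN _).1 hn
    obtain ⟨w, hw, hw'⟩ := pow_mul_mem_of_normalizes hzN ha (r ^ m)
    refine ⟨n + m, ?_⟩
    rw [pow_add, pow_mul, he, show x ^ r ^ n * z = z * (z⁻¹ * x ^ r ^ n * z) by group, hw']
    exact mul_mem hm hw
  exact hs.sSup_mem (Set.toFinite _) ⟨bot_le, fun g _ => mem_normalizer_of_conj fun x hx => by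
    rw [mem_bot.1 hx]; simp, RMod.of_pgroup IsPGroup.of_bot N⟩ subset_rfl

theorem rcore_le (r : ℕ) (L N : Subgroup G) : rcore r L N ≤ L := sSup_le fun _ h => h.1

theorem le_normalizer_rcore (r : ℕ) (L N : Subgroup G) : L ≤ normalizer (rcore r L N : Set G) := by
  simp only [rcore, sSup_eq_iSup']
  exact le_normalizer_iSup fun R => R.2.2.1

theorem rmod_rcore (r : ℕ) {L N : Subgroup G} (hLN : L ≤ normalizer (N : Set G)) :
    RMod r (rcore r L N) N := (rcore_spec r hLN).2.2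

theorem le_rcore {r : ℕ} {L N R : Subgroup G} (hR : R ≤ L) (hn : L ≤ normalizer (R : Set G))
    (h : RMod r R N) : R ≤ rcore r L N := le_sSup ⟨hR, hn, h⟩

theorem le_normalizer_rcore_of_le {r : ℕ} {X L N : Subgroup G} (hLN : L ≤ normalizer (N : Set G))
    (hL : X ≤ normalizer (L : Set G))
    (hN : X ≤ normalizer (N : Set G)) : X ≤ normalizer (rcore r L N : Set G) := by
  intro g hg
  refine mem_normalizer_of_conj fun x hx => ?_
  have hH : L.map (MulAut.conj g).toMonoidHom = L := mem_normalizer_iff_map_conj_eq.1 (hL hg)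
  have hle : (rcore r L N).map (MulAut.conj g).toMonoidHom ≤ rcore r L N := by
    refine le_rcore ((map_mono (rcore_le r L N)).trans hH.le)
      (hH.symm.le.trans ((map_mono (le_normalizer_rcore r L N)).trans (le_normalizer_map _))) ?_
    rintro _ ⟨y, hy, rfl⟩
    obtain ⟨n, hn⟩ := rmod_rcore r hLN y hy
    refine ⟨n, ?_⟩
    rw [← map_pow]
    exact conj_mem hN hg hn
  exact hle ⟨x, hx, rfl⟩

/-- The `r'`-core of `H` modulo its normal subgroup `N`. -/
def upc (r : ℕ) (H N : Subgroup G) : Subgroup G :=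
  sSup {D : Subgroup G | N ≤ D ∧ D ≤ H ∧ H ≤ normalizer (D : Set G) ∧ (N.relIndex D).Coprime r}

theorem exists_quotient (r : ℕ) {H N : Subgroup G} (hNH : N ≤ H)
    (hn : H ≤ normalizer (N : Set G)) [(N.subgroupOf H).Normal] :
    upc r H N = ((Cfsg.pPrimeCore r (H ⧸ N.subgroupOf H)).comap
      (QuotientGroup.mk' (N.subgroupOf H))).map H.subtype ∧
    N ≤ upc r H N ∧ upc r H N ≤ H ∧ H ≤ normalizer (upc r H N : Set G) ∧
      (N.relIndex (upc r H N)).Coprime r := by
  set mk := QuotientGroup.mk' (N.subgroupOf H)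
  set U₀ := (Cfsg.pPrimeCore r (H ⧸ N.subgroupOf H)).comap mk
  set U := U₀.map H.subtype
  have hmem : N ≤ U ∧ U ≤ H ∧ H ≤ normalizer (U : Set G) ∧ (N.relIndex U).Coprime r := by
    refine ⟨fun x hx => ⟨⟨x, hNH hx⟩, mem_comap.2 ?_, rfl⟩, map_subtype_le _,
      CfsgLib.Comp.normal_map_subtype_iff.1 (Subgroup.Normal.comap
        (CfsgLib.Solvable.pPrimeCore_normal r) mk), ?_⟩
    · rw [show mk ⟨x, hNH hx⟩ = 1 from (QuotientGroup.eq_one_iff _).2 hx]
      exact one_mem _
    · have h1 : N = (N.subgroupOf H).map H.subtype := (map_subgroupOf_eq_of_le hNH).symm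
      rw [h1, relIndex_map_map_of_injective _ _ H.subtype_injective]
      have h2 : (N.subgroupOf H) = (⊥ : Subgroup (H ⧸ N.subgroupOf H)).comap mk := by
        rw [MonoidHom.comap_bot, QuotientGroup.ker_mk']
      rw [h2, relIndex_comap, map_comap_eq_self_of_surjective (QuotientGroup.mk'_surjective _),
        relIndex_bot_left]
      exact CfsgLib.Solvable.coprime_card_pPrimeCore r
  have heq : upc r H N = U := by
    refine le_antisymm (sSup_le ?_) (le_sSup hmem)
    rintro D ⟨hND, hDH, hHD, hc⟩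
    rw [← map_subgroupOf_eq_of_le hDH]
    refine map_mono (map_le_iff_le_comap.1 ?_)
    refine CfsgLib.Solvable.le_pPrimeCore r
      ((normal_subgroupOf_of_le_normalizer hHD).map mk (QuotientGroup.mk'_surjective _)) ?_
    rw [← relIndex_ker, QuotientGroup.ker_mk', relIndex_subgroupOf hDH]
    exact hc
  exact ⟨heq, heq ▸ hmem⟩

theorem upc_spec (r : ℕ) {H N : Subgroup G} (hNH : N ≤ H) (hn : H ≤ normalizer (N : Set G)) :
    N ≤ upc r H N ∧ upc r H N ≤ H ∧ H ≤ normalizer (upc r H N : Set G) ∧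
      (N.relIndex (upc r H N)).Coprime r := by
  haveI := normal_subgroupOf_of_le_normalizer hn
  exact (exists_quotient r hNH hn).2

theorem le_normalizer_upc_of_le (r : ℕ) {X H N : Subgroup G} (hNH : N ≤ H)
    (hn : H ≤ normalizer (N : Set G)) (hH : X ≤ normalizer (H : Set G))
    (hN : X ≤ normalizer (N : Set G)) : X ≤ normalizer (upc r H N : Set G) := by
  obtain ⟨h1, h2, h3, h4⟩ := upc_spec r hNH hn
  intro g hg
  refine mem_normalizer_of_conj fun x hx => ?_
  have eH : H.map (MulAut.conj g).toMonoidHom = H := mem_normalizer_iff_map_conj_eq.1 (hH hg)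
  have eN : N.map (MulAut.conj g).toMonoidHom = N := mem_normalizer_iff_map_conj_eq.1 (hN hg)
  have hle : (upc r H N).map (MulAut.conj g).toMonoidHom ≤ upc r H N := by
    refine le_sSup ⟨eN.symm.le.trans (map_mono h1), (map_mono h2).trans eH.le,
      eH.symm.le.trans ((map_mono h3).trans (le_normalizer_map _)), ?_⟩
    have h5 := relIndex_map_map_of_injective N (upc r H N)
      (f := (MulAut.conj g).toMonoidHom) (MulAut.conj g).injective
    rw [eN] at h5
    rw [h5]
    exact h4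
  exact hle ⟨x, hx, rfl⟩

theorem mem_of_upc_of_rmod {r : ℕ} {H N : Subgroup G} (hNH : N ≤ H)
    (hn : H ≤ normalizer (N : Set G)) {T : Subgroup G} (hT : RMod r T N) {x : G} (hx : x ∈ T)
    (hxU : x ∈ upc r H N) : x ∈ N := by
  obtain ⟨h1, h2, h3, h4⟩ := upc_spec r hNH hn
  haveI : (N.subgroupOf (upc r H N)).Normal :=
    normal_subgroupOf_of_le_normalizer (h2.trans hn)
  have h5 := pow_index_mem (N.subgroupOf (upc r H N)) ⟨x, hxU⟩
  refine hT.coprime_mem hx (m := N.relIndex (upc r H N)) ?_ h4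
  simpa [mem_subgroupOf, Subgroup.relIndex] using h5

/-- An `r`-subgroup modulo `N` centralizing the `r'`-core modulo `N` lies in `N`, if there is no
larger normal `r`-subgroup modulo `N`. -/
theorem le_of_centralizes_upc {r : ℕ} [Fact r.Prime] {H N D : Subgroup G}
    (hs : Group.IsSolvable H) (hNH : N ≤ H) (hn : H ≤ normalizer (N : Set G))
    (hcore : rcore r H N ≤ N) (hDH : D ≤ H) (hD : RMod r D N)
    (h : ∀ d ∈ D, ∀ f ∈ upc r H N, d * f * d⁻¹ * f⁻¹ ∈ N) : D ≤ N := by
  haveI := hs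
  haveI := normal_subgroupOf_of_le_normalizer hn
  obtain ⟨heq, -⟩ := exists_quotient r hNH hn
  set mk := QuotientGroup.mk' (N.subgroupOf H)
  set Q := H ⧸ N.subgroupOf H
  have hQ : Cfsg.pCore r Q = ⊥ := by
    set R := ((Cfsg.pCore r Q).comap mk).map H.subtype
    have hR : R ≤ N := (le_rcore (map_subtype_le _) (CfsgLib.Comp.normal_map_subtype_iff.1
      (Subgroup.Normal.comap (CfsgLib.Solvable.pCore_normal r) mk)) (by
        rintro _ ⟨x, hx, rfl⟩
        obtain ⟨n, hn'⟩ := CfsgLib.Solvable.isPGroup_pCore r ⟨mk x, hx⟩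
        refine ⟨n, ?_⟩
        have h1 : mk (x ^ r ^ n) = 1 := by
          rw [map_pow]; exact congrArg Subtype.val hn'
        simpa [mem_subgroupOf] using (QuotientGroup.eq_one_iff _).1 h1)).trans hcore
    refine (eq_bot_iff_forall _).2 fun y hy => ?_
    obtain ⟨x, rfl⟩ := QuotientGroup.mk'_surjective _ y
    exact (QuotientGroup.eq_one_iff _).2 (mem_subgroupOf.2 (hR ⟨x, hy, rfl⟩))
  intro d hd
  set d' : H := ⟨d, hDH hd⟩
  have hfit : Cfsg.fittingSubgroup Q ≤ Cfsg.pPrimeCore r Q := by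
    rw [CfsgLib.Solvable.fittingSubgroup_eq_iSup_pCore]
    refine iSup_le fun q => ?_
    haveI := Fact.mk q.2
    by_cases hq : (q : ℕ) = r
    · rw [hq, hQ]; exact bot_le
    · exact CfsgLib.Solvable.le_pPrimeCore r inferInstance (by
        obtain ⟨k, hk⟩ := IsPGroup.iff_card.1 (CfsgLib.Solvable.isPGroup_pCore (q : ℕ) (G := Q))
        exact hk ▸ ((Nat.coprime_primes q.2 Fact.out).2 hq).pow_left k)
  have hmem : mk d' ∈ Cfsg.pPrimeCore r Q := hfit
    (CfsgLib.Fitting.centralizer_fittingSubgroup_le_of_solvable (mem_centralizer_iff.2 fun y hy => by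
      obtain ⟨f, rfl⟩ := QuotientGroup.mk'_surjective _ y
      have h1 : (f : G) ∈ upc r H N := heq ▸ ⟨f, hfit hy, rfl⟩
      have h2 : mk (d' * f * d'⁻¹ * f⁻¹) = 1 :=
        (QuotientGroup.eq_one_iff _).2 (by simpa [mem_subgroupOf, d'] using h d hd f h1)
      rw [map_mul, map_mul, map_mul, map_inv, map_inv, mul_inv_eq_one,
        mul_inv_eq_iff_eq_mul] at h2
      exact h2.symm))
  exact mem_of_upc_of_rmod hNH hn hD hd (heq ▸ ⟨d', hmem, rfl⟩)

end CfsgLib.SFT
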