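import Cfsg.Agent.SFT.RankWeights

/-!
An element of order `r` acting non-trivially, with rank at most two, on an elementary abelian
`q`-group of linear maps cannot be moved around by a coprime `p`-group `A` without fixed points.
-/

set_option autoImplicit false
set_option linter.style.haveILetI false
set_option linter.deprecated false
set_option linter.unusedSectionVars false

namespace CfsgLib.SFT

open Subgroup Wt

theorem pow_coprime_fix {G X : Type*} [Group G] [Finite G] [MulAction G X] {g : G} {x : X} {n : ℕ}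
    (hn : n.Coprime (orderOf g)) (h : g ^ n • x = x) : g • x = x := by
  obtain ⟨m, hm⟩ := exists_pow_eq_self_of_coprime hn
  have : ∀ m : ℕ, (g ^ n) ^ m • x = x := by
    intro m
    induction m with
    | zero => rw [pow_zero, one_smul]
    | succ k ih => rw [pow_succ, mul_smul, h, ih]
  simpa [hm] using this m

theorem eq_one_of_pow_coprime {M : Type*} [Monoid M] {x : M} {m n : ℕ} (h : m.Coprime n)
    (hm : x ^ m = 1) (hn : x ^ n = 1) : x = 1 := by
  have := pow_gcd_eq_one.2 ⟨hm, hn⟩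
  rwa [show Nat.gcd m n = 1 from h, pow_one] at this

variable {F : Type*} [Field F] {V : Type*} [AddCommGroup V] [Module F V]
  {G : Type*} [Group G] [Finite G]

/-- The subgroup generated by the conjugates of `y` under `A`. -/
def conjGen (A : Subgroup G) (y : G) : Subgroup G :=
  Subgroup.closure {g | ∃ a ∈ A, g = a * y * a⁻¹}

theorem mem_conjGen {A : Subgroup G} {y a : G} (ha : a ∈ A) : a * y * a⁻¹ ∈ conjGen A y :=
  Subgroup.subset_closure ⟨a, ha, rfl⟩

theorem self_mem_conjGen {A : Subgroup G} {y : G} : y ∈ conjGen A y := by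
  simpa using mem_conjGen (y := y) A.one_mem

theorem conj_mem_conjGen {A : Subgroup G} {y a g : G} (ha : a ∈ A) (hg : g ∈ conjGen A y) :
    a * g * a⁻¹ ∈ conjGen A y := by
  induction hg using Subgroup.closure_induction with
  | mem g h =>
    obtain ⟨b, hb, rfl⟩ := h
    rw [show a * (b * y * b⁻¹) * a⁻¹ = (a * b) * y * (a * b)⁻¹ by group]
    exact mem_conjGen (mul_mem ha hb)
  | one => simp
  | mul g h _ _ h1 h2 =>
    rw [show a * (g * h) * a⁻¹ = (a * g * a⁻¹) * (a * h * a⁻¹) by group]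
    exact mul_mem h1 h2
  | inv g _ h1 =>
    rw [show a * g⁻¹ * a⁻¹ = (a * g * a⁻¹)⁻¹ by group]
    exact inv_mem h1

/-- The abelian case of the rank bound. -/
theorem abelian_case [FiniteDimensional F V] (ρ : G →* Module.End F V) (hρ : Function.Injective ρ)
    {p q r : ℕ} [hp : Fact p.Prime] [hq : Fact q.Prime] [hr : Fact r.Prime]
    (hpq : p ≠ q) (hpr : p ≠ r) (hqr : q ≠ r) (hqF : (q : F) ≠ 0)
    {ω : F} (hω : IsPrimitiveRoot ω q)
    (Q : Subgroup G) [hQn : Q.Normal] (hQc : ∀ x ∈ Q, ∀ z ∈ Q, x * z = z * x)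
    (hQe : ∀ x ∈ Q, x ^ q = 1) {A : Subgroup G} (hA : IsPGroup p A) {y : G} (hyo : orderOf y = r)
    (hP : IsPGroup r (conjGen A y))
    (hfix : ∀ d ∈ Q, (∀ a ∈ A, a * d = d * a) → d = 1)
    (hy : ∃ t ∈ Q, y * t * y⁻¹ ≠ t)
    (hrk : Module.finrank F (LinearMap.range (ρ y - 1)) ≤ 2) : False := by
  classical
  letI act : MulAction G (Q →* Fˣ) := charAction
  have hsmul : ∀ (g : G) (χ : Q →* Fˣ), g • χ = cj g χ := fun _ _ => rfl
  set P₁ := conjGen A y with hP₁
  have hyP : y ∈ P₁ := self_mem_conjGen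
  obtain ⟨x, hx, hxy⟩ : ∃ x : Q →* Fˣ, wt ρ Q x ≠ ⊥ ∧ y • x ≠ x := by
    by_contra hno
    push Not at hno
    obtain ⟨t, ht, hty⟩ := hy
    have ht' : y * t * y⁻¹ ∈ Q := hQn.conj_mem t ht y
    refine hty (hρ (sub_eq_zero.1 ?_))
    refine eq_zero_of_kills (ρ := ρ) hqF hQc hQe hω (ρ (y * t * y⁻¹) - ρ t) (fun χ v hv => ?_)
    by_cases hv0 : v = 0
    · simp [hv0]
    have hfx : cj y χ = χ := hno χ ((Submodule.ne_bot_iff _).2 ⟨v, hv, hv0⟩)
    have he : χ ⟨y * t * y⁻¹, ht'⟩ = χ ⟨t, ht⟩ := by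
      conv_lhs => rw [← hfx]
      rw [cj_apply]
      congr 1
      refine Subtype.ext ?_
      rw [MulAut.conjNormal_apply]
      group
    rw [LinearMap.sub_apply, hv ⟨y * t * y⁻¹, ht'⟩, hv ⟨t, ht⟩, he, sub_self]
  -- a point moved by `y` which is fixed by the stabiliser in `A` of its orbit
  have horb : ∀ {g : G} {w w' : Q →* Fˣ}, g ∈ P₁ → g • w = w' →
      w' ∈ MulAction.orbit P₁ w := fun {g w w'} hg h => ⟨⟨g, hg⟩, h⟩
  have hAorb : ∀ {a : G}, a ∈ A → ∀ {w w' : Q →* Fˣ}, w' ∈ MulAction.orbit P₁ w →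
      a • w' ∈ MulAction.orbit P₁ (a • w) := by
    rintro a ha w w' ⟨⟨g, hg⟩, rfl⟩
    refine horb (conj_mem_conjGen ha hg) ?_
    show (a * g * a⁻¹) • a • w = a • g • w
    rw [smul_smul, smul_smul, inv_mul_cancel_right]
  obtain ⟨z, hz, hzy, hstab⟩ : ∃ z : Q →* Fˣ, wt ρ Q z ≠ ⊥ ∧ y • z ≠ z ∧
      ∀ a ∈ A, a • z ∈ MulAction.orbit P₁ z → a • z = z := by
    let Γ := MulAction.orbit P₁ x
    let S : Subgroup A :=
      { carrier := {a | (a : G) • x ∈ Γ}
        one_mem' := by simp [Γ]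
        mul_mem' := fun {a b} ha hb => by
          have h1 := hAorb a.2 hb
          rw [MulAction.orbit_eq_iff.2 ha, smul_smul] at h1
          exact h1
        inv_mem' := fun {a} ha => by
          have h1 := hAorb (inv_mem a.2) ha
          rw [smul_smul, inv_mul_cancel, one_smul, MulAction.mem_orbit_symm] at h1
          exact h1 }
    have hSΓ : ∀ (a : S) (w : Γ), ((a : A) : G) • (w : Q →* Fˣ) ∈ Γ := by
      intro a w
      have h1 := hAorb (a : A).2 w.2
      rwa [MulAction.orbit_eq_iff.2 a.2] at h1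
    letI : SMul S Γ := ⟨fun a w => ⟨_, hSΓ a w⟩⟩
    letI : MulAction S Γ := Function.Injective.mulAction Subtype.val Subtype.val_injective
      fun _ _ => rfl
    obtain ⟨n, hn⟩ := hP.card_orbit x
    haveI : Finite Γ := Nat.finite_of_card_ne_zero (by
      rw [show Nat.card Γ = r ^ n from hn]
      exact pow_ne_zero _ hr.out.ne_zero)
    obtain ⟨g₀, hg₀⟩ := (hA.to_subgroup S).nonempty_fixed_point_of_prime_not_dvd_card Γ (by
      rw [show Nat.card Γ = r ^ n from hn]
      exact fun h => hpr ((Nat.prime_dvd_prime_iff_eq hp.out hr.out).1 (hp.out.dvd_of_dvd_pow h)))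
    have hΓ : MulAction.orbit P₁ (g₀ : Q →* Fˣ) = Γ := MulAction.orbit_eq_iff.2 g₀.2
    have hg₀ne : wt ρ Q (g₀ : Q →* Fˣ) ≠ ⊥ := by
      obtain ⟨g, hg⟩ := g₀.2
      rw [← hg]
      exact wt_ne_bot_cj (g : G) hx
    have hst : ∀ a ∈ A, a • (g₀ : Q →* Fˣ) ∈ MulAction.orbit P₁ (g₀ : Q →* Fˣ) →
        a • (g₀ : Q →* Fˣ) = g₀ := by
      intro a ha h
      rw [hΓ] at h
      have h1 := hAorb ha g₀.2
      have haS : (⟨a, ha⟩ : A) ∈ S := by
        show a • x ∈ Γ
        have h3 : MulAction.orbit P₁ (a • x) = Γ :=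
          (MulAction.orbit_eq_iff.2 h1).symm.trans (MulAction.orbit_eq_iff.2 h)
        exact MulAction.orbit_eq_iff.1 h3
      exact congrArg Subtype.val (hg₀ ⟨⟨a, ha⟩, haS⟩)
    obtain ⟨a₀, ha₀, hmv⟩ : ∃ a ∈ A, (a * y * a⁻¹) • (g₀ : Q →* Fˣ) ≠ g₀ := by
      by_contra hno
      push Not at hno
      have hle : P₁ ≤ MulAction.stabilizer G (g₀ : Q →* Fˣ) := by
        rw [hP₁, conjGen, Subgroup.closure_le]
        rintro _ ⟨a, ha, rfl⟩
        exact hno a ha
      have hx0 : x = (g₀ : Q →* Fˣ) := by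
        have hm : x ∈ MulAction.orbit P₁ (g₀ : Q →* Fˣ) := by
          rw [hΓ]; exact MulAction.mem_orbit_self x
        obtain ⟨g, hg⟩ := hm
        rw [← hg]
        exact hle g.2
      exact hxy (hx0 ▸ hle hyP)
    refine ⟨a₀⁻¹ • (g₀ : Q →* Fˣ), wt_ne_bot_cj _ hg₀ne, ?_, ?_⟩
    · intro h
      apply hmv
      rw [mul_smul, mul_smul, h, smul_inv_smul]
    · intro a ha h
      have h1 := hAorb ha₀ h
      rw [smul_inv_smul, smul_smul, smul_smul] at h1
      have h2 := hst _ (mul_mem (mul_mem ha₀ ha) (inv_mem ha₀)) h1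
      calc a • a₀⁻¹ • (g₀ : Q →* Fˣ)
          = a₀⁻¹ • (a₀ * a * a₀⁻¹) • (g₀ : Q →* Fˣ) := by
            simp only [smul_smul]; congr 1; group
        _ = a₀⁻¹ • (g₀ : Q →* Fˣ) := by rw [h2]
  have hord : ∀ {w : Q →* Fˣ}, y • w ≠ w → ∀ {i : ℕ}, ¬ r ∣ i → y ^ i • w ≠ w := by
    intro w hw i hi h
    refine hw (pow_coprime_fix ?_ h)
    rw [hyo]
    exact ((Nat.Prime.coprime_iff_not_dvd hr.out).2 hi).symm
  have hyy : ∀ {w : Q →* Fˣ}, y • w ∈ MulAction.orbit P₁ w := fun {w} => horb hyP rfl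
  have three := fun {w₁ w₂ w₃ : Q →* Fˣ} => three_moved (ρ := ρ) (y := y) hrk (w₁ := w₁)
    (w₂ := w₂) (w₃ := w₃)
  -- `r ≤ 3`
  have hr3 : r = 2 ∨ r = 3 := by
    by_contra hh
    push Not at hh
    have h2r : ¬ r ∣ 1 := hr.out.not_dvd_one
    have hd : ∀ i, 0 < i → i ≤ 3 → ¬ r ∣ i := fun i h0 h3 hd => by
      have := Nat.le_of_dvd h0 hd
      have := hr.out.two_le
      omega
    have e2 : y • y • z = y ^ 2 • z := by rw [pow_two, mul_smul]
    have e3 : y • y • y • z = y ^ 3 • z := by rw [pow_succ', pow_two, mul_smul, mul_smul]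
    refine three (w₁ := z) (w₂ := y • z) (w₃ := y • y • z) hz (wt_ne_bot_cj y hz)
      (wt_ne_bot_cj y (wt_ne_bot_cj y hz)) (Ne.symm hzy) ?_ ?_ hzy ?_ ?_ ?_ ?_ ?_
    · rw [e2]; exact (hord hzy (hd 2 (by omega) (by omega))).symm
    · exact fun h => hzy (smul_left_cancel y h).symm
    · show y • y • z ≠ z
      rw [e2]; exact hord hzy (hd 2 (by omega) (by omega))
    · exact fun h => hzy (smul_left_cancel y h)
    · show y • y • y • z ≠ z
      rw [e3]; exact hord hzy (hd 3 (by omega) le_rfl)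
    · show y • y • y • z ≠ y • z
      exact fun h => hord hzy (hd 2 (by omega) (by omega)) (e2 ▸ smul_left_cancel y h)
    · show y • y • y • z ≠ y • y • z
      exact fun h => hzy (smul_left_cancel y (smul_left_cancel y h))
  have hsub : ∀ {w w' : Q →* Fˣ}, w' ∈ MulAction.orbit P₁ w →
      MulAction.orbit P₁ w' = MulAction.orbit P₁ w := fun h => MulAction.orbit_eq_iff.2 h
  -- products over `A`
  letI : Fintype A := Fintype.ofFinite A
  have hchq : ∀ χ : Q →* Fˣ, χ ^ q = 1 := fun χ => MonoidHom.ext fun t => by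
    rw [MonoidHom.pow_apply, ← map_pow, MonoidHom.one_apply,
      show t ^ q = 1 from Subtype.ext (by simpa using hQe t t.2), map_one]
  have hprod : ∏ a : A, ((a : G) • z) = 1 := by
    refine MonoidHom.ext fun t => ?_
    rw [MonoidHom.finsetProd_apply, MonoidHom.one_apply]
    letI : CommGroup Q := { (inferInstance : Group Q) with
      mul_comm := fun u v => Subtype.ext (hQc u u.2 v v.2) }
    simp only [hsmul, cj_apply, ← map_prod]
    rw [show (∏ a : A, MulAut.conjNormal (a : G)⁻¹ t : Q) = 1 from ?_, map_one]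
    set u := ∏ a : A, MulAut.conjNormal (a : G)⁻¹ t with hu
    refine Subtype.ext (hfix u u.2 fun b hb => ?_)
    have h1 : (MulAut.conjNormal b) u = u := by
      rw [hu, map_prod]
      refine Fintype.prod_equiv (Equiv.mulRight (⟨b, hb⟩ : A)⁻¹) _ _ fun a => ?_
      rw [Equiv.coe_mulRight, ← MulAut.mul_apply, ← map_mul]
      simp
    have h2 := congrArg Subtype.val h1
    rw [MulAut.conjNormal_apply] at h2
    exact mul_inv_eq_iff_eq_mul.1 h2
  have hδprod : ∏ a : A, (y • ((a : G) • z)) / ((a : G) • z) = 1 := by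
    refine Eq.trans (Finset.prod_div_distrib (fun a : A => y • ((a : G) • z))
      (fun a : A => (a : G) • z)) ?_
    rw [hprod]
    refine (div_one (∏ a : A, y • ((a : G) • z))).trans ?_
    have h := congrArg (cj y) hprod
    rw [cj_hom_one] at h
    rw [← h]
    let f : (Q →* Fˣ) →* (Q →* Fˣ) :=
      { toFun := cj y, map_one' := cj_hom_one y, map_mul' := cj_hom_mul y }
    exact (map_prod f _ _).symm
  set δ₀ := (y • z) / z with hδ₀
  have hδ₀1 : δ₀ ≠ 1 := fun h => hzy (div_eq_one.1 h)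
  set s := (Finset.univ.filter fun a : A => (a : G) • z = z).card with hs
  have hsq : ∀ χ : Q →* Fˣ, χ ^ s = 1 → χ = 1 := by
    intro χ h
    refine eq_one_of_pow_coprime (M := Q →* Fˣ) (x := χ) (n := q) ?_ h (hchq χ)
    obtain ⟨k, hk⟩ := IsPGroup.iff_card.1
      (hA.to_subgroup ((MulAction.stabilizer G z).subgroupOf A))
    have hse : s = Nat.card ((MulAction.stabilizer G z).subgroupOf A) := by
      rw [hs, Nat.card_eq_fintype_card, ← Fintype.card_subtype]
      exact Fintype.card_congr (Equiv.subtypeEquivRight fun a => Iff.rfl)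
    rw [hse, hk]
    exact Nat.Coprime.pow_left _ ((Nat.coprime_primes hp.out hq.out).2 hpq)
  by_cases hsingle : ∀ a ∈ A, a • z ≠ z → y • a • z = a • z
  · apply hδ₀1
    apply hsq
    rw [← hδprod, hs]
    refine (Finset.prod_const δ₀).symm.trans ?_
    rw [Finset.prod_filter]
    refine Finset.prod_congr rfl fun a _ => ?_
    split_ifs with h
    · rw [h]
    · rw [hsingle a a.2 h]; exact (div_self' ((a : G) • z)).symm
  push Not at hsingle
  obtain ⟨a₁, ha₁, hz1, hy1⟩ := hsingle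
  set z₁ := a₁ • z with hz₁
  have hz₁ne : wt ρ Q z₁ ≠ ⊥ := wt_ne_bot_cj _ hz
  have hout : z₁ ∉ MulAction.orbit P₁ z := fun h => hz1 (hstab a₁ ha₁ h)
  have hsep : ∀ {u v : Q →* Fˣ}, u ∈ MulAction.orbit P₁ z → v ∈ MulAction.orbit P₁ z₁ →
      u ≠ v := by
    intro u v hu hv huv
    subst huv
    exact hout (MulAction.orbit_eq_iff.1 ((hsub hv).symm.trans (hsub hu)))
  have hzO : z ∈ MulAction.orbit P₁ z := MulAction.mem_orbit_self z
  have hz₁O : z₁ ∈ MulAction.orbit P₁ z₁ := MulAction.mem_orbit_self z₁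
  rcases hr3 with rfl | rfl
  swap
  · have hy2 : y • y • z ∈ MulAction.orbit P₁ z := by
      rw [← mul_smul]; exact horb (mul_mem hyP hyP) rfl
    refine three (w₁ := z₁) (w₂ := z) (w₃ := y • z) hz₁ne hz (wt_ne_bot_cj y hz)
      (hsep hzO hz₁O).symm (hsep hyy hz₁O).symm (Ne.symm hzy) hy1 (hsep hyy hz₁O) hzy
      (hsep hy2 hz₁O) ?_ ?_
    · show y • y • z ≠ z
      rw [← mul_smul, ← pow_two]
      exact hord hzy (by decide)
    · exact fun h => hzy (smul_left_cancel y h)
  have hy2 : ∀ w : Q →* Fˣ, y • y • w = w := fun w => by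
    rw [← mul_smul, ← pow_two, show y ^ 2 = 1 by rw [← hyo]; exact pow_orderOf_eq_one y, one_smul]
  -- at most two of the translates are moved
  have htwo : ∀ a ∈ A, a • z ≠ z → a • z ≠ z₁ → y • a • z = a • z := by
    intro a ha h0 h1
    by_contra hmv
    have ho : a • z ∉ MulAction.orbit P₁ z := fun h => h0 (hstab a ha h)
    have ho1 : a • z ∉ MulAction.orbit P₁ z₁ := by
      intro h
      have h' := hAorb (inv_mem ha₁) h
      rw [hz₁, inv_smul_smul] at h'
      apply h1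
      rw [hz₁, eq_comm, ← eq_inv_smul_iff, eq_comm, smul_smul]
      rw [smul_smul] at h'
      exact hstab _ (mul_mem (inv_mem ha₁) ha) h'
    refine three (w₁ := z) (w₂ := z₁) (w₃ := a • z) hz hz₁ne (wt_ne_bot_cj a hz)
      (hsep hzO hz₁O) (Ne.symm h0) (Ne.symm h1) hzy (fun h => hsep hzO hyy h.symm) hy1
      ?_ ?_ hmv
    · intro h
      have h' : y • a • z ∈ MulAction.orbit P₁ (a • z) := hyy
      rw [show y • a • z = z from h, MulAction.mem_orbit_symm] at h'
      exact ho h'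
    · intro h
      have h' : y • a • z ∈ MulAction.orbit P₁ (a • z) := hyy
      rw [show y • a • z = z₁ from h, MulAction.mem_orbit_symm] at h'
      exact ho1 h'
  -- the two moved pairs correspond
  have hcorr : y • z₁ = a₁ • y • z := by
    by_contra hne
    set τ := a₁ * y * a₁⁻¹ with hτ
    have hτP : τ ∈ P₁ := mem_conjGen ha₁
    set w := a₁ • y • z with hw
    set u := y • z₁ with hu
    have hτz : τ • z₁ = w := by rw [hτ, hz₁, hw, smul_smul, inv_mul_cancel_right, mul_smul]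
    have hwO : w ∈ MulAction.orbit P₁ z₁ := hτz ▸ horb hτP rfl
    have hyw : y • w = w := by
      by_contra h
      refine three (w₁ := z) (w₂ := z₁) (w₃ := w) hz hz₁ne
        (wt_ne_bot_cj a₁ (wt_ne_bot_cj y hz)) (hsep hzO hz₁O) (hsep hzO hwO)
        (fun e => hzy (smul_left_cancel a₁ e).symm) hzy
        (fun e => hsep hzO hyy e.symm) hy1 ?_ ?_ h
      · intro e
        have : w = y • z := by rw [← hy2 w]; exact congrArg (y • ·) e
        exact hsep hyy hwO this.symm
      · intro e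
        exact hne (by rw [← hy2 w]; exact (congrArg (y • ·) e).symm)
    have hτu : τ • u = u := by
      rw [hτ, mul_smul, mul_smul, smul_eq_iff_eq_inv_smul]
      by_contra h
      set u' := a₁⁻¹ • u with hu'
      have hu'O : u' ∈ MulAction.orbit P₁ z := by
        have := hAorb (inv_mem ha₁) (hyy (w := z₁))
        rwa [hz₁, inv_smul_smul, ← hz₁, ← hu] at this
      refine three (w₁ := z₁) (w₂ := z) (w₃ := u') hz₁ne hz
        (wt_ne_bot_cj _ (wt_ne_bot_cj y hz₁ne)) (hsep hzO hz₁O).symm (hsep hu'O hz₁O).symm ?_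
        hy1 (hsep hyy hz₁O) hzy ?_ ?_ h
      · intro e
        exact hy1 (by rw [hz₁, e, hu', smul_inv_smul])
      · refine hsep ?_ hz₁O
        rw [← hsub hu'O]
        exact hyy
      · intro e
        refine hne ?_
        have : u' = y • z := by rw [← hy2 u']; exact congrArg (y • ·) e
        rw [hw, ← this, hu', smul_inv_smul]
    have hτ2 : ∀ w : Q →* Fˣ, τ • τ • w = w := fun w => by
      simp only [hτ, mul_smul, inv_smul_smul, hy2, smul_inv_smul]
    set h := y * τ with hh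
    have h1 : h • z₁ = w := by rw [hh, mul_smul, hτz, hyw]
    have h3 : h ^ 3 • z₁ = z₁ := by
      rw [pow_succ, mul_smul, h1, pow_two, mul_smul]
      have h2 : h • w = u := by
        rw [hh, mul_smul, ← hτz, hτ2]
      rw [h2, hh, mul_smul, hτu, hu, hy2]
    obtain ⟨k, hk⟩ := hP ⟨h, mul_mem hyP hτP⟩
    have hk' : orderOf h ∣ 2 ^ k := orderOf_dvd_of_pow_eq_one (congrArg Subtype.val hk)
    have := pow_coprime_fix (Nat.Coprime.coprime_dvd_right hk'
      (Nat.Coprime.pow_right _ (by norm_num : Nat.Coprime 3 2))) h3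
    rw [h1] at this
    exact hzy (smul_left_cancel a₁ this)
  set δ₁ := (y • z₁) / z₁ with hδ₁
  have hδ₁0 : δ₁ = cj a₁ δ₀ := by
    rw [hδ₁, hδ₀, cj_hom_div, hcorr, hz₁]
    rfl
  have hmul : δ₀ * δ₁ = 1 := by
    apply hsq
    refine (mul_pow δ₀ δ₁ s).trans ?_
    rw [← hδprod]
    have hs₁ : (Finset.univ.filter fun a : A => (a : G) • z = z₁).card = s := by
      refine Finset.card_equiv (Equiv.mulLeft (⟨a₁, ha₁⟩ : A)⁻¹) fun a => ?_
      simp only [Finset.mem_filter, Finset.mem_univ, true_and, Equiv.coe_mulLeft,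
        Subgroup.coe_mul, Subgroup.coe_inv, mul_smul, hz₁, inv_smul_eq_iff]
    conv_lhs => arg 2; rw [← hs₁]
    rw [hs, ← Finset.prod_const, ← Finset.prod_const, Finset.prod_filter, Finset.prod_filter,
      ← Finset.prod_mul_distrib]
    refine Finset.prod_congr rfl fun a _ => ?_
    by_cases h0 : (a : G) • z = z
    · rw [if_pos h0, if_neg (by rw [h0]; exact hsep hzO hz₁O), mul_one, h0]
    · by_cases h1 : (a : G) • z = z₁
      · rw [if_neg h0, if_pos h1, one_mul, h1]
      · rw [if_neg h0, if_neg h1, mul_one, htwo a a.2 h0 h1]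
        exact (div_self' ((a : G) • z)).symm
  have hinv : cj a₁ δ₀ = δ₀⁻¹ := by rw [← hδ₁0]; exact eq_inv_of_mul_eq_one_right (a := δ₀) (b := δ₁) hmul
  have hfx : cj a₁ δ₀ = δ₀ := by
    refine pow_coprime_fix (g := a₁) (n := 2) ?_ ?_
    · obtain ⟨k, hk⟩ := hA ⟨a₁, ha₁⟩
      have hk' : orderOf a₁ ∣ p ^ k := orderOf_dvd_of_pow_eq_one (congrArg Subtype.val hk)
      exact Nat.Coprime.coprime_dvd_right hk'
        (Nat.Coprime.pow_right _ ((Nat.coprime_primes Nat.prime_two hp.out).2 (Ne.symm hpr)))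
    · rw [pow_two, mul_smul, hsmul, hsmul, hinv, cj_hom_inv, hinv]
      exact inv_inv δ₀
  apply hδ₀1
  refine eq_one_of_pow_coprime (M := Q →* Fˣ) (x := δ₀) (n := q)
    ((Nat.coprime_primes Nat.prime_two hq.out).2 (Ne.symm hqr)) ?_ (hchq δ₀)
  rw [pow_two]
  conv_lhs => arg 2; rw [← hfx, hinv]
  exact mul_inv_cancel δ₀

end CfsgLib.SFT
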