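import Cfsg.Agent.SFT.RankAbelian

/-!
One homogeneous component of a class two `q`-group of linear maps, normalised by an element `y`
of order `r` with rank at most two.
-/

set_option autoImplicit false
set_option linter.style.haveILetI false
set_option linter.deprecated false
set_option linter.unusedSectionVars false

namespace CfsgLib.SFT

open Subgroup Wt

/-- An automorphism of order dividing `p ≥ 5` of a group of order `1, 2, 3, 4` or `9` is trivial. -/
theorem small_aut {E : Type*} [Group E] [Finite E] {p : ℕ} [hp : Fact p.Prime] (hp5 : 5 ≤ p)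
    (hE : Nat.card E ∈ ({1, 2, 3, 4, 9} : Set ℕ)) (f : MulAut E) (hf : f ^ p = 1) : f = 1 := by
  have hfp : IsPGroup p (Subgroup.zpowers f) := by
    rintro ⟨g, hg⟩
    obtain ⟨k, rfl⟩ := Subgroup.mem_zpowers_iff.1 hg
    refine ⟨1, Subtype.ext ?_⟩
    rw [pow_one, SubmonoidClass.coe_pow, OneMemClass.coe_one, ← zpow_natCast, ← zpow_mul,
      mul_comm, zpow_mul, zpow_natCast, hf, one_zpow]
  let Fx : Subgroup E := (f : E →* E).eqLocus (MonoidHom.id E)
  have hmod := hfp.card_modEq_card_fixedPoints (α := E)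
  have hfix : MulAction.fixedPoints (Subgroup.zpowers f) E = (Fx : Set E) := by
    ext e
    constructor
    · exact fun h => h ⟨f, Subgroup.mem_zpowers f⟩
    · intro h g
      have hs : Subgroup.zpowers f ≤ MulAction.stabilizer (MulAut E) e :=
        Subgroup.zpowers_le.2 h
      exact hs g.2
  rw [show Nat.card (MulAction.fixedPoints (Subgroup.zpowers f) E) = Nat.card Fx by rw [hfix]; rfl]
    at hmod
  have hdvd := Subgroup.card_subgroup_dvd_card Fx
  have heq : Nat.card Fx = Nat.card E := by
    have hpos : 0 < Nat.card Fx := Nat.card_pos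
    have hle : Nat.card Fx ≤ Nat.card E := Nat.le_of_dvd Nat.card_pos hdvd
    have hd : p ∣ Nat.card E - Nat.card Fx :=
      (Nat.modEq_iff_dvd' hle).1 hmod.symm
    by_contra hne
    have hlt : 0 < Nat.card E - Nat.card Fx := by omega
    have hple := Nat.le_of_dvd hlt hd
    rcases hE with h | h | h | h | h <;> rw [h] at hdvd hlt hd hple <;>
      (try simp only [Set.mem_singleton_iff] at h) <;> try omega
    have h13 : Nat.card Fx = 1 ∨ Nat.card Fx = 3 := by
      have : Nat.card Fx ∈ Nat.divisors 9 := Nat.mem_divisors.2 ⟨hdvd, by norm_num⟩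
      rw [show Nat.divisors 9 = {1, 3, 9} by decide] at this
      simp only [Finset.mem_insert, Finset.mem_singleton] at this
      rcases this with h' | h' | h' <;> omega
    rcases h13 with h' | h' <;> rw [h'] at hd hple
    · have h8 : p ∣ 2 ^ 3 := by simpa using hd
      have := Nat.le_of_dvd (by norm_num) (hp.out.dvd_of_dvd_pow h8)
      omega
    · obtain rfl | h6 := (show p = 5 ∨ p = 6 by omega) <;> first | omega | skip
      exact absurd hp.out (by rw [h6]; norm_num)
  have htop := Subgroup.eq_top_of_card_eq Fx heq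
  ext e
  exact (htop ▸ Subgroup.mem_top e : e ∈ Fx)

variable {F : Type*} [Field F]

/-- A linear map of order dividing `p ≥ 5` on a space of dimension at most two over the field of
order three is trivial. -/
theorem small_lin [Finite F] (hF : Nat.card F = 3) {X : Type*} [AddCommGroup X] [Module F X]
    [FiniteDimensional F X] (hX : Module.finrank F X ≤ 2) {p : ℕ} [hp : Fact p.Prime] (hp5 : 5 ≤ p)
    (g : Module.End F X) (hg : g ^ p = 1) : g = 1 := by
  haveI : Finite X := Module.finite_of_finite F
  have h1 : g * g ^ (p - 1) = 1 := by rw [← pow_succ', Nat.sub_add_cancel hp.out.one_le, hg]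
  have h2 : g ^ (p - 1) * g = 1 := by rw [← pow_succ, Nat.sub_add_cancel hp.out.one_le, hg]
  let e : X ≃ₗ[F] X := LinearEquiv.ofLinear g (g ^ (p - 1)) h1 h2
  let f : MulAut (Multiplicative X) := AddEquiv.toMultiplicative e.toAddEquiv
  have hpow : ∀ (i : ℕ) (x : Multiplicative X),
      (f ^ i) x = Multiplicative.ofAdd ((g ^ i) x.toAdd) := by
    intro i
    induction i with
    | zero => intro x; rfl
    | succ k ih =>
      intro x
      rw [pow_succ, MulAut.mul_apply, ih, pow_succ, Module.End.mul_apply]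
      rfl
  have hf : f = 1 := by
    refine small_aut hp5 ?_ f (MulEquiv.ext fun x => by rw [hpow, hg]; rfl)
    have hc : Nat.card (Multiplicative X) = 3 ^ Module.finrank F X := by
      rw [← hF, ← Module.natCard_eq_pow_finrank]
      rfl
    rw [hc]
    interval_cases (Module.finrank F X) <;> norm_num
  refine LinearMap.ext fun x => ?_
  have := DFunLike.congr_fun hf (Multiplicative.ofAdd x)
  exact Multiplicative.ofAdd.injective this

section Component

variable {W : Type*} [AddCommGroup W] [Module F W] [FiniteDimensional F W] [Nontrivial W]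
  {H : Type*} [Group H] (σ : H →* Module.End F W) {Q : Subgroup H}
  (b : Q →* (Q →* Fˣ))

/-- `b` records the scalars by which the elements of `Q` commute in the representation. -/
def Rel : Prop := ∀ u g : Q, σ g * σ u = ((b u g : Fˣ) : F) • (σ u * σ g)

variable {σ b}

theorem sigma_ne_zero (h : H) : σ h ≠ 0 := by
  intro h0
  have : (1 : Module.End F W) = 0 := by
    rw [← map_one σ, ← mul_inv_cancel h, map_mul, h0, zero_mul]
  exact one_ne_zero this

theorem Rel.equivariant (hb : Rel σ b) [Q.Normal] (h : H) (u : Q) :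
    b (MulAut.conjNormal h u) = cj h (b u) := by
  refine MonoidHom.ext fun g => Units.ext ?_
  set g' := MulAut.conjNormal h⁻¹ g with hg'
  have h1 := hb (MulAut.conjNormal h u) g
  have hgg : (g : H) = h * g' * h⁻¹ := by
    rw [hg', MulAut.conjNormal_apply]; group
  have eu : ((MulAut.conjNormal h u : Q) : H) = h * u * h⁻¹ := MulAut.conjNormal_apply h u
  have e1 : σ (g : H) * σ ((MulAut.conjNormal h u : Q) : H) =
      ((b u g' : Fˣ) : F) • (σ ((MulAut.conjNormal h u : Q) : H) * σ (g : H)) := by
    have key : σ (g' : H) * σ (u : H) = ((b u g' : Fˣ) : F) • (σ (u : H) * σ (g' : H)) := hb u g'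
    calc σ (g : H) * σ ((MulAut.conjNormal h u : Q) : H)
        = σ h * (σ (g' : H) * σ (u : H)) * σ h⁻¹ := by
          rw [eu, hgg, ← map_mul, ← map_mul, ← map_mul, ← map_mul]
          congr 1; group
      _ = ((b u g' : Fˣ) : F) • (σ h * (σ (u : H) * σ (g' : H)) * σ h⁻¹) := by
          rw [key, mul_smul_comm, smul_mul_assoc]
      _ = _ := by
          rw [eu, hgg, ← map_mul, ← map_mul, ← map_mul, ← map_mul]
          congr 2; group
  rw [cj_apply]
  have hne : σ ((MulAut.conjNormal h u : Q) : H) * σ (g : H) ≠ 0 := by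
    rw [← map_mul]
    exact sigma_ne_zero _
  exact smul_left_injective F hne (h1.symm.trans e1)

theorem Rel.eigen (hb : Rel σ b) (u g : Q) :
    (LinearMap.mulLeft F (σ g) ∘ₗ LinearMap.mulRight F (σ (g : H)⁻¹)) (σ u) =
      ((b u g : Fˣ) : F) • σ (u : H) := by
  simp only [LinearMap.coe_comp, Function.comp_apply, LinearMap.mulLeft_apply,
    LinearMap.mulRight_apply]
  rw [← mul_assoc, hb u g, smul_mul_assoc, mul_assoc, ← map_mul σ (g : H), mul_inv_cancel,
    map_one, mul_one]

theorem Rel.linearIndependent (hb : Rel σ b) {ι : Type*} [Fintype ι] (u : ι → Q)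
    (hu : Function.Injective fun i => b (u i)) :
    LinearIndependent F fun i => σ (u i : H) := by
  rw [Fintype.linearIndependent_iff]
  intro c hc i
  have h := eigen_zero
    (fun g : Q => LinearMap.mulLeft F (σ g) ∘ₗ LinearMap.mulRight F (σ (g : H)⁻¹)) Finset.univ
    (fun i => (Units.coeHom F).comp (b (u i)))
    (fun i _ j _ h => hu (MonoidHom.ext fun g => Units.ext (DFunLike.congr_fun h g)))
    (fun i => c i • σ (u i : H)) (fun i _ g => ?_) hc i (Finset.mem_univ i)
  · exact (smul_eq_zero.1 h).resolve_right (sigma_ne_zero _)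
  · rw [map_smul, hb.eigen, smul_comm]
    rfl

theorem Rel.card_range_le [Finite H] (hb : Rel σ b) :
    Nat.card b.range ≤ Module.finrank F W * Module.finrank F W := by
  haveI : Finite b.range := Finite.of_surjective _ b.rangeRestrict_surjective
  letI : Fintype b.range := Fintype.ofFinite _
  choose s hs using fun e : b.range => e.2
  have h := (hb.linearIndependent s fun i j hij => Subtype.ext (by
    simpa only [hs] using hij)).fintype_card_le_finrank
  rwa [Module.finrank_linearMap, ← Nat.card_eq_fintype_card] at h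

theorem finrank_comm_sub_one_le (y u : H) :
    Module.finrank F (LinearMap.range (σ (y * u * y⁻¹ * u⁻¹) - 1)) ≤
      2 * Module.finrank F (LinearMap.range (σ y - 1)) := by
  have e : σ (y * u * y⁻¹ * u⁻¹) - 1 =
      ((σ y - 1) * σ u - σ u * (σ y - 1)) * (σ y⁻¹ * σ u⁻¹) := by
    rw [show (σ y - 1) * σ u - σ u * (σ y - 1) = σ y * σ u - σ u * σ y by
        rw [sub_mul, mul_sub, one_mul, mul_one]; abel, sub_mul,
      ← map_mul, ← map_mul, ← map_mul, ← map_mul, ← map_mul,
      show u * y * (y⁻¹ * u⁻¹) = 1 by group, map_one]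
    congr 2
    group
  rw [e]
  refine le_trans (Submodule.finrank_mono (LinearMap.range_comp_le_range _ _)) ?_
  have hle : LinearMap.range ((σ y - 1) * σ u - σ u * (σ y - 1)) ≤
      LinearMap.range (σ y - 1) ⊔ (LinearMap.range (σ y - 1)).map (σ u) := by
    rintro _ ⟨v, rfl⟩
    rw [LinearMap.sub_apply, Module.End.mul_apply, Module.End.mul_apply]
    exact sub_mem (Submodule.mem_sup_left (LinearMap.mem_range_self _ _))
      (Submodule.mem_sup_right ⟨_, LinearMap.mem_range_self _ _, rfl⟩)
  refine (Submodule.finrank_mono hle).trans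
    ((Submodule.finrank_add_le_finrank_add_finrank _ _).trans ?_)
  rw [two_mul]
  exact Nat.add_le_add_left (Submodule.finrank_map_le _ _) _

/-- A nilpotent map strictly shrinks non-zero invariant subspaces. -/
theorem finrank_map_lt {N : Module.End F W} (hN : IsNilpotent N) {U : Submodule F W}
    (hU : U.map N ≤ U) (h0 : U ≠ ⊥) : Module.finrank F (U.map N) < Module.finrank F U := by
  refine lt_of_le_of_ne (Submodule.finrank_mono hU) fun he => h0 ?_
  have heq : U.map N = U := Submodule.eq_of_le_of_finrank_eq hU he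
  have hk : ∀ k : ℕ, U.map (N ^ k) = U := by
    intro k
    induction k with
    | zero => rw [pow_zero, Module.End.one_eq_id, Submodule.map_id]
    | succ n ih => rw [pow_succ', Module.End.mul_eq_comp, Submodule.map_comp, ih, heq]
  obtain ⟨k, hk'⟩ := hN
  rw [← hk k, hk', Submodule.map_zero]

theorem three_le_finrank_of_delta [Finite H] [Q.Normal] (hb : Rel σ b) {q r : ℕ}
    [hq : Fact q.Prime] [hr : Fact r.Prime] [CharP F r] (hqr : q ≠ r) (hr5 : 5 ≤ r)
    (hbq : ∀ u g : Q, b u g ^ q = 1) {y : H} (hy : y ^ r = 1)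
    (hk : Module.finrank F (LinearMap.range (σ y - 1)) ≤ 2) {u₀ : Q}
    (hu₀ : cj y (b u₀) ≠ b u₀) : False := by
  classical
  letI : MulAction H (Q →* Fˣ) := charAction
  have hyo : orderOf y = r := by
    refine orderOf_eq_prime hy fun h1 => hu₀ ?_
    rw [h1, cj_one]
  haveI : CharP (Module.End F W) r :=
    charP_of_injective_algebraMap (algebraMap F (Module.End F W)).injective r
  set N := σ y - 1 with hNdef
  have hNr : IsNilpotent N := by
    refine ⟨r, ?_⟩
    rw [hNdef, sub_pow_char_of_commute _ (Commute.one_right _), ← map_pow, hy, map_one, one_pow,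
      sub_self]
  set R₀ := LinearMap.range N with hR₀
  have hinv0 : R₀.map N ≤ R₀ := LinearMap.map_le_range
  have hinv1 : (R₀.map N).map N ≤ R₀.map N := Submodule.map_mono hinv0
  have hr1 : Module.finrank F (R₀.map N) ≤ 1 := by
    by_cases h : R₀ = ⊥
    · rw [h, Submodule.map_bot, finrank_bot]; omega
    · have := finrank_map_lt hNr hinv0 h; omega
  have hr2 : (R₀.map N).map N = ⊥ := by
    by_cases h : R₀.map N = ⊥
    · rw [h, Submodule.map_bot]
    · have := finrank_map_lt hNr hinv1 h
      exact Submodule.finrank_eq_zero.1 (by omega)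
  have hN3 : N ^ 3 = 0 := by
    refine LinearMap.ext fun v => ?_
    have hm : (N ^ 3) v ∈ (R₀.map N).map N :=
      ⟨_, ⟨_, LinearMap.mem_range_self N v, rfl⟩, by rw [pow_succ', pow_two]; rfl⟩
    rw [hr2] at hm
    exact (Submodule.mem_bot F).1 hm
  set Y' := σ y⁻¹ with hY'
  set N' := Y' - 1 with hN'def
  have hYY : Y' * σ y = 1 := by rw [hY', ← map_mul, inv_mul_cancel, map_one]
  have hYY' : σ y * Y' = 1 := by rw [hY', ← map_mul, mul_inv_cancel, map_one]
  have hN'eq : N' = -Y' * N := by rw [neg_mul, hNdef, mul_sub, hYY, mul_one, hN'def]; abel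
  have hcom : Commute (-Y') N := by
    rw [hNdef]
    exact (Commute.neg_left (show Commute Y' (σ y) from hYY.trans hYY'.symm)).sub_right
      (Commute.one_right _)
  have hN'3 : N' ^ 3 = 0 := by rw [hN'eq, hcom.mul_pow, hN3, mul_zero]
  set L := LinearMap.mulLeft F (σ y) with hL
  set R := LinearMap.mulRight F Y' with hR
  have hLR : Commute L R := LinearMap.commute_mulLeft_right _ _
  have hL1 : L - 1 = LinearMap.mulLeft F N := by
    refine LinearMap.ext fun X => ?_
    simp [hL, hNdef, sub_mul]
  have hR1 : R - 1 = LinearMap.mulRight F N' := by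
    refine LinearMap.ext fun X => ?_
    simp [hR, hN'def, mul_sub]
  set a := (L - 1) * R with ha
  set c := R - 1 with hc
  have hac : Commute a c :=
    (((hLR.sub_left (Commute.one_left _)).sub_right (Commute.one_right _)).mul_left
      ((Commute.refl R).sub_right (Commute.one_right _)))
  have ha3 : a ^ 3 = 0 := by
    rw [ha, (hLR.sub_left (Commute.one_left _)).mul_pow, hL1, LinearMap.pow_mulLeft, hN3,
      LinearMap.mulLeft_zero_eq_zero, zero_mul]
  have hc3 : c ^ 3 = 0 := by
    rw [hR1, LinearMap.pow_mulRight, hN'3, LinearMap.mulRight_zero_eq_zero]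
  set f := L * R - 1 with hf
  have hfac : f = a + c := by rw [ha, hc, hf, sub_mul, one_mul]; abel
  have horbit : ∀ (u : Q) (i : ℕ), ((L * R) ^ i) (σ (u : H)) =
      σ ((MulAut.conjNormal (y ^ i) u : Q) : H) := by
    intro u i
    induction i with
    | zero => simp
    | succ k ih =>
      rw [pow_succ', Module.End.mul_apply, ih, MulAut.conjNormal_apply, MulAut.conjNormal_apply]
      simp only [hL, hR, hY', Module.End.mul_apply, LinearMap.mulLeft_apply,
        LinearMap.mulRight_apply, ← map_mul]
      congr 1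
      rw [pow_succ']; group
  have hdist : ∀ (u : Q), cj y (b u) ≠ b u → ∀ i j : ℕ, i < j → j < r →
      b (MulAut.conjNormal (y ^ i) u) ≠ b (MulAut.conjNormal (y ^ j) u) := by
    intro u hu i j hij hjr h
    rw [hb.equivariant, hb.equivariant, show j = i + (j - i) by omega, pow_add, cj_mul] at h
    have h' : y ^ (j - i) • b u = b u := (smul_left_cancel (y ^ i) h).symm
    refine hu (pow_coprime_fix ?_ h')
    rw [hyo]
    exact ((Nat.Prime.coprime_iff_not_dvd hr.out).2 fun hd => by
      have := Nat.le_of_dvd (by omega) hd; omega).symm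
  rcases eq_or_lt_of_le hr5 with h5 | h6
  swap
  · have h7 : 7 ≤ r := by
      by_contra hh
      obtain rfl : r = 6 := by omega
      exact absurd hr.out (by norm_num)
    have hf5 : f ^ 5 = 0 := by
      rw [hfac]
      exact hac.add_pow_eq_zero_of_add_le_succ_of_pow_eq_zero ha3 hc3 le_rfl
    have hinj : Function.Injective fun i : Fin 6 => b (MulAut.conjNormal (y ^ (i : ℕ)) u₀) := by
      intro i j h
      by_contra hne
      rcases Ne.lt_or_gt (fun e => hne (Fin.ext e) : (i : ℕ) ≠ j) with hlt | hlt
      · exact hdist u₀ hu₀ i j hlt (by omega) h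
      · exact hdist u₀ hu₀ j i hlt (by omega) h.symm
    have hli := hb.linearIndependent _ hinj
    have h0 := congrArg (fun T => T (σ (u₀ : H))) hf5
    have hexp : (f ^ 5) (σ (u₀ : H)) = ((L * R) ^ 5) (σ (u₀ : H))
        + (-5 : F) • ((L * R) ^ 4) (σ (u₀ : H)) + (10 : F) • ((L * R) ^ 3) (σ (u₀ : H))
        + (-10 : F) • ((L * R) ^ 2) (σ (u₀ : H)) + (5 : F) • ((L * R) ^ 1) (σ (u₀ : H))
        + (-1 : F) • ((L * R) ^ 0) (σ (u₀ : H)) := by
      rw [hf]
      simp only [pow_succ', pow_zero, Module.End.mul_apply, Module.End.one_apply,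
        LinearMap.sub_apply, map_sub]
      module
    simp only [hexp, horbit, LinearMap.zero_apply] at h0
    have := Fintype.linearIndependent_iff.1 hli ![-1, 5, -10, 10, -5, 1] (by
      rw [← h0]
      simp only [Fin.sum_univ_six, Matrix.cons_val_zero, Matrix.cons_val_one, Matrix.cons_val,
        Fin.val_zero, Fin.val_one, Fin.val_two, one_smul]
      simp only [show ((3 : Fin 6) : ℕ) = 3 from rfl, show ((4 : Fin 6) : ℕ) = 4 from rfl,
        show ((5 : Fin 6) : ℕ) = 5 from rfl]
      module) 5
    simp at this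
  obtain rfl : r = 5 := h5.symm
  have hc4 : c ^ 4 = 0 := by rw [pow_succ, hc3, zero_mul]
  have ha4 : a ^ 4 = 0 := by rw [pow_succ, ha3, zero_mul]
  have hf4 : ∀ X, (f ^ 4) X = (6 : F) • (N ^ 2 * (X * (N' ^ 2 * Y' ^ 2))) := by
    intro X
    have e : f ^ 4 = (6 : ℕ) • (a ^ 2 * c ^ 2) := by
      rw [hfac, hac.add_pow]
      simp [Finset.sum_range_succ, ha4, ha3, hc4, hc3, Nat.choose, nsmul_eq_mul]
      noncomm_ring
    rw [e, LinearMap.smul_apply, ← Nat.cast_smul_eq_nsmul F]
    congr 1
    rw [ha, (hLR.sub_left (Commute.one_left _)).mul_pow, hL1, hR1, hR,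
      LinearMap.pow_mulLeft, LinearMap.pow_mulRight, LinearMap.pow_mulRight]
    simp only [Module.End.mul_apply, LinearMap.mulLeft_apply, LinearMap.mulRight_apply,
      mul_assoc]
  set A₁ := N ^ 2 with hA₁
  set A₂ := N' ^ 2 * Y' ^ 2 with hA₂
  have hA₁r : Module.finrank F (LinearMap.range A₁) ≤ 1 := by
    rw [hA₁, pow_two, Module.End.mul_eq_comp, LinearMap.range_comp]
    exact hr1
  have hA₂r : Module.finrank F (LinearMap.range A₂) ≤ 1 := by
    refine (Submodule.finrank_mono (LinearMap.range_comp_le_range _ _)).trans ?_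
    rw [hN'eq, hcom.mul_pow, Module.End.mul_eq_comp, LinearMap.range_comp]
    exact (Submodule.finrank_map_le _ _).trans hA₁r
  -- no two orbits of moved elements
  have hone : ∀ u v : Q, cj y (b u) ≠ b u → cj y (b v) ≠ b v →
      ∃ i : Fin 5, b v = b (MulAut.conjNormal (y ^ (i : ℕ)) u) := by
    intro u v hu hv
    by_contra hno
    push Not at hno
    have hinj : Function.Injective fun k : Fin 5 ⊕ Fin 5 =>
        b (Sum.elim (fun i : Fin 5 => MulAut.conjNormal (y ^ (i : ℕ)) u)
          (fun i : Fin 5 => MulAut.conjNormal (y ^ (i : ℕ)) v) k) := by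
      have hs : ∀ (t : Q), cj y (b t) ≠ b t → ∀ i j : Fin 5,
          b (MulAut.conjNormal (y ^ (i : ℕ)) t) = b (MulAut.conjNormal (y ^ (j : ℕ)) t) → i = j := by
        intro t ht i j h
        by_contra hne
        rcases Ne.lt_or_gt (fun e => hne (Fin.ext e) : (i : ℕ) ≠ j) with hlt | hlt
        · exact hdist t ht i j hlt (by omega) h
        · exact hdist t ht j i hlt (by omega) h.symm
      have hx : ∀ i j : Fin 5,
          b (MulAut.conjNormal (y ^ (j : ℕ)) v) ≠ b (MulAut.conjNormal (y ^ (i : ℕ)) u) := by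
        intro i j h
        have hlt : ((i : ℕ) + (5 - (j : ℕ))) % 5 < 5 := Nat.mod_lt _ (by norm_num)
        refine hno ⟨_, hlt⟩ ?_
        rw [hb.equivariant, hb.equivariant] at h
        rw [hb.equivariant]
        have h2 := congrArg (cj (y ^ (5 - (j : ℕ)))) h
        rw [← cj_mul, ← cj_mul, ← pow_add, ← pow_add, Nat.sub_add_cancel j.2.le, hy, cj_one,
          pow_eq_pow_mod _ hy, add_comm] at h2
        exact h2
      rintro (i | i) (j | j) h
      · exact congrArg Sum.inl (hs u hu i j h)
      · exact absurd h.symm (hx i j)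
      · exact absurd h (hx j i)
      · exact congrArg Sum.inr (hs v hv i j h)
    have hli := hb.linearIndependent _ hinj
    have hexp : ∀ t : Q, (f ^ 4) (σ (t : H)) =
        ∑ i : Fin 5, (![1, -4, 6, -4, 1] i : F) •
          σ ((MulAut.conjNormal (y ^ (i : ℕ)) t : Q) : H) := by
      intro t
      simp only [Fin.sum_univ_five, Matrix.cons_val_zero, Matrix.cons_val_one, Matrix.cons_val,
        Fin.val_zero, Fin.val_one, Fin.val_two, show ((3 : Fin 5) : ℕ) = 3 from rfl,
        show ((4 : Fin 5) : ℕ) = 4 from rfl, ← horbit, hf]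
      simp only [pow_succ', pow_zero, Module.End.mul_apply, Module.End.one_apply,
        LinearMap.sub_apply, map_sub]
      module
    obtain ⟨α, β, hαβ, hdep⟩ : ∃ α β : F, (α ≠ 0 ∨ β ≠ 0) ∧
        α • (f ^ 4) (σ (u : H)) + β • (f ^ 4) (σ (v : H)) = 0 := by
      by_cases hx0 : (f ^ 4) (σ (u : H)) = 0
      · exact ⟨1, 0, Or.inl one_ne_zero, by rw [hx0]; simp⟩
      rw [hf4] at hx0 ⊢
      rw [hf4]
      obtain ⟨v₀, hv₀⟩ : ∃ v₀, A₂ v₀ ≠ 0 := by
        by_contra hh
        push Not at hh
        have : A₂ = 0 := LinearMap.ext hh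
        exact hx0 (by rw [this]; simp)
      have hsp : LinearMap.range A₂ = F ∙ A₂ v₀ := by
        refine (Submodule.eq_of_le_of_finrank_le ?_ ?_).symm
        · rw [Submodule.span_singleton_le_iff_mem]
          exact LinearMap.mem_range_self _ _
        · rw [finrank_span_singleton hv₀]; exact hA₂r
      have hcoef : ∀ z, ∃ μ : F, A₂ z = μ • A₂ v₀ := fun z => by
        have := LinearMap.mem_range_self A₂ z
        rw [hsp, Submodule.mem_span_singleton] at this
        obtain ⟨μ, hμ⟩ := this
        exact ⟨μ, hμ.symm⟩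
      have hval : ∀ (X : Module.End F W) (z : W) (μ : F), A₂ z = μ • A₂ v₀ →
          ((6 : F) • (A₁ * (X * A₂))) z = μ • ((6 : F) • (A₁ * (X * A₂))) v₀ := by
        intro X z μ hμ
        simp only [LinearMap.smul_apply, Module.End.mul_apply]
        rw [hμ, map_smul, map_smul, smul_comm]
      set x₁ := ((6 : F) • (A₁ * (σ (u : H) * A₂))) v₀ with hx₁
      set x₂ := ((6 : F) • (A₁ * (σ (v : H) * A₂))) v₀ with hx₂
      have hx₁0 : x₁ ≠ 0 := by
        intro h
        refine hx0 (LinearMap.ext fun z => ?_)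
        obtain ⟨μ, hμ⟩ := hcoef z
        rw [hval _ z μ hμ, ← hx₁, h, smul_zero, LinearMap.zero_apply]
      have hmem : ∀ X : Module.End F W,
          ((6 : F) • (A₁ * (X * A₂))) v₀ ∈ LinearMap.range A₁ := fun X =>
        Submodule.smul_mem _ _ (LinearMap.mem_range_self _ _)
      have hsp₁ : LinearMap.range A₁ = F ∙ x₁ := by
        refine (Submodule.eq_of_le_of_finrank_le ?_ ?_).symm
        · rw [Submodule.span_singleton_le_iff_mem]
          exact hmem _
        · rw [finrank_span_singleton hx₁0]; exact hA₁r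
      obtain ⟨κ, hκ⟩ := Submodule.mem_span_singleton.1 (hsp₁ ▸ hmem (σ (v : H)))
      refine ⟨κ, -1, Or.inr (neg_ne_zero.2 one_ne_zero), LinearMap.ext fun z => ?_⟩
      obtain ⟨μ, hμ⟩ := hcoef z
      change κ • ((6 : F) • (A₁ * (σ (u : H) * A₂))) z +
        (-1 : F) • ((6 : F) • (A₁ * (σ (v : H) * A₂))) z = 0
      rw [hval _ z μ hμ, hval _ z μ hμ, ← hx₁, ← hκ]
      module
    rw [hexp, hexp, Finset.smul_sum, Finset.smul_sum] at hdep
    simp only [smul_smul] at hdep
    have h4 := Fintype.linearIndependent_iff.1 hli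
      (Sum.elim (fun i => α * ![1, -4, 6, -4, 1] i) (fun i => β * ![1, -4, 6, -4, 1] i))
      (by rw [Fintype.sum_sum_type]; simpa using hdep)
    rcases hαβ with h | h
    · exact h (by simpa using h4 (Sum.inl 4))
    · exact h (by simpa using h4 (Sum.inr 4))
  -- counting
  haveI : Finite b.range := Finite.of_surjective _ b.rangeRestrict_surjective
  let Fx : Subgroup (Q →* Fˣ) :=
    { carrier := {e | e ∈ b.range ∧ cj y e = e}
      one_mem' := ⟨one_mem _, cj_hom_one y⟩
      mul_mem' := fun {e e'} he he' => ⟨mul_mem he.1 he'.1, by rw [cj_hom_mul, he.2, he'.2]⟩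
      inv_mem' := fun {e} he => ⟨inv_mem he.1, by rw [cj_hom_inv, he.2]⟩ }
  have hpE : ∀ S : Subgroup (Q →* Fˣ), S ≤ b.range → ∃ m, Nat.card S = q ^ m := by
    intro S hS
    haveI : Finite S := Finite.of_injective _ (Subgroup.inclusion_injective hS)
    refine IsPGroup.iff_card.1 fun e => ⟨1, Subtype.ext (MonoidHom.ext fun g => ?_)⟩
    obtain ⟨u, hu⟩ := hS e.2
    simp [← hu, hbq]
  obtain ⟨m, hm⟩ := hpE b.range le_rfl
  obtain ⟨j, hj⟩ := hpE Fx fun e he => he.1
  let orb : Fin 5 → (Q →* Fˣ) := fun i => b (MulAut.conjNormal (y ^ (i : ℕ)) u₀)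
  have hset : (b.range : Set (Q →* Fˣ)) = (Fx : Set (Q →* Fˣ)) ∪ Set.range orb := by
    ext e
    constructor
    · rintro ⟨v, rfl⟩
      by_cases hv : cj y (b v) = b v
      · exact Or.inl ⟨⟨v, rfl⟩, hv⟩
      · obtain ⟨i, hi⟩ := hone u₀ v hu₀ hv
        exact Or.inr ⟨i, hi.symm⟩
    · rintro (h | ⟨i, rfl⟩)
      · exact h.1
      · exact ⟨_, rfl⟩
  have horb : ∀ i, cj y (orb i) ≠ orb i := by
    intro i h
    simp only [orb, hb.equivariant] at h
    rw [← cj_mul, ← pow_succ', pow_succ, cj_mul] at h
    exact hu₀ (smul_left_cancel (y ^ (i : ℕ)) h)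
  have hinj : Function.Injective orb := by
    intro i j h
    by_contra hne
    rcases Ne.lt_or_gt (fun e => hne (Fin.ext e) : (i : ℕ) ≠ j) with hlt | hlt
    · exact hdist u₀ hu₀ i j hlt (by omega) h
    · exact hdist u₀ hu₀ j i hlt (by omega) h.symm
  have hcard : q ^ m = q ^ j + 5 := by
    rw [← hm, ← hj, ← SetLike.coe_sort_coe b.range, Nat.card_coe_set_eq, hset]
    rw [Set.ncard_union_eq ?_ ?_ ?_, Set.ncard_range_of_injective hinj, Nat.card_fin]
    · rfl
    · rw [Set.disjoint_left]
      rintro e he ⟨i, rfl⟩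
      exact horb i he.2
    · exact Set.toFinite (Fx : Set (Q →* Fˣ)) |>.subset le_rfl
    · exact Set.finite_range _
  have hq5 : q ≠ 5 := hqr
  rcases Nat.eq_zero_or_pos j with rfl | hj0
  · have h6 : q ^ m = 6 := by rw [pow_zero] at hcard; omega
    have hqd : q ∣ 6 := h6 ▸ dvd_pow_self q (by rintro rfl; simp at h6)
    have hq23 : q = 2 ∨ q = 3 := by
      have := Nat.le_of_dvd (by norm_num) hqd
      have := hq.out.two_le
      interval_cases q <;> first | omega | exact absurd hq.out (by norm_num)
    have hm3 : m ≤ 2 := by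
      by_contra hh
      have : 2 ^ 3 ≤ q ^ m := (Nat.pow_le_pow_left hq.out.two_le 3).trans
        (Nat.pow_le_pow_right hq.out.pos (by omega))
      omega
    rcases hq23 with rfl | rfl <;> interval_cases m <;> omega
  · have hmj : 0 < m := by
      rcases Nat.eq_zero_or_pos m with rfl | h
      · simp at hcard
      · exact h
    have hd : q ∣ 5 := by
      have h1 : q ∣ q ^ m := dvd_pow_self q (by omega)
      rw [hcard] at h1
      exact (Nat.dvd_add_right (dvd_pow_self q (by omega))).1 h1
    exact hq5 ((Nat.prime_dvd_prime_iff_eq hq.out (by norm_num)).1 hd)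

end Component

end CfsgLib.SFT
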