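import Cfsg.Agent.SFT.RankComponent

/-!
The two small cases of a component: `r = 2, q = 3` and `r = 3, q = 2`.
-/

set_option autoImplicit false
set_option linter.style.haveILetI false
set_option linter.deprecated false
set_option linter.unusedSectionVars false

namespace CfsgLib.SFT

open Subgroup Wt

variable {F : Type*} [Field F] {W : Type*} [AddCommGroup W] [Module F W] [FiniteDimensional F W]
  [Nontrivial W] {H : Type*} [Group H] [Finite H] {σ : H →* Module.End F W} {Q : Subgroup H}
  [Q.Normal] {b : Q →* (Q →* Fˣ)}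

theorem comm_eq_div (hb : Rel σ b) (y : H) (u : Q) :
    b (MulAut.conjNormal y u * u⁻¹) = cj y (b u) / b u := by
  rw [map_mul, map_inv, hb.equivariant]
  exact (div_eq_mul_inv (cj y (b u)) (b u)).symm

theorem exists_comm_pairing (hb : Rel σ b) {y : H} {u : Q} (hu : cj y (b u) ≠ b u) :
    ∃ g : Q, b (MulAut.conjNormal y u * u⁻¹) g ≠ 1 := by
  by_contra hno
  push Not at hno
  refine hu (div_eq_one.1 ?_)
  rw [← comm_eq_div hb y u]
  exact MonoidHom.ext hno

theorem dim_small_two (hb : Rel σ b) (hbq : ∀ u g : Q, b u g ^ 3 = 1) (h3 : (3 : F) ≠ 0) {y : H}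
    (hk : Module.finrank F (LinearMap.range (σ y - 1)) ≤ 1) {u₀ : Q}
    (hu₀ : cj y (b u₀) ≠ b u₀) :
    Module.finrank F W ≤ 3 ∧ Nat.card b.range ∈ ({1, 2, 3, 4, 9} : Set ℕ) := by
  obtain ⟨g, hg⟩ := exists_comm_pairing hb hu₀
  set c := MulAut.conjNormal y u₀ * u₀⁻¹ with hc
  have hcc : (c : H) = y * (u₀ : H) * y⁻¹ * (u₀ : H)⁻¹ := by
    rw [hc, Subgroup.coe_mul, Subgroup.coe_inv, MulAut.conjNormal_apply]
  set a : F := (((b c g)⁻¹ : Fˣ) : F) with ha
  have ha3 : a ^ 3 = 1 := by
    rw [ha, ← Units.val_pow_eq_pow_val, inv_pow, hbq, inv_one, Units.val_one]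
  have ha1 : a ≠ 1 := by
    rw [ha, Ne, Units.val_eq_one, inv_eq_one]
    exact hg
  have ha2 : 1 + a + a ^ 2 = 0 := by
    have : (a - 1) * (1 + a + a ^ 2) = 0 := by linear_combination ha3
    exact (mul_eq_zero.1 this).resolve_left (sub_ne_zero.2 ha1)
  have hcg : σ (c : H) * σ (g : H) = a • (σ (g : H) * σ (c : H)) := by
    rw [hb c g, smul_smul, ha, ← Units.val_mul, inv_mul_cancel, Units.val_one, one_smul]
  set K := LinearMap.ker (σ (c : H) - 1) with hK
  have hmem : ∀ v ∈ K, σ (c : H) v = v := fun v hv => by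
    have := LinearMap.mem_ker.1 hv
    rwa [LinearMap.sub_apply, Module.End.one_apply, sub_eq_zero] at this
  have hshift : ∀ v, σ (c : H) (σ (g : H) v) = a • σ (g : H) (σ (c : H) v) := fun v => by
    rw [← Module.End.mul_apply, hcg]; rfl
  let Φ : (K × K) × K →ₗ[F] W :=
    LinearMap.coprod (LinearMap.coprod K.subtype ((σ (g : H)).comp K.subtype))
      (((σ (g : H)).comp (σ (g : H))).comp K.subtype)
  have hΦ : Function.Injective Φ := by
    rw [← LinearMap.ker_eq_bot, LinearMap.ker_eq_bot']
    rintro ⟨⟨⟨x, hx⟩, ⟨u, hu⟩⟩, ⟨w, hw⟩⟩ h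
    have h0 : x + σ (g : H) u + σ (g : H) (σ (g : H) w) = 0 := h
    have h1 := congrArg (σ (c : H)) h0
    have h2 := congrArg (σ (c : H)) h1
    simp only [map_add, map_zero, map_smul, hshift, hmem x hx, hmem u hu, hmem w hw, smul_smul]
      at h1 h2
    have e0 : (1 + a + a ^ 2) • σ (g : H) u = 0 := by rw [ha2, zero_smul]
    have e0' : (1 + a + a ^ 2) • σ (g : H) (σ (g : H) w) = 0 := by rw [ha2, zero_smul]
    have e1 : (a ^ 3 - 1) • σ (g : H) (σ (g : H) w) = 0 := by rw [ha3, sub_self, zero_smul]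
    have hx0 : x = 0 := by
      have : (3 : F) • x = 0 := by
        linear_combination (norm := module) h0 + h1 + h2 - e0 - e0' - a • e1
      exact (smul_eq_zero.1 this).resolve_left h3
    have hu0 : σ (g : H) u = 0 := by
      have : (a - a * a) • σ (g : H) u = 0 := by
        subst hx0
        linear_combination (norm := module) h1 - (a * a) • h0
      refine (smul_eq_zero.1 this).resolve_left ?_
      intro hz
      have : a * (1 - a) = 0 := by linear_combination hz
      rcases mul_eq_zero.1 this with h' | h'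
      · rw [h'] at ha3; simp at ha3
      · exact ha1 (by linear_combination -h')
    have hw0 : σ (g : H) (σ (g : H) w) = 0 := by simpa [hx0, hu0] using h0
    have hinj : ∀ v, σ (g : H) v = 0 → v = 0 := fun v hv => by
      by_contra hv'
      exact map_ne_zero (ρ := σ) (g : H) hv' hv
    simp [hx0, hinj u hu0, hinj w (hinj _ hw0)]
  have hdim := LinearMap.finrank_le_finrank_of_injective hΦ
  simp only [Module.finrank_prod] at hdim
  have hrn := LinearMap.finrank_range_add_finrank_ker (σ (c : H) - 1)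
  have hle := finrank_comm_sub_one_le (σ := σ) y (u₀ : H)
  rw [← hcc] at hle
  rw [← hK] at hrn
  have hn : Module.finrank F W ≤ 3 := by omega
  refine ⟨hn, ?_⟩
  have hle' := hb.card_range_le.trans (Nat.mul_le_mul hn hn)
  haveI : Finite b.range := Finite.of_surjective _ b.rangeRestrict_surjective
  have hp : IsPGroup 3 b.range := fun e => ⟨1, Subtype.ext (MonoidHom.ext fun t => by
    obtain ⟨u, hu⟩ := e.2
    simp [← hu, hbq])⟩
  haveI : Fact (Nat.Prime 3) := ⟨Nat.prime_three⟩
  obtain ⟨m, hm⟩ := IsPGroup.iff_card.1 hp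
  rw [hm] at hle' ⊢
  have : m ≤ 2 := by
    by_contra hh
    have := Nat.pow_le_pow_right (show 3 > 0 by norm_num) (show 3 ≤ m by omega)
    omega
  interval_cases m <;> norm_num

/-- A coprime element acts trivially on a small pairing group. -/
theorem cj_eq_self_of_small (hb : Rel σ b) {p : ℕ} [Fact p.Prime] (hp5 : 5 ≤ p)
    (hE : Nat.card b.range ∈ ({1, 2, 3, 4, 9} : Set ℕ)) {a : H} (ha : a ^ p = 1) (u : Q) :
    cj a (b u) = b u := by
  haveI : Finite b.range := Finite.of_surjective _ b.rangeRestrict_surjective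
  have hst : ∀ (h : H) (e : Q →* Fˣ), e ∈ b.range → cj h e ∈ b.range := by
    rintro h _ ⟨v, rfl⟩
    exact ⟨_, hb.equivariant h v⟩
  let f : MulAut b.range :=
    { toFun := fun e => ⟨cj a e, hst a e e.2⟩
      invFun := fun e => ⟨cj a⁻¹ e, hst a⁻¹ e e.2⟩
      left_inv := fun e => Subtype.ext (by
        show cj a⁻¹ (cj a (e : Q →* Fˣ)) = e
        rw [← cj_mul, inv_mul_cancel, cj_one])
      right_inv := fun e => Subtype.ext (by
        show cj a (cj a⁻¹ (e : Q →* Fˣ)) = e
        rw [← cj_mul, mul_inv_cancel, cj_one])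
      map_mul' := fun e e' => Subtype.ext (MonoidHom.ext fun _ => rfl) }
  have hpow : ∀ (i : ℕ) (e : b.range), ((f ^ i) e : Q →* Fˣ) = cj (a ^ i) e := by
    intro i
    induction i with
    | zero => intro e; rw [pow_zero, pow_zero, cj_one]; rfl
    | succ k ih =>
      intro e
      rw [pow_succ, MulAut.mul_apply, ih, pow_succ, cj_mul]
      rfl
  have hf : f = 1 := small_aut hp5 hE f (MulEquiv.ext fun e => Subtype.ext (by
    rw [hpow, ha, cj_one]; rfl))
  exact congrArg Subtype.val (DFunLike.congr_fun hf ⟨b u, u, rfl⟩)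

theorem dim_small_three (hb : Rel σ b) (hbq : ∀ u g : Q, b u g ^ 2 = 1) (h2 : (2 : F) ≠ 0)
    (hsq : ∀ u : Q, ∃ ε : F, ε * ε = 1 ∧ σ (u : H) * σ (u : H) = ε • (1 : Module.End F W))
    {y : H} (hy : y ^ 3 = 1) {u₀ : Q} (hu₀ : cj y (b u₀) ≠ b u₀) :
    Even (Module.finrank F W) ∧
      3 * Module.finrank F W ≤ 8 * Module.finrank F (LinearMap.range (σ y - 1)) := by
  classical
  obtain ⟨g, hg⟩ := exists_comm_pairing hb hu₀
  set c := MulAut.conjNormal y u₀ * u₀⁻¹ with hc
  have hcc : (c : H) = y * (u₀ : H) * y⁻¹ * (u₀ : H)⁻¹ := by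
    rw [hc, Subgroup.coe_mul, Subgroup.coe_inv, MulAut.conjNormal_apply]
  have hval : ∀ (u v : Q), ((b u v : Fˣ) : F) = 1 ∨ ((b u v : Fˣ) : F) = -1 := fun u v => by
    refine sq_eq_one_iff.1 ?_
    rw [← Units.val_pow_eq_pow_val, hbq, Units.val_one]
  have hneg : (-1 : F) ≠ 1 := fun h => h2 (by linear_combination -h)
  have hgm : ((b c g : Fˣ) : F) = -1 :=
    (hval c g).resolve_left (fun h => hg (Units.val_eq_one.1 h))
  have hanti : σ (g : H) * σ (c : H) = (-1 : F) • (σ (c : H) * σ (g : H)) := by rw [hb c g, hgm]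
  have heven : Even (Module.finrank F W) := by
    have hd := congrArg LinearMap.det hanti
    rw [LinearMap.det_smul, map_mul, map_mul, mul_comm (LinearMap.det (σ (c : H)))] at hd
    have hunit : ∀ h : H, LinearMap.det (σ h) ≠ 0 := fun h h0 => by
      have h1 : LinearMap.det (σ h * σ h⁻¹) = 1 := by rw [← map_mul, mul_inv_cancel, map_one, map_one]
      rw [map_mul, h0, zero_mul] at h1
      exact zero_ne_one h1
    have h1 : (-1 : F) ^ Module.finrank F W = 1 :=
      (mul_eq_right₀ (mul_ne_zero (hunit _) (hunit _))).1 hd.symm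
    rcases Nat.even_or_odd (Module.finrank F W) with h | h
    · exact h
    · exact absurd (h.neg_one_pow.symm.trans h1) hneg
  refine ⟨heven, ?_⟩
  set k := Module.finrank F (LinearMap.range (σ y - 1)) with hk
  have hle := finrank_comm_sub_one_le (σ := σ) y (u₀ : H)
  rw [← hcc, ← hk] at hle
  obtain ⟨ε, hε, hcsq⟩ := hsq c
  rcases (mul_self_eq_one_iff.1 hε) with rfl | rfl
  swap
  · have hinj : LinearMap.ker (σ (c : H) - 1) = ⊥ := by
      rw [LinearMap.ker_eq_bot']
      intro v hv
      have h1 : σ (c : H) v = v := by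
        rwa [LinearMap.sub_apply, Module.End.one_apply, sub_eq_zero] at hv
      have h3 := congrArg (fun T : Module.End F W => T v) hcsq
      simp only [Module.End.mul_apply, h1, LinearMap.smul_apply, Module.End.one_apply] at h3
      have : (2 : F) • v = 0 := by linear_combination (norm := module) h3
      exact (smul_eq_zero.1 this).resolve_left h2
    have hrn := LinearMap.finrank_range_add_finrank_ker (σ (c : H) - 1)
    rw [hinj, finrank_bot] at hrn
    omega
  set c₂ := MulAut.conjNormal y c with hc₂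
  set c₃ := MulAut.conjNormal y c₂ with hc₃
  let cc : Fin 3 → Q := ![c, c₂, c₃]
  have hprod : ∀ t : Q,
      ((b c t : Fˣ) : F) * ((b c₂ t : Fˣ) : F) * ((b c₃ t : Fˣ) : F) = 1 := by
    intro t
    rw [← Units.val_mul, ← Units.val_mul, Units.val_eq_one, ← MonoidHom.mul_apply,
      ← MonoidHom.mul_apply, ← map_mul, ← map_mul]
    have e : b (c * c₂ * c₃) = 1 := by
      rw [map_mul, map_mul, hc₃, hb.equivariant y c₂, hc₂, hb.equivariant y c, hc, comm_eq_div hb,
        cj_hom_div, cj_hom_div, ← cj_mul, ← cj_mul, ← pow_two, ← pow_succ', hy, cj_one]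
      have e3 : ∀ α β γ : Q →* Fˣ, α / γ * (β / α) * (γ / β) = 1 := fun α β γ => by
        refine MonoidHom.ext fun s => ?_
        simp
      exact e3 _ _ _
    rw [e, MonoidHom.one_apply]
  have hrot : ∀ u v : Q, b (MulAut.conjNormal y u) (MulAut.conjNormal y v) = b u v := by
    intro u v
    rw [hb.equivariant, cj_apply]
    congr 1
    refine Subtype.ext ?_
    rw [MulAut.conjNormal_apply, MulAut.conjNormal_apply]
    group
  have hc₄ : MulAut.conjNormal y c₃ = c := by
    rw [hc₃, hc₂, ← MulAut.mul_apply, ← MulAut.mul_apply, ← map_mul, ← map_mul, mul_assoc,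
      ← pow_three, hy, map_one, MulAut.one_apply]
  set g₂ := MulAut.conjNormal y g with hg₂
  set g₃ := MulAut.conjNormal y g₂ with hg₃
  have hg₄ : MulAut.conjNormal y g₃ = g := by
    rw [hg₃, hg₂, ← MulAut.mul_apply, ← MulAut.mul_apply, ← map_mul, ← map_mul, mul_assoc,
      ← pow_three, hy, map_one, MulAut.one_apply]
  let sgn : Bool → F := fun x => if x then -1 else 1
  obtain ⟨hh, hhh⟩ : ∃ hh : Fin 4 → Q, ∀ (j : Fin 4) (i : Fin 3),
      ((b (cc i) (hh j) : Fˣ) : F) = sgn (decide (j ≠ 0 ∧ (j : ℕ) ≠ (i : ℕ) + 1)) := by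
    have r12 : b c₂ g₂ = b c g := hrot c g
    have r13 : b c₃ g₃ = b c g := (hrot c₂ g₂).trans r12
    have r22 : b c₃ g₂ = b c₂ g := hrot c₂ g
    have r23 : b c g₃ = b c₂ g := by
      have := hrot c₃ g₂
      rw [hc₄] at this
      exact this.trans r22
    have r33 : b c₂ g₃ = b c₃ g := by
      have h1 := hrot c₂ g₃
      rw [hg₄] at h1
      exact h1.symm
    have r32 : b c g₂ = b c₃ g := by
      have := hrot c₃ g
      rwa [hc₄] at this
    have h1 := hprod g
    rw [hgm] at h1
    rcases hval c₂ g with h | h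
    · have h' : ((b c₃ g : Fˣ) : F) = -1 := by rw [h] at h1; linear_combination -h1
      refine ⟨![1, g₃, g, g₂], fun j i => ?_⟩
      fin_cases j <;> fin_cases i <;>
        simp [cc, sgn, r12, r13, r22, r23, r32, r33, hgm, h, h']
    · have h' : ((b c₃ g : Fˣ) : F) = 1 := by rw [h] at h1; linear_combination h1
      refine ⟨![1, g₂, g₃, g], fun j i => ?_⟩
      fin_cases j <;> fin_cases i <;>
        simp [cc, sgn, r12, r13, r22, r23, r32, r33, hgm, h, h']
  set Ep := LinearMap.ker (σ (c : H) - 1) with hEp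
  set Em := LinearMap.ker (σ (c : H) + 1) with hEm
  have hEpmem : ∀ v, v ∈ Ep ↔ σ (c : H) v = v := fun v => by
    rw [hEp, LinearMap.mem_ker, LinearMap.sub_apply, Module.End.one_apply, sub_eq_zero]
  have hEmmem : ∀ v, v ∈ Em ↔ σ (c : H) v = -v := fun v => by
    rw [hEm, LinearMap.mem_ker, LinearMap.add_apply, Module.End.one_apply,
      add_eq_zero_iff_eq_neg]
  have hgc : ∀ v, σ (c : H) (σ (g : H) v) = -σ (g : H) (σ (c : H) v) := fun v => by
    have := congrArg (fun T : Module.End F W => T v) hanti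
    simp only [neg_one_smul, LinearMap.neg_apply, Module.End.mul_apply] at this
    rw [this, neg_neg]
  have hginj : Function.Injective (σ (g : H)) := by
    rw [← LinearMap.ker_eq_bot, LinearMap.ker_eq_bot']
    intro v hv
    by_contra h
    exact map_ne_zero (ρ := σ) (g : H) h hv
  have hpm : Module.finrank F Ep = Module.finrank F Em := by
    refine le_antisymm ?_ ?_
    · rw [(Submodule.equivMapOfInjective _ hginj Ep).finrank_eq]
      refine Submodule.finrank_mono ?_
      rintro _ ⟨v, hv, rfl⟩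
      rw [hEmmem, hgc, (hEpmem v).1 hv]
    · rw [(Submodule.equivMapOfInjective _ hginj Em).finrank_eq]
      refine Submodule.finrank_mono ?_
      rintro _ ⟨v, hv, rfl⟩
      rw [hEpmem, hgc, (hEmmem v).1 hv, map_neg, neg_neg]
  have hc2v : ∀ v, σ (c : H) (σ (c : H) v) = v := fun v => by
    have := congrArg (fun T : Module.End F W => T v) hcsq
    simpa using this
  have hsum : Module.finrank F Ep + Module.finrank F Em = Module.finrank F W := by
    have htop : Ep ⊔ Em = ⊤ := by
      refine eq_top_iff.2 fun v _ => ?_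
      have hv : v = (2⁻¹ : F) • (v + σ (c : H) v) + (2⁻¹ : F) • (v - σ (c : H) v) := by
        have h : (2⁻¹ : F) * 2 = 1 := inv_mul_cancel₀ h2
        calc v = ((2⁻¹ : F) * 2) • v := by rw [h, one_smul]
          _ = _ := by module
      rw [hv]
      refine add_mem (Submodule.mem_sup_left ?_) (Submodule.mem_sup_right ?_)
      · rw [hEpmem, map_smul, map_add, hc2v, add_comm]
      · rw [hEmmem, map_smul, map_sub, hc2v, ← smul_neg, neg_sub]
    have hbot : Ep ⊓ Em = ⊥ := by
      refine eq_bot_iff.2 fun v hv => ?_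
      have h1 := (hEpmem v).1 hv.1
      have h3 := (hEmmem v).1 hv.2
      rw [h1] at h3
      have : (2 : F) • v = 0 := by linear_combination (norm := module) h3
      exact (Submodule.mem_bot F).2 ((smul_eq_zero.1 this).resolve_left h2)
    have := Submodule.finrank_sup_add_finrank_inf_eq Ep Em
    rw [htop, hbot, finrank_top, finrank_bot, add_zero] at this
    exact this.symm
  set C := LinearMap.ker (σ y - 1) with hC
  have hrn := LinearMap.finrank_range_add_finrank_ker (σ y - 1)
  rw [← hk, ← hC] at hrn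
  have hp1 := Submodule.finrank_sup_add_finrank_inf_eq C Ep
  have hp2 := Submodule.finrank_sup_add_finrank_inf_eq C Em
  have hs1 := (C ⊔ Ep).finrank_le
  have hs2 := (C ⊔ Em).finrank_le
  have hcfix : ∀ v ∈ C, ∀ (u : Q) (e : F), σ (u : H) v = e • v →
      σ ((MulAut.conjNormal y u : Q) : H) v = e • v := by
    intro v hv u e he
    have h1 : σ y v = v := by
      have := LinearMap.mem_ker.1 hv
      rwa [LinearMap.sub_apply, Module.End.one_apply, sub_eq_zero] at this
    have h1' : σ y⁻¹ v = v := by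
      conv_lhs => rw [← h1]
      rw [← Module.End.mul_apply, ← map_mul, inv_mul_cancel, map_one, Module.End.one_apply]
    rw [MulAut.conjNormal_apply, map_mul, map_mul, Module.End.mul_apply, Module.End.mul_apply, h1',
      he, map_smul, h1]
  -- the eight translates
  let Uof : F → Submodule F W := fun e =>
    ⨅ i : Fin 3, LinearMap.ker (σ (cc i : H) - e • 1)
  have hUmem : ∀ e v, v ∈ Uof e ↔ ∀ i, σ (cc i : H) v = e • v := fun e v => by
    simp [Uof, Submodule.mem_iInf, sub_eq_zero]
  have hCU : ∀ e : F, ∀ v ∈ C, σ (c : H) v = e • v → v ∈ Uof e := by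
    intro e v hv h1
    have h2 := hcfix v hv c e h1
    have h3 := hcfix v hv c₂ e h2
    rw [hUmem]
    intro i
    fin_cases i
    · exact h1
    · exact h2
    · exact h3
  have hUp : C ⊓ Ep ≤ Uof 1 := fun v hv => hCU 1 v hv.1 (by rw [one_smul]; exact (hEpmem v).1 hv.2)
  have hUm : C ⊓ Em ≤ Uof (-1) := fun v hv =>
    hCU (-1) v hv.1 (by rw [neg_one_smul]; exact (hEmmem v).1 hv.2)
  let Φ : (Fin 4 → Uof 1) × (Fin 4 → Uof (-1)) →ₗ[F] W :=
    LinearMap.coprod
      (∑ j : Fin 4, ((σ (hh j : H)).comp (Uof 1).subtype).comp (LinearMap.proj j))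
      (∑ j : Fin 4, ((σ (hh j : H)).comp (Uof (-1)).subtype).comp (LinearMap.proj j))
  have hΦ : Function.Injective Φ := by
    rw [← LinearMap.ker_eq_bot, LinearMap.ker_eq_bot']
    rintro ⟨x, z⟩ h
    let B : Fin 4 ⊕ Fin 4 → Fin 3 → Bool := Sum.elim
      (fun j i => decide (j ≠ 0 ∧ (j : ℕ) ≠ (i : ℕ) + 1))
      (fun j i => !decide (j ≠ 0 ∧ (j : ℕ) ≠ (i : ℕ) + 1))
    have hB : Function.Injective B := by decide +revert
    have hmul : ∀ (j : Fin 4) (e : F) (v : W), v ∈ Uof e → ∀ i : Fin 3,
        σ (cc i : H) (σ (hh j : H) v) =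
          (sgn (decide (j ≠ 0 ∧ (j : ℕ) ≠ (i : ℕ) + 1)) * e) • σ (hh j : H) v := by
      intro j e v hv i
      have hh' := congrArg (fun T : Module.End F W => T v) (hb (cc i) (hh j))
      simp only [Module.End.mul_apply, LinearMap.smul_apply, (hUmem e v).1 hv i, map_smul,
        hhh j i] at hh'
      have hsq1 : sgn (decide (j ≠ 0 ∧ (j : ℕ) ≠ (i : ℕ) + 1)) *
          sgn (decide (j ≠ 0 ∧ (j : ℕ) ≠ (i : ℕ) + 1)) = 1 := by
        simp only [sgn]; split_ifs <;> simp
      rw [mul_smul, hh', smul_smul, hsq1, one_smul]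
    have heig : ∀ (w : W) (t : Fin 3 → F), (∀ i, σ (cc i : H) w = t i • w) →
        ∀ m : FreeMonoid (Fin 3), FreeMonoid.lift (fun i => σ (cc i : H)) m w =
          FreeMonoid.lift t m • w := by
      intro w t ht m
      induction m using FreeMonoid.inductionOn' with
      | one => simp
      | of_mul i m ih =>
        rw [map_mul, map_mul, FreeMonoid.lift_eval_of, FreeMonoid.lift_eval_of,
          Module.End.mul_apply, ih, map_smul, ht, smul_smul, mul_comm]
    let v8 : Fin 4 ⊕ Fin 4 → W :=
      Sum.elim (fun j => σ (hh j : H) (x j : W)) (fun j => σ (hh j : H) (z j : W))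
    have h0 := eigen_zero (fun m : FreeMonoid (Fin 3) => FreeMonoid.lift (fun i => σ (cc i : H)) m)
      Finset.univ (fun k => FreeMonoid.lift fun i => sgn (B k i))
      (fun k _ l _ hkl => hB (funext fun i => ?_)) v8 (fun k _ m => ?_) ?_
    rotate_left
    · have := DFunLike.congr_fun hkl (FreeMonoid.of i)
      simp only [FreeMonoid.lift_eval_of, sgn] at this
      split_ifs at this with ha hb'
      · rw [ha, hb']
      · exact absurd this hneg
      · exact absurd this.symm hneg
      · simp_all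
    · refine heig _ _ (fun i => ?_) m
      cases k with
      | inl j =>
        show σ (cc i : H) (σ (hh j : H) (x j : W)) = _
        rw [hmul j 1 _ (x j).2 i, mul_one]
        rfl
      | inr j =>
        show σ (cc i : H) (σ (hh j : H) (z j : W)) = _
        rw [hmul j (-1) _ (z j).2 i]
        simp only [B, Sum.elim_inr, sgn, mul_neg, mul_one]
        cases decide (j ≠ 0 ∧ (j : ℕ) ≠ (i : ℕ) + 1) <;> simp [v8]
    · rw [Fintype.sum_sum_type]
      simpa [Φ, v8, LinearMap.sum_apply] using h
    have hinj0 : ∀ (j : Fin 4) (v : W), σ (hh j : H) v = 0 → v = 0 := fun j v hv => by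
      by_contra hv'
      exact map_ne_zero (ρ := σ) (hh j : H) hv' hv
    refine Prod.ext (funext fun j => Subtype.ext ?_) (funext fun j => Subtype.ext ?_)
    · exact hinj0 j _ (h0 (Sum.inl j) (Finset.mem_univ _))
    · exact hinj0 j _ (h0 (Sum.inr j) (Finset.mem_univ _))
  have hdim := LinearMap.finrank_le_finrank_of_injective hΦ
  simp only [Module.finrank_prod, Module.finrank_pi_fintype, Finset.sum_const, Finset.card_univ,
    Fintype.card_fin, smul_eq_mul] at hdim
  have hd1 := Submodule.finrank_mono hUp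
  have hd2 := Submodule.finrank_mono hUm
  omega

theorem fixed_eq_one (hb : Rel σ b) {y : H} (hy : y ^ 3 = 1) (hE : Nat.card b.range ≤ 4)
    {u₀ : Q} (hu₀ : cj y (b u₀) ≠ b u₀) {u : Q} (hu : cj y (b u) = b u) : b u = 1 := by
  classical
  letI : MulAction H (Q →* Fˣ) := charAction
  haveI : Finite b.range := Finite.of_surjective _ b.rangeRestrict_surjective
  by_contra h1
  have hk : ∀ i : ℕ, cj (y ^ i) (b u) = b u := fun i => by
    induction i with
    | zero => rw [pow_zero, cj_one]
    | succ n ih => rw [pow_succ, cj_mul, hu, ih]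
  have hy' : ∀ i : ℕ, i = 1 ∨ i = 2 → cj (y ^ i) (b u₀) ≠ b u₀ := by
    rintro i (rfl | rfl)
    · rwa [pow_one]
    · intro h
      apply hu₀
      have h' := congrArg (cj y) h
      rw [← cj_mul, ← pow_succ', hy, cj_one] at h'
      exact h'.symm
  have h11 : ∀ i : ℕ, cj (y ^ i) (1 : Q →* Fˣ) = 1 := fun i => cj_hom_one _
  let f : Fin 5 → b.range := ![1, ⟨b u, u, rfl⟩, ⟨b u₀, u₀, rfl⟩,
    ⟨cj (y ^ 1) (b u₀), _, hb.equivariant _ _⟩, ⟨cj (y ^ 2) (b u₀), _, hb.equivariant _ _⟩]
  have hne0 : b u₀ ≠ 1 := fun h => hu₀ (by rw [h]; exact cj_hom_one y)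
  have hne1 : b u₀ ≠ b u := fun h => hu₀ (by rw [h, hu])
  have hne2 : ∀ i, cj (y ^ i) (b u₀) ≠ 1 := fun i h => hne0 (smul_left_cancel (y ^ i)
    (h.trans (h11 i).symm))
  have hne3 : ∀ i, cj (y ^ i) (b u₀) ≠ b u := fun i h => hne1 (smul_left_cancel (y ^ i)
    (h.trans (hk i).symm))
  have hne4 : cj (y ^ 1) (b u₀) ≠ cj (y ^ 2) (b u₀) := fun h => hy' 1 (Or.inl rfl) (by
    rw [pow_two, cj_mul, pow_one] at h
    rw [pow_one]; exact (smul_left_cancel y h).symm)
  have hf : Function.Injective f := by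
    intro i j h
    have h' := congrArg Subtype.val h
    fin_cases i <;> fin_cases j <;> simp [f] at h' ⊢ <;>
      first
        | exact absurd h' h1 | exact absurd h'.symm h1
        | exact absurd h' hne0 | exact absurd h'.symm hne0
        | exact absurd h' hne1 | exact absurd h'.symm hne1
        | exact absurd h' (by simpa using hne2 1) | exact absurd h'.symm (by simpa using hne2 1)
        | exact absurd h' (hne2 2) | exact absurd h'.symm (hne2 2)
        | exact absurd h' (by simpa using hne3 1) | exact absurd h'.symm (by simpa using hne3 1)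
        | exact absurd h' (hne3 2) | exact absurd h'.symm (hne3 2)
        | exact absurd h' (by simpa using hy' 1 (Or.inl rfl))
        | exact absurd h'.symm (by simpa using hy' 1 (Or.inl rfl))
        | exact absurd h' (hy' 2 (Or.inr rfl)) | exact absurd h'.symm (hy' 2 (Or.inr rfl))
        | exact absurd h' (by simpa using hne4) | exact absurd h'.symm (by simpa using hne4)
  have := Nat.card_le_card_of_injective f hf
  rw [Nat.card_fin] at this
  omega

section Unipotent

variable [Finite F]

theorem step_fix (hF : Nat.card F = 3) {p : ℕ} [hp : Fact p.Prime] (hp5 : 5 ≤ p)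
    {g : Module.End F W} (hg : g ^ p = 1) {U U' : Submodule F W} (hUU : U ≤ U')
    (hU : ∀ v ∈ U, g v = v) (hU' : ∀ v ∈ U', g v ∈ U')
    (hd : Module.finrank F U' ≤ Module.finrank F U + 2) : ∀ v ∈ U', g v = v := by
  set U₀ := U.comap U'.subtype with hU₀
  set g₁ := g.restrict hU' with hg₁
  have hle : U₀ ≤ U₀.comap g₁ := fun v hv => by
    show g (v : W) ∈ U
    rw [hU (v : W) hv]; exact hv
  let g₂ : Module.End F (U' ⧸ U₀) := U₀.mapQ U₀ g₁ hle
  have hpow : ∀ (i : ℕ) (v : U'),
      (g₂ ^ i) (Submodule.Quotient.mk v) = Submodule.Quotient.mk ((g₁ ^ i) v) := by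
    intro i
    induction i with
    | zero => intro v; rfl
    | succ k ih => intro v; rw [pow_succ', Module.End.mul_apply, ih, pow_succ']; rfl
  have hpow1 : ∀ (i : ℕ) (v : U'), ((g₁ ^ i) v : W) = (g ^ i) (v : W) := by
    intro i
    induction i with
    | zero => intro v; rfl
    | succ k ih =>
      intro v
      rw [pow_succ', Module.End.mul_apply, pow_succ', Module.End.mul_apply, ← ih v]
      rfl
  have hdim : Module.finrank F (U' ⧸ U₀) ≤ 2 := by
    have h1 := Submodule.finrank_quotient_add_finrank U₀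
    have h2 : Module.finrank F U₀ = Module.finrank F U :=
      (Submodule.comapSubtypeEquivOfLe hUU).finrank_eq
    omega
  have h := small_lin hF hdim hp5 g₂ (LinearMap.ext fun x => by
    induction x using Submodule.Quotient.induction_on with
    | _ v =>
      rw [hpow, Module.End.one_apply, show (g₁ ^ p) v = v from Subtype.ext (by
        rw [hpow1, hg]; rfl)])
  intro v hv
  have h' := DFunLike.congr_fun h (Submodule.Quotient.mk ⟨v, hv⟩)
  have hu : g v - v ∈ U := by
    have := (Submodule.Quotient.eq U₀).1 h'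
    exact this
  set u := g v - v with hu'
  have hit : ∀ i : ℕ, (g ^ i) v = v + i • u := by
    intro i
    induction i with
    | zero => simp
    | succ k ih =>
      rw [pow_succ', Module.End.mul_apply, ih, map_add, map_nsmul, hU u hu,
        show g v = v + u by rw [hu']; abel, succ_nsmul]
      abel
  have h0 := hit p
  rw [hg, Module.End.one_apply, left_eq_add, ← Nat.cast_smul_eq_nsmul F, smul_eq_zero] at h0
  rcases h0 with h0 | h0
  · exfalso
    have h3 : (3 : F) = 0 := by
      letI := Fintype.ofFinite F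
      have := FiniteField.cast_card_eq_zero F
      rw [← Nat.card_eq_fintype_card, hF] at this
      exact_mod_cast this
    have hd1 : ringChar F ∣ Nat.gcd p 3 := Nat.dvd_gcd ((ringChar.spec F p).1 h0)
      ((ringChar.spec F 3).1 (by exact_mod_cast h3))
    rw [(Nat.coprime_primes hp.out Nat.prime_three).2 (by omega), Nat.dvd_one] at hd1
    exact CharP.ringChar_ne_one hd1
  · exact sub_eq_zero.1 h0

theorem exists_fixed_mod (hF : Nat.card F = 3) {P : Subgroup H} (hP : IsPGroup 3 P)
    {U : Submodule F W} (hU : U ≠ ⊤) (hinv : ∀ g ∈ P, ∀ v ∈ U, σ g v ∈ U) :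
    ∃ v ∉ U, ∀ g ∈ P, σ g v - v ∈ U := by
  haveI : Fact (Nat.Prime 3) := ⟨Nat.prime_three⟩
  haveI : Finite W := Module.finite_of_finite F
  haveI : Finite (W ⧸ U) := Module.finite_of_finite F
  let act : P → Module.End F (W ⧸ U) := fun g => U.mapQ U (σ (g : H)) (hinv g g.2)
  letI : MulAction P (W ⧸ U) :=
    { smul := fun g x => act g x
      one_smul := fun x => by
        induction x using Submodule.Quotient.induction_on with
        | _ v => show Submodule.Quotient.mk (σ ((1 : P) : H) v) = _; simp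
      mul_smul := fun g g' x => by
        induction x using Submodule.Quotient.induction_on with
        | _ v =>
          show Submodule.Quotient.mk (σ ((g * g' : P) : H) v) =
            Submodule.Quotient.mk (σ (g : H) (σ (g' : H) v))
          rw [Subgroup.coe_mul, map_mul, Module.End.mul_apply] }
  haveI : Nontrivial (W ⧸ U) := Submodule.Quotient.nontrivial_iff.2 hU
  have hcard : 3 ∣ Nat.card (W ⧸ U) := by
    rw [Module.natCard_eq_pow_finrank (K := F), hF]
    exact dvd_pow_self 3 Module.finrank_pos.ne'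
  have h0 : (0 : W ⧸ U) ∈ MulAction.fixedPoints P (W ⧸ U) := fun g => map_zero (act g)
  obtain ⟨x, hx, hne⟩ := hP.exists_fixed_point_of_prime_dvd_card_of_fixed_point _ hcard h0
  induction x using Submodule.Quotient.induction_on with
  | _ v =>
    refine ⟨v, fun h => hne ((Submodule.Quotient.mk_eq_zero U).2 h).symm, fun g hg => ?_⟩
    exact (Submodule.Quotient.eq U).1 (hx ⟨g, hg⟩)

/-- In the small case `r = 3` a coprime element normalising the `3`-group is trivial. -/
theorem sigma_eq_one_three (hF : Nat.card F = 3) {p : ℕ} [Fact p.Prime] (hp5 : 5 ≤ p)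
    {P : Subgroup H} (hP : IsPGroup 3 P) {y : H} (hyP : y ∈ P) {a : H} (ha : a ^ p = 1)
    (haP : ∀ g ∈ P, a⁻¹ * g * a ∈ P) (heven : Even (Module.finrank F W))
    (hn : 3 * Module.finrank F W ≤ 8 * Module.finrank F (LinearMap.range (σ y - 1)))
    (hk : Module.finrank F (LinearMap.range (σ y - 1)) ≤ 2) : σ a = 1 := by
  have hg : σ a ^ p = 1 := by rw [← map_pow, ha, map_one]
  have haS : ∀ g ∈ P, ∀ v, σ g (σ a v) = σ a (σ (a⁻¹ * g * a) v) := fun g _ v => by
    rw [← Module.End.mul_apply, ← Module.End.mul_apply, ← map_mul, ← map_mul]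
    congr 2; group
  let up : Submodule F W → Submodule F W := fun U => ⨅ g : P, U.comap (σ (g : H) - 1)
  have hup : ∀ U v, v ∈ up U ↔ ∀ g ∈ P, σ g v - v ∈ U := fun U v => by
    simp [up, Submodule.mem_iInf]
  have hupa : ∀ U, (∀ v ∈ U, σ a v ∈ U) → ∀ v ∈ up U, σ a v ∈ up U := by
    intro U hU v hv
    rw [hup] at hv ⊢
    intro g hg'
    rw [haS g hg', ← map_sub]
    exact hU _ (hv _ (haP g hg'))
  set U₁ := up ⊥ with hU₁
  set U₂ := up U₁ with hU₂
  have hU₁m : ∀ v, v ∈ U₁ ↔ ∀ g ∈ P, σ g v = v := fun v => by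
    rw [hU₁, hup]; simp [sub_eq_zero]
  have h12 : U₁ ≤ U₂ := fun v hv => by
    rw [hU₂, hup]
    intro g hg'
    rw [(hU₁m v).1 hv g hg', sub_self]
    exact zero_mem _
  set n := Module.finrank F W with hn'
  have hn4 : n ≤ 4 := by obtain ⟨m, hm⟩ := heven; omega
  have a0 : ∀ v ∈ (⊥ : Submodule F W), σ a v ∈ (⊥ : Submodule F W) := fun v hv => by
    rw [(Submodule.mem_bot F).1 hv, map_zero]; exact zero_mem _
  have a1 := hupa ⊥ a0
  have a2 := hupa U₁ a1
  by_cases hn2 : n ≤ 2
  · refine LinearMap.ext fun v => step_fix hF hp5 hg (bot_le : ⊥ ≤ (⊤ : Submodule F W))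
      (fun v hv => by rw [(Submodule.mem_bot F).1 hv, map_zero]) (fun v _ => Submodule.mem_top)
      (by rw [finrank_bot, finrank_top]; omega) v Submodule.mem_top
  have hk2 : Module.finrank F (LinearMap.range (σ y - 1)) = 2 := by omega
  have hker := LinearMap.finrank_range_add_finrank_ker (σ y - 1)
  have hU₁le : U₁ ≤ LinearMap.ker (σ y - 1) := fun v hv => by
    rw [LinearMap.mem_ker, LinearMap.sub_apply, Module.End.one_apply, (hU₁m v).1 hv y hyP,
      sub_self]
  have hd1 := Submodule.finrank_mono hU₁le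
  have hne1 : U₁ ≠ ⊥ := by
    obtain ⟨v, hv, hv'⟩ := exists_fixed_mod (σ := σ) hF hP
      (bot_ne_top (α := Submodule F W)) (fun g _ v hv => by
        rw [(Submodule.mem_bot F).1 hv, map_zero]; exact zero_mem _)
    intro h
    apply hv
    rw [← h]
    exact (hup ⊥ v).2 hv'
  have hd1' : Module.finrank F U₁ ≠ 0 := fun h => hne1 (Submodule.finrank_eq_zero.1 h)
  have hU₁top : U₁ ≠ ⊤ := fun h => by rw [h, finrank_top] at hd1; omega
  obtain ⟨v, hv, hv'⟩ := exists_fixed_mod (σ := σ) hF hP hU₁top (fun g hg' w hw => by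
    rw [(hU₁m w).1 hw g hg']; exact hw)
  have hlt : U₁ < U₂ := lt_of_le_of_ne h12 fun h => hv (h.symm ▸ (hup U₁ v).2 hv')
  have hd2 := Submodule.finrank_lt_finrank_of_lt hlt
  have hd2' : Module.finrank F U₂ ≤ Module.finrank F U₁ + 2 := by
    by_cases h : U₂ = ⊤
    · have hrle : LinearMap.range (σ y - 1) ≤ U₁ := by
        rintro _ ⟨w, rfl⟩
        have : w ∈ U₂ := h ▸ Submodule.mem_top
        exact (hup U₁ w).1 this y hyP
      have := Submodule.finrank_mono hrle
      have := U₂.finrank_le
      omega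
    · have := Submodule.finrank_lt h
      omega
  have f1 := step_fix hF hp5 hg (bot_le : ⊥ ≤ U₁)
    (fun v hv => by rw [(Submodule.mem_bot F).1 hv, map_zero]) a1 (by rw [finrank_bot]; omega)
  have f2 := step_fix hF hp5 hg h12 f1 a2 hd2'
  refine LinearMap.ext fun w => step_fix hF hp5 hg (le_top : U₂ ≤ ⊤) f2
    (fun v _ => Submodule.mem_top) (by rw [finrank_top]; omega) w Submodule.mem_top

end Unipotent

end CfsgLib.SFT
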