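import Cfsg.Agent.SFT.RankComponentSmall
import Cfsg.Agent.Coprime.Sylow

/-!
The non-abelian case of the rank bound: a class two `q`-group of linear maps normalised by an
element `y` of rank at most two and by a coprime `p`-group `A`.
-/

set_option autoImplicit false
set_option linter.style.haveILetI false
set_option linter.deprecated false
set_option linter.unusedSectionVars false

namespace CfsgLib.SFT

open Subgroup Wt

variable {F : Type*} [Field F] {V : Type*} [AddCommGroup V] [Module F V] {G : Type*} [Group G]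

theorem commBr_mem {Q B : Subgroup G} (h : ∀ u ∈ Q, ∀ g ∈ Q, u * g * u⁻¹ * g⁻¹ ∈ B) (g u : Q) :
    (g : G) * u * (g : G)⁻¹ * (u : G)⁻¹ ∈ B := h g g.2 u u.2

/-- The scalars by which the elements of `Q` commute on the weight space of `χ`. -/
noncomputable def pairing {Q B : Subgroup G} (hcent : ∀ x ∈ B, ∀ u ∈ Q, x * u = u * x)
    (h : ∀ u ∈ Q, ∀ g ∈ Q, u * g * u⁻¹ * g⁻¹ ∈ B) (χ : B →* Fˣ) : Q →* (Q →* Fˣ) :=
  MonoidHom.mk'
    (fun u => MonoidHom.mk' (fun g => χ ⟨_, commBr_mem h g u⟩) (fun g₁ g₂ => by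
      rw [← map_mul]
      congr 1
      refine Subtype.ext ?_
      have hc := hcent _ (commBr_mem h g₂ u) g₁ g₁.2
      calc ((g₁ * g₂ : Q) : G) * u * ((g₁ * g₂ : Q) : G)⁻¹ * (u : G)⁻¹
          = (g₁ : G) * ((g₂ : G) * u * (g₂ : G)⁻¹ * (u : G)⁻¹) * (g₁ : G)⁻¹ *
              ((g₁ : G) * u * (g₁ : G)⁻¹ * (u : G)⁻¹) := by
            rw [Subgroup.coe_mul]; group
        _ = ((g₂ : G) * u * (g₂ : G)⁻¹ * (u : G)⁻¹) *
              ((g₁ : G) * u * (g₁ : G)⁻¹ * (u : G)⁻¹) := by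
            rw [← hc, mul_inv_cancel_right]
        _ = ((g₁ : G) * u * (g₁ : G)⁻¹ * (u : G)⁻¹) *
              ((g₂ : G) * u * (g₂ : G)⁻¹ * (u : G)⁻¹) := by
            have hm : ((g₁ : G) * u * (g₁ : G)⁻¹ * (u : G)⁻¹) ∈ Q :=
              mul_mem (mul_mem (mul_mem g₁.2 u.2) (inv_mem g₁.2)) (inv_mem u.2)
            exact hcent _ (commBr_mem h g₂ u) _ hm))
    (fun u₁ u₂ => MonoidHom.ext fun g => by
      show χ _ = χ _ * χ _
      rw [← map_mul]
      congr 1
      refine Subtype.ext ?_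
      have hc := hcent _ (commBr_mem h g u₂) u₁ u₁.2
      calc (g : G) * ((u₁ * u₂ : Q) : G) * (g : G)⁻¹ * ((u₁ * u₂ : Q) : G)⁻¹
          = ((g : G) * u₁ * (g : G)⁻¹ * (u₁ : G)⁻¹) *
              ((u₁ : G) * ((g : G) * u₂ * (g : G)⁻¹ * (u₂ : G)⁻¹) * (u₁ : G)⁻¹) := by
            rw [Subgroup.coe_mul]; group
        _ = _ := by rw [← hc, mul_inv_cancel_right]; rfl)

variable {Q B : Subgroup G} {hcent : ∀ x ∈ B, ∀ u ∈ Q, x * u = u * x}
  {hQB : ∀ u ∈ Q, ∀ g ∈ Q, u * g * u⁻¹ * g⁻¹ ∈ B}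

theorem pairing_apply (χ : B →* Fˣ) (u g : Q) :
    pairing hcent hQB χ u g = χ ⟨_, commBr_mem hQB g u⟩ := rfl

theorem pairing_conj [Q.Normal] [B.Normal] (a : G) (χ : B →* Fˣ) (u : Q) :
    pairing hcent hQB χ (MulAut.conjNormal a u) = cj a (pairing hcent hQB (cj a⁻¹ χ) u) := by
  refine MonoidHom.ext fun g => ?_
  rw [cj_apply, pairing_apply, pairing_apply, cj_apply]
  congr 1
  refine Subtype.ext ?_
  simp only [MulAut.conjNormal_apply, inv_inv]
  group

theorem Rel.eq_of_sigma_eq {W : Type*} [AddCommGroup W] [Module F W] [Nontrivial W]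
    [FiniteDimensional F W]
    {H : Type*} [Group H] {σ : H →* Module.End F W} {K : Subgroup H} {b : K →* (K →* Fˣ)}
    (hb : Rel σ b) {u v : K} (h : σ (u : H) = σ (v : H)) : b u = b v := by
  refine MonoidHom.ext fun g => Units.ext ?_
  have h1 := hb u g
  have h2 := hb v g
  rw [h] at h1
  have hne : σ (v : H) * σ (g : H) ≠ 0 := by rw [← map_mul]; exact sigma_ne_zero _
  exact smul_left_injective F hne (h1.symm.trans h2)

/-- What the component of a single weight gives. -/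
theorem component_facts [Finite G] [Finite F] [FiniteDimensional F V] [Q.Normal] [B.Normal]
    (ρ : G →* Module.End F V) {p q r : ℕ} [hp : Fact p.Prime] [hq : Fact q.Prime]
    [hr : Fact r.Prime] [CharP F r] (hpq : p ≠ q) (hpr : p ≠ r) (hqr : q ≠ r)
    (hqF : (q : F) ≠ 0) (hF3 : r = 3 → q = 2 → Nat.card F = 3)
    (hcentral : ∀ x ∈ B, ∀ u ∈ Q, x * u = u * x)
    (hQB' : ∀ u ∈ Q, ∀ g ∈ Q, u * g * u⁻¹ * g⁻¹ ∈ B)
    (hBe : ∀ x ∈ B, x ^ q = 1) (hpow : ∀ u ∈ Q, u ^ q ∈ B)
    {A : Subgroup G} (hAe : ∀ a ∈ A, a ^ p = 1) {y : G} (hy : y ^ r = 1)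
    (hBy : ∀ x ∈ B, y * x = x * y) (hP : IsPGroup r (conjGen A y)) (hyP : conjGen A y ≤
      centralizer (B : Set G))
    (χ : B →* Fˣ) (hχ : wt ρ B χ ≠ ⊥)
    (hmv : ∃ u, cj y (pairing hcentral hQB' χ u) ≠ pairing hcentral hQB' χ u) :
    (wt ρ B χ).map (ρ y - 1) ≠ ⊥ ∧
    (Module.finrank F ((wt ρ B χ).map (ρ y - 1)) ≤ 2 →
      r ≤ 3 ∧
      (q = 3 → r = 2 → Module.finrank F ((wt ρ B χ).map (ρ y - 1)) ≤ 1 →
        ∀ a ∈ A, cj a χ = χ → ∀ u,
          pairing hcentral hQB' χ (MulAut.conjNormal a u) = pairing hcentral hQB' χ u) ∧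
      (q = 2 → r = 3 → (∀ a ∈ A, cj a χ = χ → ∀ u,
          pairing hcentral hQB' χ (MulAut.conjNormal a u) = pairing hcentral hQB' χ u) ∧
        (Module.finrank F ((wt ρ B χ).map (ρ y - 1)) ≤ 1 → ∀ u,
          cj y (pairing hcentral hQB' χ u) = pairing hcentral hQB' χ u →
            pairing hcentral hQB' χ u = 1))) := by
  set bb := pairing hcentral hQB' χ with hbb
  let H : Subgroup G :=
    { carrier := {g | cj g χ = χ}
      one_mem' := cj_one χ
      mul_mem' := fun {g g'} hg hg' => by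
        show cj (g * g') χ = χ
        rw [cj_mul, show cj g' χ = χ from hg', show cj g χ = χ from hg]
      inv_mem' := fun {g} hg => by
        show cj g⁻¹ χ = χ
        conv_lhs => rw [← (show cj g χ = χ from hg)]
        rw [← cj_mul, inv_mul_cancel, cj_one] }
  have hcentH : ∀ g ∈ centralizer (B : Set G), g ∈ H := by
    intro g hg
    refine MonoidHom.ext fun x => ?_
    rw [cj_apply]
    congr 1
    refine Subtype.ext ?_
    rw [MulAut.conjNormal_apply, inv_inv, mul_assoc, (mem_centralizer_iff.1 hg) x x.2,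
      inv_mul_cancel_left]
  have hyH : y ∈ H := hcentH y (mem_centralizer_iff.2 fun x hx => (hBy x hx).symm)
  have hQH : Q ≤ H := fun u hu =>
    hcentH u (mem_centralizer_iff.2 fun x hx => hcentral x hx u hu)
  have hPH : conjGen A y ≤ H := fun g hg => hcentH g (hyP hg)
  set W := wt ρ B χ with hW
  have hinv : ∀ g : H, ∀ v ∈ W, ρ (g : G) v ∈ W := fun g v hv => by
    have := map_mem_wt (g : G) hv
    rwa [show cj (g : G) χ = χ from g.2] at this
  let σ : H →* Module.End F W :=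
    { toFun := fun g => (ρ (g : G)).restrict (hinv g)
      map_one' := LinearMap.ext fun v => Subtype.ext (by simp)
      map_mul' := fun g g' => LinearMap.ext fun v => Subtype.ext (by simp) }
  haveI : Nontrivial W := Submodule.nontrivial_iff_ne_bot.2 hχ
  let Qh : Subgroup H := Q.subgroupOf H
  let ι : Qh →* Q :=
    MonoidHom.mk' (fun u => ⟨((u : H) : G), u.2⟩) (fun _ _ => rfl)
  let b : Qh →* (Qh →* Fˣ) := MonoidHom.mk' (fun u => (bb (ι u)).comp ι) (fun u v => by
    refine MonoidHom.ext fun g => ?_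
    simp only [map_mul, MonoidHom.comp_apply, MonoidHom.mul_apply])
  have hb : Rel σ b := by
    intro u g
    refine LinearMap.ext fun v => Subtype.ext ?_
    show ρ ((g : H) : G) (ρ ((u : H) : G) (v : V)) =
      ((bb (ι u) (ι g) : Fˣ) : F) • ρ ((u : H) : G) (ρ ((g : H) : G) (v : V))
    have hv : ρ (((u : H) : G) * ((g : H) : G)) (v : V) ∈ W :=
      hinv ((u : H) * (g : H)) v v.2
    rw [← Module.End.mul_apply, ← Module.End.mul_apply, ← map_mul, ← map_mul, hbb, pairing_apply,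
      ← hv ⟨_, commBr_mem hQB' (ι g) (ι u)⟩, ← Module.End.mul_apply, ← map_mul]
    congr 2
    show _ = ((g : H) : G) * ((u : H) : G) * ((g : H) : G)⁻¹ * ((u : H) : G)⁻¹ *
      (((u : H) : G) * ((g : H) : G))
    group
  have hsurj : ∀ u : Q, ∃ u' : Qh, ι u' = u := fun u => ⟨⟨⟨u, hQH u.2⟩, u.2⟩, rfl⟩
  have hup : ∀ (h : H) (u : Qh), cj (h : G) (bb (ι u)) = bb (ι u) → cj h (b u) = b u := by
    intro h u he
    refine MonoidHom.ext fun g => ?_
    show bb (ι u) (ι (MulAut.conjNormal h⁻¹ g)) = bb (ι u) (ι g)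
    conv_rhs => rw [← he]
    rfl
  have hdown : ∀ (h : H) (u : Qh), cj h (b u) = b u → cj (h : G) (bb (ι u)) = bb (ι u) := by
    intro h u he
    refine MonoidHom.ext fun g => ?_
    obtain ⟨g', rfl⟩ := hsurj g
    have := DFunLike.congr_fun he g'
    exact this
  set y' : H := ⟨y, hyH⟩ with hy'
  obtain ⟨u₀, hu₀⟩ := hmv
  obtain ⟨u₀', rfl⟩ := hsurj u₀
  have hu₀' : cj y' (b u₀') ≠ b u₀' := fun h => hu₀ (hdown y' u₀' h)
  have hbqF : ∀ u g : Qh, b u g ^ q = 1 := fun u g => by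
    show (bb (ι u) (ι g)) ^ q = 1
    rw [hbb, pairing_apply, ← map_pow,
      show (⟨_, commBr_mem hQB' (ι g) (ι u)⟩ : B) ^ q = 1 from Subtype.ext
        (by simpa using hBe _ (commBr_mem hQB' (ι g) (ι u))), map_one]
  have hrange : (LinearMap.range (σ y' - 1)).map W.subtype = W.map (ρ y - 1) := by
    ext v
    constructor
    · rintro ⟨_, ⟨w, rfl⟩, rfl⟩
      exact ⟨w, w.2, rfl⟩
    · rintro ⟨w, hw, rfl⟩
      exact ⟨(σ y' - 1) ⟨w, hw⟩, ⟨_, rfl⟩, rfl⟩
  have hfr : Module.finrank F (LinearMap.range (σ y' - 1)) =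
      Module.finrank F (W.map (ρ y - 1)) := by
    rw [← hrange]
    exact (Submodule.equivMapOfInjective _ W.injective_subtype _).finrank_eq
  refine ⟨fun h0 => ?_, fun hk => ?_⟩
  · rw [h0, finrank_bot, Submodule.finrank_eq_zero, LinearMap.range_eq_bot, sub_eq_zero] at hfr
    have hs : σ ((MulAut.conjNormal y' u₀' : Qh) : H) = σ (u₀' : H) := by
      have h1 : σ y'⁻¹ = 1 := by
        have := congrArg (σ y'⁻¹ * ·) hfr
        simp only [← map_mul, inv_mul_cancel, map_one, mul_one] at this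
        exact this.symm
      rw [MulAut.conjNormal_apply, map_mul, map_mul, hfr, h1, one_mul, mul_one]
    exact hu₀' ((hb.equivariant y' u₀').symm.trans (hb.eq_of_sigma_eq hs))
  rw [← hfr] at hk ⊢
  have hy'r : y' ^ r = 1 := Subtype.ext (by simpa [hy'] using hy)
  refine ⟨?_, fun hq3 hr2 hk1 a ha hfix u => ?_, fun hq2 hr3 => ?_⟩
  · by_contra h
    have h5 : 5 ≤ r := by
      rcases Nat.lt_or_ge r 5 with h' | h'
      · obtain rfl : r = 4 := by omega
        exact absurd hr.out (by norm_num)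
      · exact h'
    exact three_le_finrank_of_delta hb hqr h5 hbqF hy'r hk hu₀'
  · subst hq3; subst hr2
    obtain ⟨-, hsmall⟩ := dim_small_two hb hbqF (by exact_mod_cast hqF) hk1 hu₀'
    have hp5 : 5 ≤ p := by
      rcases Nat.lt_or_ge p 5 with h' | h'
      · exfalso
        have := hp.out.two_le
        obtain rfl : p = 4 := by omega
        exact absurd hp.out (by norm_num)
      · exact h'
    obtain ⟨u', rfl⟩ := hsurj u
    have h := cj_eq_self_of_small hb hp5 hsmall (a := (⟨a, hfix⟩ : H))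
      (Subtype.ext (by simpa using hAe a ha)) u'
    rw [← hb.equivariant] at h
    refine MonoidHom.ext fun g => ?_
    obtain ⟨g', rfl⟩ := hsurj g
    exact DFunLike.congr_fun h g'
  · subst hq2; subst hr3
    have hp5 : 5 ≤ p := by
      rcases Nat.lt_or_ge p 5 with h' | h'
      · exfalso
        have := hp.out.two_le
        obtain rfl : p = 4 := by omega
        exact absurd hp.out (by norm_num)
      · exact h'
    have h2F : (2 : F) ≠ 0 := by exact_mod_cast hqF
    have hsq : ∀ u : Qh, ∃ ε : F, ε * ε = 1 ∧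
        σ (u : H) * σ (u : H) = ε • (1 : Module.End F W) := by
      intro u
      have hm := hpow _ (ι u).2
      refine ⟨((χ ⟨_, hm⟩ : Fˣ) : F), ?_, ?_⟩
      · rw [← Units.val_mul, Units.val_eq_one, ← map_mul,
          show (⟨_, hm⟩ : B) * ⟨_, hm⟩ = 1 from Subtype.ext (by
            simpa [pow_two] using hBe _ hm), map_one]
      · rw [← map_mul]
        refine LinearMap.ext fun v => Subtype.ext ?_
        show ρ (((u : H) * (u : H) : H) : G) (v : V) = _
        have h2 := v.2 ⟨_, hm⟩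
        simp only [pow_two] at h2 ⊢
        exact h2
    obtain ⟨heven, h38⟩ := dim_small_three hb hbqF h2F hsq hy'r hu₀'
    refine ⟨fun a ha hfix u => ?_, fun hk1 u hu => ?_⟩
    · obtain ⟨u', rfl⟩ := hsurj u
      have hPh : IsPGroup 3 ((conjGen A y).subgroupOf H) :=
        hP.comap_of_injective H.subtype H.subtype_injective
      have hs1 := sigma_eq_one_three (σ := σ) (hF3 rfl rfl) hp5 hPh (y := y')
        (show y ∈ conjGen A y from self_mem_conjGen) (a := (⟨a, hfix⟩ : H))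
        (Subtype.ext (by simpa using hAe a ha))
        (fun g hg => by
          show a⁻¹ * (g : G) * a ∈ conjGen A y
          have := conj_mem_conjGen (inv_mem ha) (show (g : G) ∈ conjGen A y from hg)
          rwa [inv_inv] at this)
        heven h38 hk
      set a' : H := ⟨a, hfix⟩ with ha'
      have h1 : σ a'⁻¹ = 1 := by
        have := congrArg (σ a'⁻¹ * ·) hs1
        simp only [← map_mul, inv_mul_cancel, map_one, mul_one] at this
        exact this.symm
      have hs : σ ((MulAut.conjNormal a' u' : Qh) : H) = σ (u' : H) := by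
        rw [MulAut.conjNormal_apply, map_mul, map_mul, hs1, h1, one_mul, mul_one]
      have h := hb.eq_of_sigma_eq hs
      refine MonoidHom.ext fun g => ?_
      obtain ⟨g', rfl⟩ := hsurj g
      exact DFunLike.congr_fun h g'
    · obtain ⟨u', rfl⟩ := hsurj u
      have hn : Module.finrank F W ≤ 2 := by omega
      have hE : Nat.card b.range ≤ 4 := hb.card_range_le.trans (Nat.mul_le_mul hn hn)
      have h := fixed_eq_one hb hy'r hE hu₀' (hup y' u' hu)
      refine MonoidHom.ext fun g => ?_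
      obtain ⟨g', rfl⟩ := hsurj g
      exact DFunLike.congr_fun h g'

/-- The non-abelian case of the rank bound. -/
theorem nonabelian_case [Finite G] [Finite F] [FiniteDimensional F V] (ρ : G →* Module.End F V)
    (hρ : Function.Injective ρ) {p q r : ℕ} [hp : Fact p.Prime] [hq : Fact q.Prime]
    [hr : Fact r.Prime] [CharP F r] (hpq : p ≠ q) (hpr : p ≠ r) (hqr : q ≠ r)
    (hqF : (q : F) ≠ 0) {ω : F} (hω : IsPrimitiveRoot ω q)
    (hF3 : r = 3 → q = 2 → Nat.card F = 3)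
    (S : V → V) (hS0 : ∀ v, S v = 0 → v = 0) (hSsmul : ∀ (a : F) v, S (a • v) = a ^ r • S v)
    (hScomm : ∀ g v, S (ρ g v) = ρ g (S v))
    (Q B : Subgroup G) [hQn : Q.Normal] [hBn : B.Normal] (hQ : IsPGroup q Q) (hBQ : B ≤ Q)
    (hcentral : ∀ x ∈ B, ∀ u ∈ Q, x * u = u * x) (hBe : ∀ x ∈ B, x ^ q = 1)
    (hQB : ∀ u ∈ Q, ∀ g ∈ Q, u * g * u⁻¹ * g⁻¹ ∈ B) (hpow : ∀ u ∈ Q, u ^ q ∈ B)
    {A : Subgroup G} (hA : IsPGroup p A) (hAe : ∀ a ∈ A, a ^ p = 1) {y : G}
    (hyo : orderOf y = r) (hP : IsPGroup r (conjGen A y))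
    (hfix : ∀ u ∈ Q, (∀ a ∈ A, a * u = u * a) → ∀ g ∈ Q, u * g = g * u)
    (hcen : ∀ u ∈ Q, (∀ g ∈ Q, u * g = g * u) → y * u = u * y)
    (hy : ∃ t ∈ Q, y * t * y⁻¹ ≠ t)
    (hrk : Module.finrank F (LinearMap.range (ρ y - 1)) ≤ 2) : False := by
  classical
  have hyr : y ^ r = 1 := hyo ▸ pow_orderOf_eq_one y
  have hBc : ∀ x ∈ B, ∀ z ∈ B, x * z = z * x := fun x hx z hz => hcentral x hx z (hBQ hz)
  have hBy : ∀ x ∈ B, y * x = x * y := fun x hx =>
    hcen x (hBQ hx) (fun g hg => hcentral x hx g hg)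
  have hPc : conjGen A y ≤ centralizer (B : Set G) := by
    rw [conjGen, Subgroup.closure_le]
    rintro _ ⟨a, -, rfl⟩
    rw [SetLike.mem_coe, mem_centralizer_iff]
    intro x hx
    have h := hBy (a⁻¹ * x * a) (by simpa using hBn.conj_mem x hx a⁻¹)
    calc x * (a * y * a⁻¹) = a * ((a⁻¹ * x * a) * y) * a⁻¹ := by group
      _ = a * (y * (a⁻¹ * x * a)) * a⁻¹ := by rw [h]
      _ = a * y * a⁻¹ * x := by group
  letI act : MulAction G (B →* Fˣ) := charAction
  set bb := pairing (F := F) hcentral hQB with hbb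
  let cm : Q → Q := fun u => MulAut.conjNormal y u * u⁻¹
  have hcjy : ∀ χ : B →* Fˣ, cj y⁻¹ χ = χ := fun χ => by
    refine MonoidHom.ext fun x => ?_
    rw [cj_apply]
    congr 1
    refine Subtype.ext ?_
    rw [inv_inv, MulAut.conjNormal_apply, hBy x x.2, mul_inv_cancel_right]
  have hcm : ∀ χ u, bb χ (cm u) = cj y (bb χ u) / bb χ u := fun χ u => by
    rw [map_mul, map_inv, hbb, pairing_conj, hcjy χ]
    exact (div_eq_mul_inv (cj y (bb χ u)) (bb χ u)).symm
  let M : (B →* Fˣ) → Prop := fun χ => wt ρ B χ ≠ ⊥ ∧ ∃ u, cj y (bb χ u) ≠ bb χ u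
  have hnotM : ∀ χ, wt ρ B χ ≠ ⊥ → ¬ M χ → ∀ u, bb χ (cm u) = 1 := fun χ hχ hM u => by
    rw [hcm]
    refine (div_eq_one (a := cj y (bb χ u)) (b := bb χ u)).2 ?_
    by_contra h
    exact hM ⟨hχ, u, h⟩
  have hcentralOf : ∀ w : Q, (∀ χ, wt ρ B χ ≠ ⊥ → bb χ w = 1) →
      ∀ g ∈ Q, (w : G) * g = g * w := by
    intro w hw g hg
    have h : ρ (g * (w : G) * g⁻¹ * (w : G)⁻¹) - ρ 1 = 0 :=
      eq_zero_of_kills hqF hBc hBe hω _ fun χ v hv => by
        by_cases hv0 : v = 0
        · simp [hv0]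
        have h1 := DFunLike.congr_fun (hw χ ((Submodule.ne_bot_iff _).2 ⟨v, hv, hv0⟩))
          (⟨g, hg⟩ : Q)
        rw [LinearMap.sub_apply, map_one, Module.End.one_apply,
          hv ⟨_, commBr_mem hQB (⟨g, hg⟩ : Q) w⟩]
        rw [hbb, pairing_apply] at h1
        rw [h1]
        simp
    have h2 := hρ (sub_eq_zero.1 h)
    rw [mul_inv_eq_one, mul_inv_eq_iff_eq_mul] at h2
    exact h2.symm
  obtain ⟨χ, hχ⟩ : ∃ χ, M χ := by
    by_contra hno
    push Not at hno
    obtain ⟨t, ht, hty⟩ := hy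
    set c := cm ⟨t, ht⟩ with hc
    have hce := hcentralOf c fun χ hχ => hnotM χ hχ (fun h => hno χ h) _
    have hyc := hcen c c.2 hce
    have hcv : (c : G) = y * t * y⁻¹ * t⁻¹ := by simp [hc, cm, MulAut.conjNormal_apply]
    have hi : ∀ i : ℕ, y ^ i * t * (y ^ i)⁻¹ = (c : G) ^ i * t := by
      intro i
      induction i with
      | zero => simp
      | succ k ih =>
        have hk : Commute y ((c : G) ^ k) := (show Commute y (c : G) from hyc).pow_right k
        calc y ^ (k + 1) * t * (y ^ (k + 1))⁻¹ = y * (y ^ k * t * (y ^ k)⁻¹) * y⁻¹ := by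
              rw [pow_succ']; group
          _ = (c : G) ^ k * (y * t * y⁻¹) := by
              rw [ih, ← mul_assoc, hk.eq]; group
          _ = (c : G) ^ (k + 1) * t := by rw [hcv, pow_succ]; group
    have hcr : (c : G) ^ r = 1 := by
      have := hi r
      rw [hyr, one_mul, inv_one, mul_one] at this
      exact mul_eq_right.1 this.symm
    obtain ⟨m, hm⟩ := hQ c
    have hcm1 : (c : G) ^ (q ^ m) = 1 := by simpa using congrArg Subtype.val hm
    have hc1 : (c : G) = 1 := eq_one_of_pow_coprime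
      (Nat.Coprime.pow_right _ ((Nat.coprime_primes hr.out hq.out).2 (Ne.symm hqr))) hcr hcm1
    rw [hcv, mul_inv_eq_one] at hc1
    exact hty hc1
  -- facts on the moved weights
  have hfacts := fun ψ (h : M ψ) => component_facts ρ hpq hpr hqr hqF hF3 hcentral hQB hBe hpow hAe
    hyr hBy hP hPc ψ h.1 h.2
  set N := ρ y - 1 with hN
  have hNW : ∀ ψ, (wt ρ B ψ).map N ≤ wt ρ B ψ := by
    intro ψ
    rintro _ ⟨v, hv, rfl⟩
    refine sub_mem ?_ (by simpa using hv)
    have := map_mem_wt y hv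
    rwa [show cj y ψ = ψ by
      conv_lhs => rw [← hcjy ψ]
      rw [← cj_mul, mul_inv_cancel, cj_one]] at this
  have hrange : ∀ ψ, (wt ρ B ψ).map N ≤ LinearMap.range N := fun ψ => LinearMap.map_le_range
  have hk2 : ∀ ψ, Module.finrank F ((wt ρ B ψ).map N) ≤ 2 := fun ψ =>
    (Submodule.finrank_mono (hrange ψ)).trans hrk
  have hpair : ∀ ψ ψ', M ψ → M ψ' → ψ ≠ ψ' → Module.finrank F ((wt ρ B ψ).map N) ≤ 1 := by
    intro ψ ψ' h h' hne
    have h1 : Module.finrank F ((wt ρ B ψ').map N) ≠ 0 := fun h0 =>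
      (hfacts ψ' h').1 (Submodule.finrank_eq_zero.1 h0)
    have hd : (wt ρ B ψ).map N ⊓ (wt ρ B ψ').map N = ⊥ :=
      ((wt_disjoint hne).mono (hNW ψ) (hNW ψ')).eq_bot
    have hs := Submodule.finrank_sup_add_finrank_inf_eq ((wt ρ B ψ).map N) ((wt ρ B ψ').map N)
    rw [hd, finrank_bot] at hs
    have hle := (Submodule.finrank_mono (sup_le (hrange ψ) (hrange ψ'))).trans hrk
    omega
  have htwo : ∀ ψ₁ ψ₂ ψ₃, M ψ₁ → M ψ₂ → M ψ₃ → ψ₁ ≠ ψ₂ → ψ₁ ≠ ψ₃ → ψ₂ ≠ ψ₃ → False := by
    intro ψ₁ ψ₂ ψ₃ m₁ m₂ m₃ d₁₂ d₁₃ d₂₃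
    let ψ : Fin 3 → (B →* Fˣ) := ![ψ₁, ψ₂, ψ₃]
    have hM : ∀ i, M (ψ i) := fun i => by fin_cases i <;> assumption
    choose v hv hv0 using fun i => Submodule.exists_mem_ne_zero_of_ne_bot (hfacts _ (hM i)).1
    have hinj : Function.Injective ψ := by
      intro i j h
      fin_cases i <;> fin_cases j <;>
        first | rfl | exact absurd h d₁₂ | exact absurd h d₁₃ | exact absurd h d₂₃ |
          exact absurd h.symm d₁₂ | exact absurd h.symm d₁₃ | exact absurd h.symm d₂₃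
    have hli : LinearIndependent F v := by
      rw [Fintype.linearIndependent_iff]
      intro c hc i
      have h0 := eigen_zero (fun x : B => ρ x) Finset.univ (fun i => toFld (ψ i))
        (fun i _ j _ h => hinj (toFld_injective h)) (fun i => c i • v i)
        (fun i _ x => wt_eigen (Submodule.smul_mem _ _ (hNW _ (hv i))) x) hc i (Finset.mem_univ i)
      exact (smul_eq_zero.1 h0).resolve_right (hv0 i)
    have h3 : LinearIndependent F fun i => (⟨v i, hrange _ (hv i)⟩ : LinearMap.range N) :=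
      LinearIndependent.of_comp (Submodule.subtype _) hli
    have := h3.fintype_card_le_finrank
    simp only [Fintype.card_fin] at this
    omega
  -- Galois conjugation
  have hbq : ∀ (ψ : B →* Fˣ) (x : B), ψ x ^ q = 1 := fun ψ x => by
    rw [← map_pow, show x ^ q = 1 from Subtype.ext (by simpa using hBe x x.2), map_one]
  have hrq : r.Coprime q := (Nat.coprime_primes hr.out hq.out).2 (Ne.symm hqr)
  have hgal : ∀ ψ, M ψ → M (ψ ^ r) := by
    rintro ψ ⟨hne, u, hu⟩
    refine ⟨?_, u, fun h => hu ?_⟩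
    · obtain ⟨v, hv, hv0⟩ := Submodule.exists_mem_ne_zero_of_ne_bot hne
      refine (Submodule.ne_bot_iff _).2 ⟨S v, fun x => ?_, fun h => hv0 (hS0 v h)⟩
      rw [← hScomm, hv x, hSsmul, MonoidHom.pow_apply, Units.val_pow_eq_pow_val]
    · refine MonoidHom.ext fun g => ?_
      have h1 : (cj y (bb ψ u)) g ^ r = (bb ψ u) g ^ r := DFunLike.congr_fun h g
      have h2 : (cj y (bb ψ u) g / bb ψ u g) ^ r = 1 := by rw [div_pow, h1, div_self']
      have h3 : (cj y (bb ψ u) g / bb ψ u g) ^ q = 1 := by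
        rw [div_pow, cj_apply, hbb, pairing_apply, pairing_apply, hbq, hbq, div_one]
      exact div_eq_one.1 (eq_one_of_pow_coprime hrq h2 h3)
  have hne1 : ∀ ψ, M ψ → ψ ≠ 1 := by
    rintro ψ ⟨-, u, hu⟩ rfl
    apply hu
    have h1 : bb (1 : B →* Fˣ) u = 1 := MonoidHom.ext fun g => rfl
    rw [h1]
    exact cj_hom_one y
  have hordq : ∀ ψ : B →* Fˣ, ψ ≠ 1 → ∀ n : ℕ, ψ ^ n = 1 → q ∣ n := by
    intro ψ hψ n hn
    by_contra hd
    exact hψ (eq_one_of_pow_coprime (M := B →* Fˣ) (x := ψ) (n := q)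
      ((Nat.Prime.coprime_iff_not_dvd hq.out).2 hd).symm hn (MonoidHom.ext (hbq ψ)))
  have hcancel : ∀ (ψ : B →* Fˣ) (i j : ℕ), i ≤ j → ψ ^ j = ψ ^ i → ψ ^ (j - i) = 1 := by
    intro ψ i j hij h
    refine MonoidHom.ext fun x => ?_
    have h1 : ψ x ^ j = ψ x ^ i := DFunLike.congr_fun h x
    rw [show j = (j - i) + i by omega, pow_add] at h1
    exact mul_eq_right.1 h1
  obtain ⟨hr3, -, -⟩ := (hfacts χ hχ).2 (hk2 χ)
  have hχ1 := hne1 χ hχ
  have hp1 : χ ^ 1 = χ := MonoidHom.ext fun x => pow_one (χ x)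
  have hcases : r = 2 ∧ q = 3 ∧ χ ^ 2 ≠ χ ∨ r = 3 ∧ q = 2 := by
    have := hr.out.two_le
    by_cases hr2 : r = 2
    · subst hr2
      have h2 : χ ^ 2 ≠ χ := fun h => hχ1 (by
        refine MonoidHom.ext fun x => ?_
        have := DFunLike.congr_fun (hcancel χ 1 2 (by norm_num) (by rw [hp1]; exact h)) x
        simpa using this)
      refine Or.inl ⟨rfl, ?_, h2⟩
      have hm2 := hgal χ hχ
      have hm4 := hgal _ hm2
      have e4 : (χ ^ 2) ^ 2 = χ ^ 4 := MonoidHom.ext fun x => by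
        show ((χ x) ^ 2) ^ 2 = (χ x) ^ 4
        rw [← pow_mul]
      by_cases h4 : (χ ^ 2) ^ 2 = χ
      · have := hordq χ hχ1 3 (hcancel χ 1 4 (by norm_num) (by rw [hp1, ← e4]; exact h4))
        exact (Nat.prime_dvd_prime_iff_eq hq.out Nat.prime_three).1 this
      · by_cases h4' : (χ ^ 2) ^ 2 = χ ^ 2
        · exfalso
          have := hordq χ hχ1 2 (hcancel χ 2 4 (by norm_num) (by rw [← e4]; exact h4'))
          exact hqr ((Nat.prime_dvd_prime_iff_eq hq.out Nat.prime_two).1 this)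
        · exact (htwo _ _ _ hχ hm2 hm4 (Ne.symm h2) (Ne.symm h4) (Ne.symm h4')).elim
    · have hr33 : r = 3 := by omega
      subst hr33
      refine Or.inr ⟨rfl, ?_⟩
      by_contra hq2
      have hm3 := hgal χ hχ
      have hm9 := hgal _ hm3
      have e9 : (χ ^ 3) ^ 3 = χ ^ 9 := MonoidHom.ext fun x => by
        show ((χ x) ^ 3) ^ 3 = (χ x) ^ 9
        rw [← pow_mul]
      have hq2' : ¬ q ∣ 2 := fun h =>
        hq2 ((Nat.prime_dvd_prime_iff_eq hq.out Nat.prime_two).1 h)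
      by_cases h3 : χ ^ 3 = χ
      · exact hq2' (hordq χ hχ1 2 (hcancel χ 1 3 (by norm_num) (by rw [hp1]; exact h3)))
      by_cases h9 : (χ ^ 3) ^ 3 = χ
      · exact hq2' (hq.out.dvd_of_dvd_pow (n := 3)
          (hordq χ hχ1 8 (hcancel χ 1 9 (by norm_num) (by rw [hp1, ← e9]; exact h9))))
      by_cases h9' : (χ ^ 3) ^ 3 = χ ^ 3
      · rcases (Nat.Prime.dvd_mul hq.out).1 (show q ∣ 2 * 3 from
          hordq χ hχ1 6 (hcancel χ 3 9 (by norm_num) (by rw [← e9]; exact h9'))) with h | h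
        · exact hq2' h
        · exact hqr ((Nat.prime_dvd_prime_iff_eq hq.out Nat.prime_three).1 h)
      exact htwo _ _ _ hχ hm3 hm9 (Ne.symm h3) (Ne.symm h9) (Ne.symm h9')
  have hp2 : p ≠ 2 := by
    rcases hcases with ⟨h, -, -⟩ | ⟨-, h⟩
    · exact h ▸ hpr
    · exact h ▸ hpq
  have hAodd : ∀ a ∈ A, Nat.Coprime 2 (orderOf a) := by
    intro a ha
    exact Nat.Coprime.coprime_dvd_right (orderOf_dvd_of_pow_eq_one (hAe a ha))
      ((Nat.coprime_primes Nat.prime_two hp.out).2 (Ne.symm hp2))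
  -- the products over `A`
  letI : Fintype A := Fintype.ofFinite A
  have hprod : ∀ (u : Q) (ψ : B →* Fˣ), ∏ a : A, bb ψ (MulAut.conjNormal (a : G) u) = 1 := by
    intro u
    set w : Q := ((Finset.univ : Finset A).toList.map
      fun a : A => MulAut.conjNormal (a : G) u).prod with hw
    have hwψ : ∀ ψ, bb ψ w = ∏ a : A, bb ψ (MulAut.conjNormal (a : G) u) := fun ψ => by
      rw [hw, map_list_prod, List.map_map, ← Finset.prod_map_toList]
      rfl
    have hwfix : ∀ a₀ : A, ∀ ψ, bb ψ (MulAut.conjNormal (a₀ : G) w) = bb ψ w := by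
      intro a₀ ψ
      let g : (Q →* Fˣ) →* (Q →* Fˣ) :=
        { toFun := cj (a₀ : G), map_one' := cj_hom_one _, map_mul' := cj_hom_mul _ }
      rw [hbb, pairing_conj, ← hbb, hwψ, hwψ]
      refine (map_prod g _ _).trans ?_
      refine Fintype.prod_equiv (Equiv.mulLeft a₀) _ _ fun a => ?_
      show cj (a₀ : G) _ = _
      rw [Equiv.coe_mulLeft, Subgroup.coe_mul, map_mul, MulAut.mul_apply]
      exact (pairing_conj (a₀ : G) ψ _).symm
    have hA' : Group.IsSolvable A := by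
      haveI := hA.isNilpotent
      infer_instance
    have hcop : (Nat.card A).Coprime (Nat.card ↥(Q ⊓ centralizer (Q : Set G))) := by
      obtain ⟨i, hi⟩ := IsPGroup.iff_card.1 hA
      obtain ⟨j, hj⟩ := IsPGroup.iff_card.1 (hQ.to_le inf_le_left :
        IsPGroup q ↥(Q ⊓ centralizer (Q : Set G)))
      rw [hi, hj]
      exact Nat.Coprime.pow _ _ ((Nat.coprime_primes hp.out hq.out).2 hpq)
    obtain ⟨c, hcA, hcZ⟩ := CfsgLib.Coprime.exists_commute_mem_coset A
      (Q ⊓ centralizer (Q : Set G))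
      (fun a _ => by
        haveI : (centralizer (Q : Set G)).Normal := inferInstance
        haveI : (Q ⊓ centralizer (Q : Set G)).Normal := inferInstance
        rw [normalizer_eq_top]
        exact Subgroup.mem_top a)
      hcop (w : G) (fun a ha => by
        have hd := hcentralOf (w⁻¹ * MulAut.conjNormal a w) fun ψ _ => by
          rw [map_mul, map_inv, hwfix ⟨a, ha⟩]
          exact inv_mul_cancel _
        have he : (w : G)⁻¹ * (a * w * a⁻¹) = ((w⁻¹ * MulAut.conjNormal a w : Q) : G) := by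
          simp [MulAut.conjNormal_apply]
        rw [he]
        exact ⟨Subtype.mem _, mem_centralizer_iff.2 fun g hg => (hd g hg).symm⟩)
    have hcQ : c ∈ Q := by
      have := mul_mem w.2 hcZ.1
      rwa [mul_inv_cancel_left] at this
    have hcc := hfix c hcQ hcA
    intro ψ
    rw [← hwψ]
    refine MonoidHom.ext fun g => ?_
    rw [hbb, pairing_apply, MonoidHom.one_apply]
    convert map_one ψ
    set z := (w : G)⁻¹ * c with hz
    have hwz : (w : G) = c * z⁻¹ := by rw [hz]; group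
    have hzg := mem_centralizer_iff.1 hcZ.2 g g.2
    have hwc : (g : G) * w = w * g := by
      rw [hwz, ← mul_assoc, ← hcc g g.2, mul_assoc, mul_assoc,
        (show Commute (g : G) z from hzg).inv_right.eq]
    show (g : G) * w * (g : G)⁻¹ * (w : G)⁻¹ = 1
    rw [hwc, mul_inv_cancel_right, mul_inv_cancel]
  -- the endgame
  have hbbq : ∀ (ψ : B →* Fˣ) (u : Q), bb ψ u ^ q = 1 := fun ψ u => by
    refine MonoidHom.ext fun g => ?_
    show (bb ψ u g) ^ q = 1
    rw [hbb, pairing_apply, hbq]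
  set s := (Finset.univ.filter fun a : A => cj (a : G) χ = χ).card with hs
  have hcop : s.Coprime q := by
    let St : Subgroup A := (MulAction.stabilizer G χ).subgroupOf A
    obtain ⟨k, hk⟩ := IsPGroup.iff_card.1 (hA.to_subgroup St)
    have hse : s = Nat.card St := by
      rw [hs, Nat.card_eq_fintype_card, ← Fintype.card_subtype]
      exact Fintype.card_congr (Equiv.subtypeEquivRight fun a => Iff.rfl)
    rw [hse, hk]
    exact Nat.Coprime.pow_left _ ((Nat.coprime_primes hp.out hq.out).2 hpq)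
  have htriv : ∀ a ∈ A, cj a χ = χ → ∀ u, bb χ (MulAut.conjNormal a u) = bb χ u := by
    rcases hcases with ⟨hr2, hq3, h2⟩ | ⟨hr33, hq2⟩
    · obtain ⟨-, h, -⟩ := (hfacts χ hχ).2 (hk2 χ)
      exact h hq3 hr2 (hpair χ _ hχ (hgal χ hχ) (Ne.symm (hr2 ▸ h2)))
    · obtain ⟨-, -, h⟩ := (hfacts χ hχ).2 (hk2 χ)
      exact (h hq2 hr33).1
  have hvanish : ∀ u : Q,
      (∀ a ∈ A, cj a χ ≠ χ → M (cj a⁻¹ χ) → bb (cj a⁻¹ χ) (cm u) = 1) → bb χ (cm u) = 1 := by
    intro u hu
    refine eq_one_of_pow_coprime (M := Q →* Fˣ) (x := bb χ (cm u)) (n := q) hcop ?_ (hbbq χ _)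
    rw [← hprod (cm u) χ, hs]
    refine (Finset.prod_const (bb χ (cm u))).symm.trans ?_
    rw [Finset.prod_filter]
    refine Finset.prod_congr rfl fun a _ => ?_
    split_ifs with h
    · exact (htriv a a.2 h _).symm
    · have h1 : bb (cj (a : G)⁻¹ χ) (cm u) = 1 := by
        by_cases hM : M (cj (a : G)⁻¹ χ)
        · exact hu a a.2 h hM
        · exact hnotM _ (wt_ne_bot_cj _ hχ.1) hM u
      rw [hbb, pairing_conj, ← hbb, h1]
      exact (cj_hom_one _).symm
  by_cases hA1 : ∀ a ∈ A, cj a χ ≠ χ → ¬ M (cj a⁻¹ χ)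
  · obtain ⟨-, u, hu⟩ := hχ
    have := hvanish u fun a ha h1 h2 => (hA1 a ha h1 h2).elim
    rw [hcm] at this
    exact hu (div_eq_one.1 this)
  push Not at hA1
  obtain ⟨a, ha, hne, hM'⟩ := hA1
  set χ' := cj a⁻¹ χ with hχ'
  have hne' : χ' ≠ χ := by
    intro h
    apply hne
    conv_lhs => rw [← h, hχ', ← cj_mul, mul_inv_cancel, cj_one]
  have hodd : cj a⁻¹ χ' ≠ χ := by
    intro h
    refine hne' (pow_coprime_fix (g := a⁻¹) (n := 2) (by rw [orderOf_inv]; exact hAodd a ha) ?_)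
    rw [pow_two, mul_smul]
    exact h
  rcases hcases with ⟨hr2, -, h2⟩ | ⟨hr33, hq2⟩
  · subst hr2
    have hm2 := hgal χ hχ
    have heq : χ' = χ ^ 2 := by
      by_contra h
      exact htwo _ _ _ hχ hM' hm2 (Ne.symm hne') (Ne.symm h2) h
    by_cases h4 : (χ ^ 2) ^ 2 = χ
    · apply hodd
      rw [heq, cj_hom_pow, ← hχ', heq]
      exact h4
    · have hm4 := hgal _ hm2
      refine htwo _ _ _ hχ hm2 hm4 (Ne.symm h2) (Ne.symm h4) (fun h => ?_)
      apply h2
      refine MonoidHom.ext fun x => ?_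
      have := DFunLike.congr_fun (hcancel χ 2 4 (by norm_num) (by
        refine MonoidHom.ext fun x => ?_
        have h' : ((χ x) ^ 2) = ((χ x) ^ 2) ^ 2 := DFunLike.congr_fun h x
        show (χ x) ^ 4 = (χ x) ^ 2
        exact (pow_mul (χ x) 2 2).trans h'.symm)) x
      have h9 : χ x = 1 := by
        refine eq_one_of_pow_coprime ?_ (show (χ x) ^ 2 = 1 from this) (hbq χ x)
        exact (Nat.coprime_primes Nat.prime_two hq.out).2 (Ne.symm hqr)
      show (χ x) ^ 2 = χ x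
      rw [h9, one_pow]
  obtain ⟨-, u', hu'⟩ := id hM'
  set d := MulAut.conjNormal a (cm u') with hd
  have hd1 : bb χ' d = 1 := by
    have hnM : ¬ M (cj a⁻¹ χ') := by
      intro h
      refine htwo _ _ _ hχ hM' h (Ne.symm hne') (Ne.symm hodd) (fun h' => hne' ?_)
      have h'' := congrArg (cj a) h'
      rw [← cj_mul, mul_inv_cancel, cj_one] at h''
      rw [← cj_mul, mul_inv_cancel, cj_one] at h''
      exact h''.symm
    rw [hd, hbb, pairing_conj, ← hbb, hnotM _ (wt_ne_bot_cj _ hM'.1) hnM]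
    exact cj_hom_one _
  have hd2 : bb χ d ≠ 1 := by
    rw [hd, hbb, pairing_conj, ← hbb, ← hχ']
    intro h
    have h' := congrArg (cj a⁻¹) h
    rw [← cj_mul, inv_mul_cancel, cj_one, cj_hom_one, hcm] at h'
    exact hu' (div_eq_one.1 h')
  have hcd : bb χ (cm d) = 1 := hvanish d fun b hb hb1 hb2 => by
    by_cases h : cj b⁻¹ χ = χ'
    · rw [h, hcm, hd1]
      exact (div_eq_one (a := cj y (1 : Q →* Fˣ)) (b := (1 : Q →* Fˣ))).2 (cj_hom_one y)
    · refine (htwo _ _ _ hχ hM' hb2 (Ne.symm hne') ?_ (Ne.symm h)).elim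
      intro h'
      apply hb1
      conv_lhs => rw [h', ← cj_mul, mul_inv_cancel, cj_one]
  rw [hcm] at hcd
  obtain ⟨-, -, h⟩ := (hfacts χ hχ).2 (hk2 χ)
  exact hd2 ((h hq2 hr33).2 (hpair χ χ' hχ hM' (Ne.symm hne')) d (div_eq_one.1 hcd))

end CfsgLib.SFT
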