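import Cfsg.Agent.SFT.RankNonabelian
import Cfsg.Agent.Solvable.Fitting

/-!
The rank bound for a faithful module: an element of order `r` in an `r`-subgroup normalised by the
coprime group `A` and by its centralizer, inside a solvable group without normal `r`-subgroup,
has rank at least three.
-/

set_option autoImplicit false
set_option linter.style.haveILetI false
set_option linter.deprecated false
set_option linter.unusedSectionVars false

namespace CfsgLib.SFT

open Subgroup
open scoped commutatorElement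

variable {G : Type*} [Group G]

theorem conj_pow_eq {c y t : G} (hyc : y * c = c * y) (h : y * t * y⁻¹ = c * t) :
    ∀ i : ℕ, y ^ i * t * (y ^ i)⁻¹ = c ^ i * t := by
  intro i
  induction i with
  | zero => simp
  | succ k ih =>
    have hk : Commute y (c ^ k) := (show Commute y c from hyc).pow_right k
    calc y ^ (k + 1) * t * (y ^ (k + 1))⁻¹ = y * (y ^ k * t * (y ^ k)⁻¹) * y⁻¹ := by
          rw [pow_succ']; group
      _ = c ^ k * (y * t * y⁻¹) := by rw [ih, ← mul_assoc, hk.eq]; group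
      _ = c ^ (k + 1) * t := by rw [h, pow_succ]; group

theorem commute_of_comm_fixed {c y t : G} {r q : ℕ} [hr : Fact r.Prime] [hq : Fact q.Prime]
    (hrq : r ≠ q) (hyr : y ^ r = 1) (hc : ∃ m : ℕ, c ^ q ^ m = 1) (hyc : y * c = c * y)
    (h : c = y * t * y⁻¹ * t⁻¹) : y * t = t * y := by
  have h' : y * t * y⁻¹ = c * t := by rw [h, inv_mul_cancel_right]
  have hcr : c ^ r = 1 := by
    have := conj_pow_eq hyc h' r
    rw [hyr, one_mul, inv_one, mul_one] at this
    exact mul_eq_right.1 this.symm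
  obtain ⟨m, hm⟩ := hc
  have hc1 : c = 1 := eq_one_of_pow_coprime
    (Nat.Coprime.pow_right _ ((Nat.coprime_primes hr.out hq.out).2 hrq)) hcr hm
  rw [hc1, one_mul] at h'
  exact mul_inv_eq_iff_eq_mul.1 h'

theorem conj_map_eq {H : Subgroup G} {x : G} (hx : x ∈ normalizer (H : Set G)) :
    H.map (MulAut.conj x).toMonoidHom = H := by
  ext z
  constructor
  · rintro ⟨h, hh, rfl⟩
    exact (mem_normalizer_iff.1 hx h).1 hh
  · intro hz
    refine ⟨x⁻¹ * z * x, (mem_normalizer_iff.1 hx _).2 (by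
      rwa [show x * (x⁻¹ * z * x) * x⁻¹ = z by group]), ?_⟩
    show x * (x⁻¹ * z * x) * x⁻¹ = z
    group

theorem mem_normalizer_commutator {H K : Subgroup G} {x : G}
    (hH : x ∈ normalizer (H : Set G)) (hK : x ∈ normalizer (K : Set G)) :
    x ∈ normalizer ((⁅H, K⁆ : Subgroup G) : Set G) := by
  rw [mem_normalizer_iff]
  intro z
  have h := Subgroup.map_commutator H K (MulAut.conj x).toMonoidHom
  rw [conj_map_eq hH, conj_map_eq hK] at h
  constructor
  · intro hz
    rw [← h]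
    exact ⟨z, hz, rfl⟩
  · intro hz
    rw [← h] at hz
    obtain ⟨z', hz', he⟩ := hz
    have : z' = z := (MulAut.conj x).injective he
    rwa [← this]

variable [Finite G]

/-- In a `q`-group generated by commutators with a coprime group of operators, a fixed element
lies in the derived group. -/
theorem fixed_mem_commutator {q r : ℕ} [hq : Fact q.Prime] [hr : Fact r.Prime] (hqr : q ≠ r)
    {Q P : Subgroup G} (hQ : IsPGroup q Q) (hP : IsPGroup r P)
    (hPQ : P ≤ normalizer (Q : Set G)) (hgen : Q ≤ ⁅Q, P⁆) {t : G} (ht : t ∈ Q)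
    (hfix : ∀ g ∈ P, g * t = t * g) : t ∈ ⁅Q, Q⁆ := by
  classical
  letI : Fintype P := Fintype.ofFinite P
  let φ : P → Q →* Q := fun g => MonoidHom.mk'
    (fun u => ⟨g * u * (g : G)⁻¹, (mem_normalizer_iff.1 (hPQ g.2) u).1 u.2⟩)
    (fun u v => Subtype.ext (by simp only [Subgroup.coe_mul]; group))
  let ν : Q →* Abelianization Q := MonoidHom.mk'
    (fun u => ∏ g : P, Abelianization.of (φ g u))
    (fun u v => by simp only [map_mul, Finset.prod_mul_distrib])
  have hν : ∀ u : Q, ν u = 1 := by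
    have hle : ⁅Q, P⁆ ≤ ν.ker.map Q.subtype := by
      rw [Subgroup.commutator_le]
      intro u hu g hg
      refine ⟨⟨u, hu⟩ * φ ⟨g, hg⟩ ⟨u⁻¹, inv_mem hu⟩, ?_, ?_⟩
      · rw [SetLike.mem_coe, MonoidHom.mem_ker, map_mul]
        have he : ν (φ ⟨g, hg⟩ ⟨u⁻¹, inv_mem hu⟩) = ν ⟨u⁻¹, inv_mem hu⟩ := by
          refine Fintype.prod_equiv (Equiv.mulRight (⟨g, hg⟩ : P)) _ _ fun k => ?_
          congr 1
          refine Subtype.ext ?_
          show (k : G) * (g * u⁻¹ * g⁻¹) * (k : G)⁻¹ = ((k : G) * g) * u⁻¹ * ((k : G) * g)⁻¹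
          group
        rw [he, ← map_mul, show (⟨u, hu⟩ : Q) * ⟨u⁻¹, inv_mem hu⟩ = 1 from
          Subtype.ext (mul_inv_cancel u), map_one]
      · show u * (g * u⁻¹ * g⁻¹) = u * g * u⁻¹ * g⁻¹
        group
    intro u
    obtain ⟨v, hv, he⟩ := hle (hgen u.2)
    rw [show u = v from Subtype.ext he.symm]
    exact hv
  have h1 := hν ⟨t, ht⟩
  have hconst : ∀ g : P, φ g ⟨t, ht⟩ = ⟨t, ht⟩ := fun g => Subtype.ext (by
    show (g : G) * t * (g : G)⁻¹ = t
    rw [hfix g g.2, mul_inv_cancel_right])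
  have h2 : Abelianization.of (⟨t, ht⟩ : Q) ^ Nat.card P = 1 := by
    rw [← h1, Nat.card_eq_fintype_card]
    show _ = ∏ g : P, Abelianization.of (φ g ⟨t, ht⟩)
    simp only [hconst, Finset.prod_const, Finset.card_univ]
  obtain ⟨i, hi⟩ := IsPGroup.iff_card.1 hP
  obtain ⟨m, hm⟩ := hQ ⟨t, ht⟩
  have h3 : Abelianization.of (⟨t, ht⟩ : Q) = 1 := by
    rw [hi] at h2
    refine eq_one_of_pow_coprime ?_ h2 (by rw [← map_pow, hm, map_one] :
      Abelianization.of (⟨t, ht⟩ : Q) ^ q ^ m = 1)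
    exact Nat.Coprime.pow _ _ ((Nat.coprime_primes hr.out hq.out).2 (Ne.symm hqr))
  rw [← MonoidHom.mem_ker, Abelianization.ker_of] at h3
  rw [← map_subtype_commutator]
  exact ⟨_, h3, rfl⟩

/-- The proper subgroup of a non-trivial `q`-group made of the elements which are `q`-th powers
modulo the derived group. -/
theorem exists_pow_subgroup {q : ℕ} [hq : Fact q.Prime] {Q : Subgroup G} (hQ : IsPGroup q Q)
    (hQ1 : Q ≠ ⊥) : ∃ R : Subgroup G, R ≤ Q ∧ R ≠ Q ∧ (∀ u ∈ Q, u ^ q ∈ R) ∧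
      ∀ x ∈ normalizer (Q : Set G), ∀ z ∈ R, x * z * x⁻¹ ∈ R := by
  set R₁ := (powMonoidHom q : Abelianization Q →* Abelianization Q).range.comap Abelianization.of
    with hR₁
  refine ⟨R₁.map Q.subtype, map_subtype_le _, ?_, fun u hu => ⟨⟨u, hu⟩ ^ q, ?_, rfl⟩, ?_⟩
  · intro h
    have htop : R₁ = ⊤ := by
      refine eq_top_iff.2 fun u _ => ?_
      obtain ⟨v, hv, he⟩ := (SetLike.ext_iff.1 h (u : G)).2 u.2
      rwa [show u = v from Subtype.ext he.symm]
    have hsurj : Function.Surjective (powMonoidHom q : Abelianization Q →* Abelianization Q) := by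
      intro x
      obtain ⟨u, rfl⟩ := Quotient.exists_rep x
      have : u ∈ R₁ := htop ▸ Subgroup.mem_top u
      exact this
    haveI : Finite (Abelianization Q) := Quotient.finite _
    have hinj := Finite.injective_iff_surjective.2 hsurj
    have hab : IsPGroup q (Abelianization Q) :=
      hQ.of_surjective Abelianization.of Quotient.mk''_surjective
    have h1 : ∀ x : Abelianization Q, x = 1 := by
      intro x
      by_contra hx
      obtain ⟨i, hi⟩ := IsPGroup.iff_card.1 hab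
      have hi0 : i ≠ 0 := by
        rintro rfl
        rw [pow_zero] at hi
        exact hx ((Nat.card_eq_one_iff_unique.1 hi).1.elim x 1)
      obtain ⟨z, hz⟩ := exists_prime_orderOf_dvd_card' q (hi ▸ dvd_pow_self q hi0)
      have hz1 : z = 1 := hinj (show z ^ q = 1 ^ q by rw [← hz, pow_orderOf_eq_one, one_pow])
      rw [hz1, orderOf_one] at hz
      exact hq.out.ne_one hz.symm
    haveI : Nontrivial Q := (Subgroup.nontrivial_iff_ne_bot Q).2 hQ1
    haveI := hQ.isNilpotent
    have hlt := IsSolvable.commutator_lt_top_of_nontrivial Q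
    refine hlt.ne (eq_top_iff.2 fun u _ => ?_)
    rw [← Abelianization.ker_of, MonoidHom.mem_ker]
    exact h1 _
  · rw [SetLike.mem_coe, hR₁, Subgroup.mem_comap, map_pow]
    exact ⟨_, rfl⟩
  · rintro x hx _ ⟨z, ⟨w, hw⟩, rfl⟩
    let φ : Q →* Q := MonoidHom.mk'
      (fun u => ⟨x * u * x⁻¹, (mem_normalizer_iff.1 hx u).1 u.2⟩)
      (fun u v => Subtype.ext (by simp only [Subgroup.coe_mul]; group))
    obtain ⟨v, rfl⟩ := Quotient.exists_rep w
    refine ⟨φ z, ⟨Abelianization.of (φ v), ?_⟩, rfl⟩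
    have h : Abelianization.map φ (Abelianization.of v ^ q) =
        Abelianization.map φ (Abelianization.of z) := congrArg _ hw
    rw [map_pow, Abelianization.map_of, Abelianization.map_of] at h
    exact h

theorem matrix_rank_map_le {n : Type*} [Fintype n] [DecidableEq n] {K L : Type*} [Field K]
    [Field L] [Algebra K L] (M : Matrix n n K) :
    Module.finrank L (LinearMap.range (Matrix.toLin' (M.map (algebraMap K L)))) ≤ M.rank := by
  classical
  let g : (n → K) →ₗ[K] (n → L) := (Algebra.linearMap K L).compLeft n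
  let U := LinearMap.range M.mulVecLin
  let bs := Module.finBasis K U
  have hle : LinearMap.range (Matrix.toLin' (M.map (algebraMap K L))) ≤
      Submodule.span L (Set.range fun i => g (bs i : n → K)) := by
    rw [Matrix.toLin'_apply', Matrix.range_mulVecLin, Submodule.span_le]
    rintro _ ⟨j, rfl⟩
    have hj : M.col j ∈ U := ⟨Pi.single j 1, by simp [Matrix.mulVec_single]⟩
    have he : (M.map (algebraMap K L)).col j = g ((∑ i, bs.repr ⟨M.col j, hj⟩ i • bs i : U) :) := by
      rw [bs.sum_repr]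
      rfl
    rw [SetLike.mem_coe, he, Submodule.coe_sum, map_sum]
    refine Submodule.sum_mem _ fun i _ => ?_
    rw [Submodule.coe_smul, map_smul, ← algebraMap_smul L]
    exact Submodule.smul_mem _ _ (Submodule.subset_span ⟨i, rfl⟩)
  refine (Submodule.finrank_mono hle).trans ((finrank_range_le_card _).trans ?_)
  simp [Matrix.rank, U]

/-- The rank bound for a faithful representation over the field of `r` elements. -/
theorem core_case {p r : ℕ} [hp : Fact p.Prime] [hr : Fact r.Prime] (hrp : r ≠ p) {n : ℕ}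
    (θ : G →* Matrix (Fin n) (Fin n) (ZMod r)) (hθ : Function.Injective θ)
    {A K P : Subgroup G} (hA : IsPGroup p A) (hAe : ∀ a ∈ A, a ^ p = 1)
    (hK : Group.IsSolvable K) (hKp : ¬ p ∣ Nat.card K) (hAK : A ≤ normalizer (K : Set G))
    (hcore : ∀ R : Subgroup G, R ≤ K → K ≤ normalizer (R : Set G) → IsPGroup r R → R = ⊥)
    (hPK : P ≤ K) (hP : IsPGroup r P) (hAP : A ≤ normalizer (P : Set G))
    (hCP : ∀ d ∈ K, (∀ a ∈ A, a * d = d * a) → d ∈ normalizer (P : Set G))
    {y : G} (hy : y ∈ P) (hyo : orderOf y = r) (hrk : (θ y - 1).rank ≤ 2) : False := by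
  classical
  have hyr : y ^ r = 1 := hyo ▸ pow_orderOf_eq_one y
  have hyK : y ∈ K := hPK hy
  haveI := hK
  -- a prime `q` whose core is not centralised by `y`
  set Fi := Cfsg.fittingSubgroup K with hFi
  set yK : K := ⟨y, hyK⟩ with hyKdef
  obtain ⟨⟨q, hqp⟩, hqy⟩ : ∃ q : Nat.Primes,
      yK ∉ centralizer (Cfsg.pCore (q : ℕ) K : Set K) := by
    by_contra hno
    push Not at hno
    have hC : yK ∈ centralizer (Fi : Set K) := by
      rw [hFi, CfsgLib.Solvable.fittingSubgroup_eq_iSup_pCore]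
      rw [← Subgroup.zpowers_le, Subgroup.le_centralizer_iff]
      refine iSup_le fun q => ?_
      rw [Subgroup.le_centralizer_iff, Subgroup.zpowers_le]
      exact hno q
    have hle := CfsgLib.Fitting.centralizer_fittingSubgroup_le_of_solvable (G := K)
    set T := Fi ⊓ centralizer (Fi : Set K) with hT
    have hcomm : ∀ a ∈ T, ∀ c ∈ T, a * c = c * a := fun a ha c hc =>
      (mem_centralizer_iff.1 hc.2 a ha.1)
    let R : Subgroup K :=
      { carrier := {a | a ∈ T ∧ ∃ i : ℕ, a ^ r ^ i = 1}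
        one_mem' := ⟨one_mem T, 0, by simp⟩
        mul_mem' := fun {a c} ⟨ha, i, hi⟩ ⟨hc, j, hj⟩ => ⟨mul_mem ha hc, i + j, by
          rw [(show Commute a c from hcomm a ha c hc).mul_pow, pow_add, pow_mul, hi, one_pow,
            one_mul, mul_comm, pow_mul, hj, one_pow]⟩
        inv_mem' := fun {a} ⟨ha, i, hi⟩ => ⟨inv_mem ha, i, by rw [inv_pow, hi, inv_one]⟩ }
    haveI : Fi.Normal := CfsgLib.Solvable.fittingSubgroup_normal
    haveI : T.Normal := inferInstance
    have hR := hcore (R.map K.subtype) (map_subtype_le _) ?_ ?_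
    · have : y ∈ R.map K.subtype :=
        ⟨yK, ⟨⟨hle hC, hC⟩, 1, Subtype.ext (by simpa using hyr)⟩, rfl⟩
      rw [hR, Subgroup.mem_bot] at this
      rw [this, orderOf_one] at hyo
      exact hr.out.ne_one hyo.symm
    · intro k hk
      rw [mem_normalizer_iff]
      intro z
      constructor
      · rintro ⟨w, ⟨hw, i, hi⟩, rfl⟩
        refine ⟨⟨k, hk⟩ * w * ⟨k, hk⟩⁻¹, ⟨Subgroup.Normal.conj_mem inferInstance w hw _, i, ?_⟩,
          rfl⟩
        rw [conj_pow, hi, mul_one, mul_inv_cancel]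
      · rintro ⟨w, ⟨hw, i, hi⟩, he⟩
        refine ⟨⟨k, hk⟩⁻¹ * w * (⟨k, hk⟩⁻¹)⁻¹,
          ⟨Subgroup.Normal.conj_mem inferInstance w hw _, i, ?_⟩, ?_⟩
        · rw [conj_pow, hi, mul_one, mul_inv_cancel]
        · show k⁻¹ * (w : G) * k⁻¹⁻¹ = z
          rw [show (w : G) = k * z * k⁻¹ from he]
          group
    · rintro ⟨_, w, ⟨-, i, hi⟩, rfl⟩
      exact ⟨i, Subtype.ext (by
        show (w : G) ^ r ^ i = 1
        rw [← SubmonoidClass.coe_pow, hi]; rfl)⟩
  haveI : Fact q.Prime := ⟨hqp⟩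
  change yK ∉ centralizer (Cfsg.pCore q K : Set K) at hqy
  set Q₀ := (Cfsg.pCore q K).map K.subtype with hQ₀
  have hQ₀p : IsPGroup q Q₀ := (CfsgLib.Solvable.isPGroup_pCore q).map _
  have hQ₀K : Q₀ ≤ K := map_subtype_le _
  have hQ₀inv : ∀ x ∈ normalizer (K : Set G), ∀ z ∈ Q₀, x * z * x⁻¹ ∈ Q₀ := by
    rintro x hx _ ⟨w, hw, rfl⟩
    let φ : K ≃* K :=
      { toFun := fun u => ⟨x * u * x⁻¹, (mem_normalizer_iff.1 hx u).1 u.2⟩
        invFun := fun u => ⟨x⁻¹ * u * x, by
          have h := (mem_normalizer_iff.1 (inv_mem hx) u).1 u.2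
          rwa [inv_inv] at h⟩
        left_inv := fun u => Subtype.ext (by
          show x⁻¹ * (x * u * x⁻¹) * x = u
          group)
        right_inv := fun u => Subtype.ext (by
          show x * (x⁻¹ * u * x) * x⁻¹ = u
          group)
        map_mul' := fun u v => Subtype.ext (by simp only [Subgroup.coe_mul]; group) }
    have hN : ((Cfsg.pCore q K).map φ.toMonoidHom) ≤ Cfsg.pCore q K :=
      le_sSup ⟨Subgroup.Normal.map inferInstance _ φ.surjective,
        (CfsgLib.Solvable.isPGroup_pCore q).map _⟩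
    exact ⟨φ w, hN ⟨w, hw, rfl⟩, rfl⟩
  have hQ₀n : ∀ x ∈ normalizer (K : Set G), x ∈ normalizer (Q₀ : Set G) := by
    intro x hx
    rw [mem_normalizer_iff]
    intro z
    refine ⟨hQ₀inv x hx z, fun hz => ?_⟩
    have h := hQ₀inv x⁻¹ (inv_mem hx) _ hz
    rwa [show x⁻¹ * (x * z * x⁻¹) * x⁻¹⁻¹ = z by group] at h
  obtain ⟨t₀, ht₀, hyt₀⟩ : ∃ t ∈ Q₀, y * t ≠ t * y := by
    by_contra hno
    push Not at hno
    refine hqy (mem_centralizer_iff.2 fun w hw => Subtype.ext ?_)
    exact (hno w ⟨w, hw, rfl⟩).symm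
  have hqr : q ≠ r := by
    rintro rfl
    have h := hcore Q₀ hQ₀K (fun k hk => hQ₀n k (le_normalizer hk)) hQ₀p
    rw [h, Subgroup.mem_bot] at ht₀
    exact hyt₀ (by rw [ht₀, mul_one, one_mul])
  have hpq : p ≠ q := by
    rintro rfl
    obtain ⟨i, hi⟩ := IsPGroup.iff_card.1 hQ₀p
    rcases Nat.eq_zero_or_pos i with rfl | hi0
    · rw [pow_zero] at hi
      rw [Subgroup.card_eq_one.1 hi, Subgroup.mem_bot] at ht₀
      exact hyt₀ (by rw [ht₀, mul_one, one_mul])
    · exact hKp ((hi ▸ dvd_pow_self p hi0.ne').trans (Subgroup.card_dvd_of_le hQ₀K))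
  -- a minimal invariant subgroup which is not centralised
  let Good : Subgroup G → Prop := fun R => R ≤ Q₀ ∧ A ≤ normalizer (R : Set G) ∧
    y ∈ normalizer (R : Set G) ∧ ∃ t ∈ R, y * t ≠ t * y
  have hex : ∃ m, ∃ R, Good R ∧ Nat.card R = m :=
    ⟨_, Q₀, ⟨le_rfl, fun a ha => hQ₀n a (hAK ha), hQ₀n y (le_normalizer hyK),
      t₀, ht₀, hyt₀⟩, rfl⟩
  obtain ⟨Q, ⟨hQ0, hAQ, hyQ, t₁, ht₁, hyt₁⟩, hQcard⟩ := Nat.find_spec hex
  have hmin : ∀ R ≤ Q, R ≠ Q → A ≤ normalizer (R : Set G) → y ∈ normalizer (R : Set G) →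
      ∀ t ∈ R, y * t = t * y := by
    intro R hR hne hAR hyR t ht
    by_contra h
    have h1 := Nat.find_le (h := hex)
      ⟨R, ⟨hR.trans hQ0, hAR, hyR, t, ht, h⟩, rfl⟩
    rw [← hQcard] at h1
    exact hne (Subgroup.eq_of_le_of_card_ge hR h1)
  have hQp : IsPGroup q Q := hQ₀p.to_le hQ0
  set P₁ := conjGen A y with hP₁
  have hP₁P : P₁ ≤ P := by
    rw [hP₁, conjGen, Subgroup.closure_le]
    rintro _ ⟨a, ha, rfl⟩
    exact (mem_normalizer_iff.1 (hAP ha) y).1 hy
  have hP₁r : IsPGroup r P₁ := hP.to_le hP₁P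
  have hAP₁ : A ≤ normalizer (P₁ : Set G) := by
    intro a ha
    rw [mem_normalizer_iff]
    intro z
    refine ⟨fun hz => conj_mem_conjGen ha hz, fun hz => ?_⟩
    have h := conj_mem_conjGen (inv_mem ha) hz
    rwa [show a⁻¹ * (a * z * a⁻¹) * a⁻¹⁻¹ = z by group] at h
  have hP₁Q : P₁ ≤ normalizer (Q : Set G) := by
    rw [hP₁, conjGen, Subgroup.closure_le]
    rintro _ ⟨a, ha, rfl⟩
    exact mul_mem (mul_mem (hAQ ha) hyQ) (inv_mem (hAQ ha))
  have hcentR : ∀ R ≤ Q, R ≠ Q → A ≤ normalizer (R : Set G) → y ∈ normalizer (R : Set G) →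
      ∀ g ∈ P₁, ∀ t ∈ R, g * t = t * g := by
    intro R hR hne hAR hyR g hg t ht
    have hle : P₁ ≤ centralizer (R : Set G) := by
      rw [hP₁, conjGen, Subgroup.closure_le]
      rintro _ ⟨a, ha, rfl⟩
      rw [SetLike.mem_coe, mem_centralizer_iff]
      intro x hx
      have hx' : a⁻¹ * x * a ∈ R := by
        have := (mem_normalizer_iff.1 (inv_mem (hAR ha)) x).1 hx
        rwa [inv_inv] at this
      have h := hmin R hR hne hAR hyR _ hx'
      calc x * (a * y * a⁻¹) = a * ((a⁻¹ * x * a) * y) * a⁻¹ := by group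
        _ = a * (y * (a⁻¹ * x * a)) * a⁻¹ := by rw [h]
        _ = a * y * a⁻¹ * x := by group
    exact (mem_centralizer_iff.1 (hle hg) t ht).symm
  have hNQ : ∀ x ∈ normalizer (Q : Set G), x ∈ normalizer ((⁅Q, Q⁆ : Subgroup G) : Set G) :=
    fun x hx => mem_normalizer_commutator hx hx
  have hQ1 : Q ≠ ⊥ := by
    intro h
    rw [h, Subgroup.mem_bot] at ht₁
    exact hyt₁ (by rw [ht₁, mul_one, one_mul])
  have hQQ : (⁅Q, Q⁆ : Subgroup G) ≤ Q := Subgroup.commutator_le_self Q
  have hQQne : (⁅Q, Q⁆ : Subgroup G) ≠ Q := by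
    intro h
    haveI : Nontrivial Q := (Subgroup.nontrivial_iff_ne_bot Q).2 hQ1
    haveI := hQp.isNilpotent
    refine (IsSolvable.commutator_lt_top_of_nontrivial Q).ne ?_
    apply Subgroup.map_injective Q.subtype_injective
    rw [map_subtype_commutator, h, ← MonoidHom.range_eq_map, Subgroup.range_subtype]
  have hQQc := hcentR _ hQQ hQQne (fun a ha => hNQ a (hAQ ha)) (hNQ y hyQ)
  have hgen : Q ≤ ⁅Q, P₁⁆ := by
    set R := (⁅Q, P₁⁆ : Subgroup G) with hR
    have hRQ : R ≤ Q := by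
      rw [hR, Subgroup.commutator_le]
      intro u hu g hg
      rw [show ⁅u, g⁆ = u * (g * u⁻¹ * g⁻¹) by rw [commutatorElement_def]; group]
      exact mul_mem hu ((mem_normalizer_iff.1 (hP₁Q hg) _).1 (inv_mem hu))
    by_contra hne
    have hne' : R ≠ Q := fun h => hne h.ge
    have h := hmin R hRQ hne' (fun a ha => mem_normalizer_commutator (hAQ ha) (hAP₁ ha))
      (mem_normalizer_commutator hyQ (le_normalizer self_mem_conjGen))
    have hc : y * t₁ * y⁻¹ * t₁⁻¹ ∈ R := by
      rw [hR, Subgroup.commutator_comm, ← commutatorElement_def]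
      exact Subgroup.commutator_mem_commutator self_mem_conjGen ht₁
    obtain ⟨m, hm⟩ := hQp ⟨_, hRQ hc⟩
    exact hyt₁ (commute_of_comm_fixed (Ne.symm hqr) hyr ⟨m, congrArg Subtype.val hm⟩ (h _ hc) rfl)
  have hnorm : ∀ t ∈ Q, (∀ g ∈ P₁, g * t = t * g) → t ∈ ⁅Q, Q⁆ := fun t ht h =>
    fixed_mem_commutator hqr hQp hP₁r hP₁Q hgen ht h
  -- the fixed points of `P₁` are central
  have hcent : ∀ t ∈ Q, (∀ g ∈ P₁, g * t = t * g) → ∀ u ∈ Q, t * u = u * t := by
    set C := Q ⊓ centralizer (P₁ : Set G) with hC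
    have h1 : ⁅⁅P₁, C⁆, Q⁆ = ⊥ := by
      have : (⁅P₁, C⁆ : Subgroup G) = ⊥ := by
        rw [Subgroup.commutator_eq_bot_iff_le_centralizer, Subgroup.le_centralizer_iff]
        exact inf_le_right
      rw [this, Subgroup.commutator_bot_left]
    have h2 : ⁅⁅C, Q⁆, P₁⁆ = ⊥ := by
      rw [Subgroup.commutator_eq_bot_iff_le_centralizer]
      refine (Subgroup.commutator_mono inf_le_left le_rfl).trans fun z hz => ?_
      exact mem_centralizer_iff.2 fun g hg => hQQc g hg z hz
    have h3 := Subgroup.commutator_commutator_eq_bot_of_rotate h1 h2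
    have h4 : (⁅Q, C⁆ : Subgroup G) = ⊥ :=
      eq_bot_iff.2 (le_of_le_of_eq (Subgroup.commutator_mono hgen le_rfl) h3)
    intro t ht htP u hu
    have htC : t ∈ C := ⟨ht, mem_centralizer_iff.2 htP⟩
    exact (mem_centralizer_iff.1
      ((Subgroup.commutator_eq_bot_iff_le_centralizer.1 h4) hu) t htC)
  have hBcentral : ∀ x ∈ (⁅Q, Q⁆ : Subgroup G), ∀ u ∈ Q, x * u = u * x := fun x hx =>
    hcent x (hQQ hx) fun g hg => hQQc g hg x hx
  obtain ⟨R₀, hR₀Q, hR₀ne, hR₀pow, hR₀inv⟩ := exists_pow_subgroup hQp hQ1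
  have hR₀n : ∀ x ∈ normalizer (Q : Set G), x ∈ normalizer (R₀ : Set G) := by
    intro x hx
    rw [mem_normalizer_iff]
    intro z
    refine ⟨hR₀inv x hx z, fun hz => ?_⟩
    have h := hR₀inv x⁻¹ (inv_mem hx) _ hz
    rwa [show x⁻¹ * (x * z * x⁻¹) * x⁻¹⁻¹ = z by group] at h
  have hR₀c := hcentR R₀ hR₀Q hR₀ne (fun a ha => hR₀n a (hAQ ha)) (hR₀n y hyQ)
  have hpow : ∀ u ∈ Q, u ^ q ∈ ⁅Q, Q⁆ := fun u hu =>
    hnorm _ (pow_mem hu q) fun g hg => hR₀c g hg _ (hR₀pow u hu)
  have hpowc : ∀ u ∈ Q, ∀ v ∈ Q, u ^ q * v = v * u ^ q := fun u hu =>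
    hBcentral _ (hpow u hu)
  have hBexp : ∀ x ∈ (⁅Q, Q⁆ : Subgroup G), x ^ q = 1 := by
    intro x hx
    rw [Subgroup.commutator_def] at hx
    induction hx using Subgroup.closure_induction with
    | mem x hx =>
      obtain ⟨u, hu, v, hv, rfl⟩ := hx
      have hm : ⁅u, v⁆ ∈ (⁅Q, Q⁆ : Subgroup G) := Subgroup.commutator_mem_commutator hu hv
      have hi := conj_pow_eq (c := ⁅u, v⁆) (y := u) (t := v)
        (hBcentral _ hm u hu).symm (by rw [commutatorElement_def, inv_mul_cancel_right]) q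
      rw [hpowc u hu v hv, mul_inv_cancel_right] at hi
      exact mul_eq_right.1 hi.symm
    | one => exact one_pow q
    | mul a c ha hc h1 h2 =>
      rw [← Subgroup.commutator_def] at ha hc
      rw [(show Commute a c from hBcentral a ha c (hQQ hc)).mul_pow, h1, h2, one_mul]
    | inv a _ h1 => rw [inv_pow, h1, inv_one]
  have hkey : ∀ d ∈ Q, (∀ a ∈ A, a * d = d * a) → ∀ g ∈ P₁, g * d = d * g := by
    intro d hd hda
    have hyd : y * d = d * y := by
      have h1 : d * y * d⁻¹ * y⁻¹ ∈ Q := by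
        rw [show d * y * d⁻¹ * y⁻¹ = d * (y * d⁻¹ * y⁻¹) by group]
        exact mul_mem hd ((mem_normalizer_iff.1 hyQ _).1 (inv_mem hd))
      have h2 : d * y * d⁻¹ * y⁻¹ ∈ P :=
        mul_mem ((mem_normalizer_iff.1 (hCP d (hQ₀K (hQ0 hd)) hda) y).1 hy) (inv_mem hy)
      have h3 : d * y * d⁻¹ * y⁻¹ = 1 := by
        obtain ⟨i, hi⟩ := hQp ⟨_, h1⟩
        obtain ⟨j, hj⟩ := hP ⟨_, h2⟩
        exact eq_one_of_pow_coprime (Nat.Coprime.pow _ _ ((Nat.coprime_primes hqp hr.out).2 hqr))
          (congrArg Subtype.val hi : _ ^ q ^ i = (1 : G))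
          (congrArg Subtype.val hj : _ ^ r ^ j = (1 : G))
      rw [mul_inv_eq_one, mul_inv_eq_iff_eq_mul] at h3
      exact h3.symm
    intro g hg
    have hle : P₁ ≤ centralizer ({d} : Set G) := by
      rw [hP₁, conjGen, Subgroup.closure_le]
      rintro _ ⟨a, ha, rfl⟩
      rw [SetLike.mem_coe, mem_centralizer_iff]
      rintro x (rfl : x = d)
      have ha' := hda a ha
      calc x * (a * y * a⁻¹) = (x * a) * y * a⁻¹ := by group
        _ = a * (x * y) * a⁻¹ := by rw [← ha']; group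
        _ = a * (y * x) * a⁻¹ := by rw [hyd]
        _ = a * y * ((x * a⁻¹)) := by group
        _ = a * y * (a⁻¹ * x) := by
          rw [(show Commute a x from ha').inv_left.eq]
        _ = a * y * a⁻¹ * x := by group
    exact (mem_centralizer_iff.1 (hle hg) d rfl).symm
  -- the field and the representation
  have hq2 := hqp.two_le
  let F := GaloisField r (q - 1)
  haveI : Finite F := inferInstance
  have hcardF : Nat.card F = r ^ (q - 1) := GaloisField.card r (q - 1) (by omega)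
  obtain ⟨ω, hω⟩ : ∃ ω : F, IsPrimitiveRoot ω q := by
    haveI := Fintype.ofFinite F
    have hd : q ∣ Nat.card Fˣ := by
      rw [Nat.card_units, hcardF]
      have h := Nat.ModEq.pow_totient ((Nat.coprime_primes hr.out hqp).2 (Ne.symm hqr))
      rw [Nat.totient_prime hqp] at h
      exact (Nat.modEq_iff_dvd' (Nat.one_le_pow _ _ hr.out.pos)).1 h.symm
    obtain ⟨z, hz⟩ := exists_prime_orderOf_dvd_card' q hd
    refine ⟨(z : F), ?_⟩
    have h := IsPrimitiveRoot.orderOf (z : F)
    rw [orderOf_units, hz] at h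
    exact h
  have hqF : (q : F) ≠ 0 := fun h =>
    hqr ((Nat.prime_dvd_prime_iff_eq hr.out hqp).1 ((CharP.cast_eq_zero_iff F r q).1 h)).symm
  set L := normalizer (Q : Set G) with hL
  let ρ : L →* Module.End F (Fin n → F) :=
    { toFun := fun g => Matrix.toLin' ((θ (g : G)).map (algebraMap (ZMod r) F))
      map_one' := by
        rw [OneMemClass.coe_one, map_one, Matrix.map_one _ (map_zero _) (map_one _),
          Matrix.toLin'_one]
        rfl
      map_mul' := fun g g' => by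
        rw [Subgroup.coe_mul, map_mul, Matrix.map_mul, Matrix.toLin'_mul,
          Module.End.mul_eq_comp] }
  have hρ : Function.Injective ρ := by
    intro g g' h
    refine Subtype.ext (hθ ?_)
    exact Matrix.map_injective (algebraMap (ZMod r) F).injective (Matrix.toLin'.injective h)
  set yL : L := ⟨y, hyQ⟩ with hyL
  have hyLo : orderOf yL = r := by rw [← Subgroup.orderOf_coe]; exact hyo
  have hrk' : Module.finrank F (LinearMap.range (ρ yL - 1)) ≤ 2 := by
    refine le_trans (le_of_eq ?_) ((matrix_rank_map_le (L := F) (θ y - 1)).trans hrk)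
    have e : ρ yL - 1 = Matrix.toLin' ((θ y - 1).map (algebraMap (ZMod r) F)) := by
      rw [Matrix.map_sub _ (map_sub _), Matrix.map_one _ (map_zero _) (map_one _), map_sub,
        Matrix.toLin'_one]
      rfl
    rw [e]
  set QL := Q.subgroupOf L with hQL
  set AL := A.subgroupOf L with hAL
  haveI hQLn : QL.Normal := normal_subgroupOf_iff_le_normalizer le_normalizer |>.2 le_rfl
  have hQLp : IsPGroup q QL := hQp.comap_of_injective L.subtype L.subtype_injective
  have hALp : IsPGroup p AL := hA.comap_of_injective L.subtype L.subtype_injective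
  have hALe : ∀ a ∈ AL, a ^ p = 1 := fun a ha => Subtype.ext (by
    simpa using hAe _ ha)
  have hconj : ∀ g : L, g ∈ conjGen AL yL → (g : G) ∈ P₁ := by
    intro g hg
    have hle : conjGen AL yL ≤ P₁.subgroupOf L := by
      rw [conjGen, Subgroup.closure_le]
      rintro _ ⟨a, ha, rfl⟩
      exact mem_conjGen (y := y) (show (a : G) ∈ A from ha)
    exact hle hg
  have hPL : IsPGroup r (conjGen AL yL) :=
    IsPGroup.to_le (hP₁r.comap_of_injective L.subtype L.subtype_injective) fun g hg => hconj g hg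
  have hmoved : ∃ t ∈ QL, yL * t * yL⁻¹ ≠ t := by
    refine ⟨⟨t₁, le_normalizer ht₁⟩, ht₁, fun h => hyt₁ ?_⟩
    exact mul_inv_eq_iff_eq_mul.1 (congrArg Subtype.val h)
  have hfixA : ∀ d : L, d ∈ QL → (∀ a ∈ AL, a * d = d * a) → ∀ g ∈ P₁, g * (d : G) = d * g :=
    fun d hd hda => hkey d hd fun a ha =>
      congrArg Subtype.val (hda ⟨a, hAQ ha⟩ ha)
  by_cases hab : (⁅Q, Q⁆ : Subgroup G) = ⊥
  · refine abelian_case ρ hρ hpq (Ne.symm hrp) hqr hqF hω QL ?_ ?_ hALp hyLo hPL ?_ hmoved hrk'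
    · intro u hu v hv
      refine Subtype.ext ?_
      have h := (Subgroup.commutator_eq_bot_iff_le_centralizer.1 hab) hu
      exact (mem_centralizer_iff.1 h v hv).symm
    · intro u hu
      refine Subtype.ext ?_
      have := hpow _ hu
      rw [hab, Subgroup.mem_bot] at this
      simpa using this
    · intro d hd hda
      refine Subtype.ext ?_
      have := hnorm _ hd (hfixA d hd hda)
      rw [hab, Subgroup.mem_bot] at this
      exact this
  -- the non-abelian case
  set BL := (⁅Q, Q⁆ : Subgroup G).subgroupOf L with hBL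
  haveI : BL.Normal := (normal_subgroupOf_iff_le_normalizer (hQQ.trans le_normalizer)).2
    fun x hx => hNQ x hx
  let Z := Q ⊓ centralizer (Q : Set G)
  have hZne : Z ≠ Q := by
    intro h
    refine hab (Subgroup.commutator_eq_bot_iff_le_centralizer.2 ?_)
    conv_lhs => rw [← h]
    exact inf_le_right
  have hZn : ∀ x ∈ normalizer (Q : Set G), x ∈ normalizer (Z : Set G) := by
    intro x hx
    rw [mem_normalizer_iff]
    intro z
    have hcn : ∀ x ∈ normalizer (Q : Set G), ∀ z, z ∈ Z → x * z * x⁻¹ ∈ Z := by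
      rintro x hx z ⟨hzQ, hzc⟩
      refine ⟨(mem_normalizer_iff.1 hx z).1 hzQ, mem_centralizer_iff.2 fun v hv => ?_⟩
      have hv' : x⁻¹ * v * x ∈ Q := by
        have := (mem_normalizer_iff.1 (inv_mem hx) v).1 hv
        rwa [inv_inv] at this
      have h := mem_centralizer_iff.1 hzc _ hv'
      calc v * (x * z * x⁻¹) = x * ((x⁻¹ * v * x) * z) * x⁻¹ := by group
        _ = x * (z * (x⁻¹ * v * x)) * x⁻¹ := by rw [h]
        _ = x * z * x⁻¹ * v := by group
    refine ⟨hcn x hx z, fun hz => ?_⟩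
    have h := hcn x⁻¹ (inv_mem hx) _ hz
    rwa [show x⁻¹ * (x * z * x⁻¹) * x⁻¹⁻¹ = z by group] at h
  have hZc := hcentR Z inf_le_left hZne (fun a ha => hZn a (hAQ ha)) (hZn y hyQ)
  have hF3 : r = 3 → q = 2 → Nat.card F = 3 := by
    intro h3 h2
    rw [hcardF, h3, h2]
    norm_num
  refine nonabelian_case ρ hρ hpq (Ne.symm hrp) hqr hqF hω hF3 (fun v i => v i ^ r) ?_ ?_ ?_
    QL BL hQLp (fun x hx => hQQ hx) ?_ ?_ ?_ ?_ hALp hALe hyLo hPL ?_ ?_ hmoved hrk'
  · intro v hv
    funext i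
    exact (pow_eq_zero_iff hr.out.ne_zero).1 (congrFun hv i)
  · intro a v
    funext i
    exact mul_pow a (v i) r
  · intro g v
    funext i
    show (((θ (g : G)).map (algebraMap (ZMod r) F)).mulVec v) i ^ r =
      ((θ (g : G)).map (algebraMap (ZMod r) F)).mulVec (fun j => v j ^ r) i
    simp only [Matrix.mulVec, dotProduct, Matrix.map_apply]
    rw [sum_pow_char r]
    refine Finset.sum_congr rfl fun j _ => ?_
    rw [mul_pow, ← map_pow, ZMod.pow_card]
  · intro x hx u hu
    exact Subtype.ext (hBcentral _ hx _ hu)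
  · intro x hx
    exact Subtype.ext (by simpa using hBexp _ hx)
  · intro u hu g hg
    show ((u * g * u⁻¹ * g⁻¹ : L) : G) ∈ ⁅Q, Q⁆
    simp only [← commutatorElement_def]
    exact Subgroup.commutator_mem_commutator hu hg
  · intro u hu
    show ((u ^ q : L) : G) ∈ ⁅Q, Q⁆
    rw [SubmonoidClass.coe_pow]
    exact hpow _ hu
  · intro d hd hda g hg
    exact Subtype.ext (hcent _ hd (hfixA d hd hda) _ hg)
  · intro u hu huc
    refine Subtype.ext ?_
    exact hZc y self_mem_conjGen (u : G) ⟨hu, mem_centralizer_iff.2 fun v hv =>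
      (congrArg Subtype.val (huc ⟨v, le_normalizer hv⟩ hv)).symm⟩

end CfsgLib.SFT
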