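import Mathlib

/-!
Weights of a commutative normal subgroup in a linear representation over a field with enough
roots of unity, and the elementary rank estimates for an element permuting the weights.
-/

set_option autoImplicit false
set_option linter.style.haveILetI false
set_option linter.deprecated false
set_option linter.unusedSectionVars false

namespace CfsgLib.SFT.Wt

open Subgroup

variable {F : Type*} [Field F]

/-- Simultaneous eigenvectors for pairwise different characters which sum to zero are zero. -/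
theorem eigen_zero {B M : Type*} [Monoid B] [AddCommGroup M] [Module F M]
    (T : B → M →ₗ[F] M) {ι : Type*} (s : Finset ι) (η : ι → B →* F) (hinj : Set.InjOn η s)
    (v : ι → M) (hv : ∀ i ∈ s, ∀ b, T b (v i) = η i b • v i) (h0 : ∑ i ∈ s, v i = 0) :
    ∀ i ∈ s, v i = 0 := by
  intro i hi
  rw [← Module.forall_dual_apply_eq_zero_iff F]
  intro φ
  have hli : LinearIndependent F (fun j : s => (⇑(η j) : B → F)) :=
    (linearIndependent_monoidHom B F).comp (fun j : s => η j)
      (fun j k h => Subtype.ext (hinj j.2 k.2 h))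
  refine Fintype.linearIndependent_iff.1 hli (fun j => φ (v j)) ?_ ⟨i, hi⟩
  funext b
  have h := congrArg (fun x => φ (T b x)) h0
  simp only [map_sum, map_zero] at h
  rw [← Finset.sum_coe_sort s] at h
  rw [Finset.sum_apply, Pi.zero_apply, ← h]
  refine Finset.sum_congr rfl fun j _ => ?_
  rw [hv j j.2 b, map_smul, Pi.smul_apply, smul_eq_mul, smul_eq_mul, mul_comm]

/-- In a vanishing sum of simultaneous eigenvectors a term with a character of its own vanishes. -/
theorem eigen_single {B M : Type*} [Monoid B] [AddCommGroup M] [Module F M]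
    (T : B → M →ₗ[F] M) {ι : Type*} (s : Finset ι) (η : ι → B →* F)
    (v : ι → M) (hv : ∀ i ∈ s, ∀ b, T b (v i) = η i b • v i) (h0 : ∑ i ∈ s, v i = 0)
    {i₀ : ι} (hi₀ : i₀ ∈ s) (hne : ∀ i ∈ s, i ≠ i₀ → η i ≠ η i₀) : v i₀ = 0 := by
  classical
  let w : (B →* F) → M := fun e => ∑ i ∈ s.filter (fun i => η i = e), v i
  have hw : ∀ e ∈ s.image η, ∀ b, T b (w e) = e b • w e := by
    intro e _ b
    simp only [w, map_sum, Finset.smul_sum]
    refine Finset.sum_congr rfl fun i hi => ?_
    obtain ⟨hi1, hi2⟩ := Finset.mem_filter.1 hi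
    rw [hv i hi1 b, hi2]
  have hs : ∑ e ∈ s.image η, w e = 0 := by
    rw [← h0]
    exact Finset.sum_fiberwise_of_maps_to (fun i hi => Finset.mem_image_of_mem η hi) v
  have h := eigen_zero T (s.image η) id (fun _ _ _ _ h => h) w hw hs (η i₀)
    (Finset.mem_image_of_mem η hi₀)
  have hf : s.filter (fun i => η i = η i₀) = {i₀} := by
    ext i
    simp only [Finset.mem_filter, Finset.mem_singleton]
    exact ⟨fun h => by_contra fun hh => hne i h.1 hh h.2, fun h => by subst h; exact ⟨hi₀, rfl⟩⟩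
  simpa [w, hf] using h

variable {V : Type*} [AddCommGroup V] [Module F V] {G : Type*} [Group G]
  (ρ : G →* Module.End F V) (B : Subgroup G)

/-- The weight space of the character `χ` of `B`. -/
def wt (χ : B →* Fˣ) : Submodule F V where
  carrier := {v | ∀ b : B, ρ b v = ((χ b : Fˣ) : F) • v}
  add_mem' := fun {u v} hu hv b => by rw [map_add, hu b, hv b, smul_add]
  zero_mem' := fun b => by rw [map_zero, smul_zero]
  smul_mem' := fun a v hv b => by rw [map_smul, hv b, smul_comm]

variable {ρ B}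

theorem mem_wt {χ : B →* Fˣ} {v : V} :
    v ∈ wt ρ B χ ↔ ∀ b : B, ρ b v = ((χ b : Fˣ) : F) • v := Iff.rfl

/-- The conjugate of a character of a normal subgroup. -/
def cj [B.Normal] (g : G) (χ : B →* Fˣ) : B →* Fˣ :=
  χ.comp ((MulAut.conjNormal g⁻¹ : MulAut B) : B →* B)

theorem cj_apply [B.Normal] (g : G) (χ : B →* Fˣ) (b : B) :
    cj g χ b = χ (MulAut.conjNormal g⁻¹ b) := rfl

theorem cj_one [B.Normal] (χ : B →* Fˣ) : cj 1 χ = χ := by
  ext b
  simp [cj_apply]

theorem cj_mul [B.Normal] (g h : G) (χ : B →* Fˣ) : cj (g * h) χ = cj g (cj h χ) := by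
  ext b
  simp only [cj_apply, mul_inv_rev, map_mul, MulAut.mul_apply]

/-- The conjugation action of the group on the characters of a normal subgroup. -/
@[reducible] def charAction [B.Normal] : MulAction G (B →* Fˣ) where
  smul := cj
  one_smul := cj_one
  mul_smul := cj_mul

theorem cj_hom_mul [B.Normal] (g : G) (χ ψ : B →* Fˣ) : cj g (χ * ψ) = cj g χ * cj g ψ := rfl

theorem cj_hom_one [B.Normal] (g : G) : cj g (1 : B →* Fˣ) = 1 := rfl

theorem cj_hom_pow [B.Normal] (g : G) (χ : B →* Fˣ) (n : ℕ) : cj g (χ ^ n) = cj g χ ^ n := rfl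

theorem cj_hom_inv [B.Normal] (g : G) (χ : B →* Fˣ) : cj g χ⁻¹ = (cj g χ)⁻¹ := rfl

theorem cj_hom_div [B.Normal] (g : G) (χ ψ : B →* Fˣ) : cj g (χ / ψ) = cj g χ / cj g ψ := rfl

theorem map_mem_wt [B.Normal] (g : G) {χ : B →* Fˣ} {v : V} (hv : v ∈ wt ρ B χ) :
    ρ g v ∈ wt ρ B (cj g χ) := by
  intro b
  have h : (b : G) * g = g * ((MulAut.conjNormal g⁻¹ b : B) : G) := by
    rw [MulAut.conjNormal_apply, inv_inv]
    group
  rw [← Module.End.mul_apply, ← map_mul, h, map_mul, Module.End.mul_apply,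
    hv (MulAut.conjNormal g⁻¹ b), map_smul, cj_apply]

theorem map_ne_zero (g : G) {v : V} (hv : v ≠ 0) : ρ g v ≠ 0 := by
  intro h
  have := congrArg (ρ g⁻¹) h
  rw [← Module.End.mul_apply, ← map_mul, inv_mul_cancel, map_one, Module.End.one_apply,
    map_zero] at this
  exact hv this

theorem wt_ne_bot_cj [B.Normal] (g : G) {χ : B →* Fˣ} (h : wt ρ B χ ≠ ⊥) :
    wt ρ B (cj g χ) ≠ ⊥ := by
  obtain ⟨v, hv, hv0⟩ := (Submodule.ne_bot_iff _).1 h
  exact (Submodule.ne_bot_iff _).2 ⟨ρ g v, map_mem_wt g hv, map_ne_zero g hv0⟩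

/-- The characters as multiplicative maps into the field. -/
noncomputable def toFld (χ : B →* Fˣ) : B →* F := (Units.coeHom F).comp χ

theorem toFld_injective : Function.Injective (toFld (F := F) (B := B)) := fun χ ψ h =>
  MonoidHom.ext fun b => Units.ext (DFunLike.congr_fun h b)

theorem wt_eigen {χ : B →* Fˣ} {v : V} (hv : v ∈ wt ρ B χ) (b : B) :
    ρ b v = toFld χ b • v := hv b

/-- A weight space is disjoint from a different one. -/
theorem wt_disjoint {χ ψ : B →* Fˣ} (h : χ ≠ ψ) : Disjoint (wt ρ B χ) (wt ρ B ψ) := by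
  rw [Submodule.disjoint_def]
  intro v hv hv'
  by_contra h0
  refine h (MonoidHom.ext fun b => Units.ext ?_)
  exact smul_left_injective F h0 ((hv b).symm.trans (hv' b))

/-- If `B` is commutative of exponent dividing `q` and the field has a primitive `q`-th root of
unity, a linear map killing all weight spaces is zero. -/
theorem eq_zero_of_kills [Finite G] {q : ℕ} [hq : Fact q.Prime] (hqF : (q : F) ≠ 0)
    (hBc : ∀ x ∈ B, ∀ z ∈ B, x * z = z * x) (hBe : ∀ x ∈ B, x ^ q = 1)
    {ω : F} (hω : IsPrimitiveRoot ω q) {W : Type*} [AddCommGroup W] [Module F W]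
    (T : V →ₗ[F] W) (hT : ∀ χ : B →* Fˣ, ∀ v ∈ wt ρ B χ, T v = 0) : T = 0 := by
  classical
  haveI : IsMulCommutative B := ⟨⟨fun x z => Subtype.ext (hBc x x.2 z z.2)⟩⟩
  letI : CommGroup B := { (inferInstance : Group B) with
    mul_comm := fun x z => Subtype.ext (hBc x x.2 z z.2) }
  haveI : NeZero q := ⟨hq.out.ne_zero⟩
  have hBpow : ∀ x : B, x ^ q = 1 := fun x => Subtype.ext (by simpa using hBe x x.2)
  haveI : HasEnoughRootsOfUnity F q := ⟨⟨ω, hω⟩, inferInstance⟩
  haveI : HasEnoughRootsOfUnity F (Monoid.exponent B) :=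
    HasEnoughRootsOfUnity.of_dvd F (Monoid.exponent_dvd_of_forall_pow_eq_one hBpow)
  have hcard : Nat.card (B →* Fˣ) = Nat.card B :=
    CommGroup.card_monoidHom_of_hasEnoughRootsOfUnity B F
  letI : Fintype B := Fintype.ofFinite B
  haveI : Finite (B →* Fˣ) := Nat.finite_of_card_ne_zero (hcard ▸ Nat.card_pos.ne')
  letI : Fintype (B →* Fˣ) := Fintype.ofFinite _
  have hBF : (Nat.card (B →* Fˣ) : F) ≠ 0 := by
    obtain ⟨k, hk⟩ := IsPGroup.iff_card.1 (fun x : B => ⟨1, by simpa using hBpow x⟩ : IsPGroup q B)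
    rw [hcard, hk, Nat.cast_pow]
    exact pow_ne_zero _ hqF
  refine LinearMap.ext fun v => ?_
  let e : (B →* Fˣ) → V := fun χ => ∑ b : B, (((χ b)⁻¹ : Fˣ) : F) • ρ b v
  have he : ∀ χ, e χ ∈ wt ρ B χ := by
    intro χ c
    simp only [e, map_sum, map_smul, Finset.smul_sum, smul_smul]
    refine Fintype.sum_equiv (Equiv.mulLeft c) _ _ fun b => ?_
    rw [← Module.End.mul_apply, ← map_mul, Equiv.coe_mulLeft, ← Units.val_mul]
    congr 2
    rw [map_mul, mul_inv, ← mul_assoc, mul_inv_cancel, one_mul]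
  have hsum : ∑ χ, e χ = (Nat.card (B →* Fˣ) : F) • v := by
    simp only [e]
    rw [Finset.sum_comm, Finset.sum_eq_single (1 : B)]
    · simp [Nat.cast_smul_eq_nsmul]
    · intro b _ hb
      obtain ⟨φ, hφ⟩ := CommGroup.exists_apply_ne_one_of_hasEnoughRootsOfUnity B F hb
      rw [← Finset.sum_smul]
      have h0 : ∑ χ : B →* Fˣ, (((χ b)⁻¹ : Fˣ) : F) = 0 := by
        have hm : (((φ b)⁻¹ : Fˣ) : F) * ∑ χ : B →* Fˣ, (((χ b)⁻¹ : Fˣ) : F) =
            ∑ χ : B →* Fˣ, (((χ b)⁻¹ : Fˣ) : F) := by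
          rw [Finset.mul_sum]
          refine Fintype.sum_equiv (Equiv.mulLeft φ) _ _ fun χ => ?_
          rw [Equiv.coe_mulLeft, MonoidHom.mul_apply, mul_inv, Units.val_mul]
        by_contra hne
        have := (mul_eq_right₀ hne).1 hm
        rw [Units.val_eq_one, inv_eq_one] at this
        exact hφ this
      rw [h0, zero_smul]
    · simp
  have h := congrArg T hsum
  rw [map_sum, map_smul, Finset.sum_eq_zero (fun χ _ => hT χ _ (he χ))] at h
  rcases smul_eq_zero.1 h.symm with h' | h'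
  · exact absurd h' hBF
  · simpa using h'

/-- Three weights which are moved in a triangular pattern force rank at least three. -/
theorem three_moved [FiniteDimensional F V] [B.Normal] {y : G}
    (hrk : Module.finrank F (LinearMap.range (ρ y - 1)) ≤ 2) {w₁ w₂ w₃ : B →* Fˣ}
    (h₁ : wt ρ B w₁ ≠ ⊥) (h₂ : wt ρ B w₂ ≠ ⊥) (h₃ : wt ρ B w₃ ≠ ⊥)
    (d₁₂ : w₁ ≠ w₂) (d₁₃ : w₁ ≠ w₃) (d₂₃ : w₂ ≠ w₃)
    (m₁ : cj y w₁ ≠ w₁) (m₂ : cj y w₂ ≠ w₁) (m₂' : cj y w₂ ≠ w₂)
    (m₃ : cj y w₃ ≠ w₁) (m₃' : cj y w₃ ≠ w₂) (m₃'' : cj y w₃ ≠ w₃) : False := by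
  classical
  have hcinj : ∀ a b : B →* Fˣ, cj y a = cj y b → a = b := fun a b h => by
    have := congrArg (cj y⁻¹) h
    rwa [← cj_mul, ← cj_mul, inv_mul_cancel, cj_one, cj_one] at this
  obtain ⟨v₁, hv₁, n₁⟩ := (Submodule.ne_bot_iff _).1 h₁
  obtain ⟨v₂, hv₂, n₂⟩ := (Submodule.ne_bot_iff _).1 h₂
  obtain ⟨v₃, hv₃, n₃⟩ := (Submodule.ne_bot_iff _).1 h₃
  let w : Fin 3 → (B →* Fˣ) := ![w₁, w₂, w₃]
  let v : Fin 3 → V := ![v₁, v₂, v₃]
  have hv : ∀ i, v i ∈ wt ρ B (w i) := fun i => by fin_cases i <;> assumption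
  have hv0 : ∀ i, v i ≠ 0 := fun i => by fin_cases i <;> assumption
  have hwi : Function.Injective w := by
    intro i j h
    fin_cases i <;> fin_cases j <;>
      first | rfl | exact absurd h d₁₂ | exact absurd h d₁₃ | exact absurd h d₂₃ |
        exact absurd h.symm d₁₂ | exact absurd h.symm d₁₃ | exact absurd h.symm d₂₃
  have hm : ∀ i j, j ≤ i → cj y (w i) ≠ w j := by
    intro i j hij
    fin_cases i <;> fin_cases j <;> first | assumption | exact absurd hij (by decide)
  have hli : LinearIndependent F (fun i => (ρ y - 1) (v i)) := by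
    rw [Fintype.linearIndependent_iff]
    intro c hc
    by_contra hne
    push Not at hne
    obtain ⟨i₀, hi₀, hmax⟩ := Finset.exists_max_image (Finset.univ.filter fun i => c i ≠ 0) id
      (by obtain ⟨i, hi⟩ := hne; exact ⟨i, by simp [hi]⟩)
    simp only [Finset.mem_filter, Finset.mem_univ, true_and, id_eq] at hi₀ hmax
    let u : Fin 3 ⊕ Fin 3 → V := Sum.elim (fun i => c i • ρ y (v i)) (fun i => (-c i) • v i)
    let s : Finset (Fin 3 ⊕ Fin 3) := Finset.univ.filter fun k => c (Sum.elim id id k) ≠ 0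
    have hu : ∀ k ∉ s, u k = 0 := by
      intro k hk
      simp only [s, Finset.mem_filter, Finset.mem_univ, true_and, not_not] at hk
      cases k <;> simp only [Sum.elim_inl, Sum.elim_inr, id_eq] at hk <;> simp [u, hk]
    have hs0 : ∑ k ∈ s, u k = 0 := by
      rw [Finset.sum_subset (Finset.subset_univ s) (fun k _ hk => hu k hk),
        Fintype.sum_sum_type, ← hc, ← Finset.sum_add_distrib]
      refine Finset.sum_congr rfl fun i _ => ?_
      simp [u, sub_eq_add_neg]
    have h := eigen_single (fun b : B => ρ b) s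
      (fun k => toFld (Sum.elim (fun i => cj y (w i)) w k)) u ?_ hs0
      (i₀ := Sum.inl i₀) (by simp [s, hi₀]) ?_
    · simp only [u, Sum.elim_inl, smul_eq_zero] at h
      exact h.elim hi₀ (map_ne_zero y (hv0 i₀))
    · intro k _ b
      cases k with
      | inl i =>
        simp only [u, Sum.elim_inl, map_smul]
        rw [wt_eigen (map_mem_wt y (hv i)) b, smul_comm]
      | inr i =>
        simp only [u, Sum.elim_inr, map_smul]
        rw [wt_eigen (hv i) b, smul_comm]
    · intro k hk hne' he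
      have he' := toFld_injective he
      simp only [s, Finset.mem_filter, Finset.mem_univ, true_and] at hk
      cases k with
      | inl i =>
        simp only [Sum.elim_inl] at he'
        exact hne' (congrArg Sum.inl (hwi (hcinj _ _ he')))
      | inr i =>
        simp only [Sum.elim_inr, Sum.elim_inl] at he'
        exact hm i₀ i (hmax i (by simpa using hk)) he'.symm
  have h3 : LinearIndependent F (fun i => (⟨(ρ y - 1) (v i), LinearMap.mem_range_self _ _⟩ :
      LinearMap.range (ρ y - 1))) := LinearIndependent.of_comp (Submodule.subtype _) hli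
  have := h3.fintype_card_le_finrank
  simp only [Fintype.card_fin] at this
  omega

end CfsgLib.SFT.Wt
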