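import Cfsg.Agent.SFT.Bender

/-!
At least three primes and no maximal member containing all `P_s`: the members `L_v` containing
`P_s` for `s ≠ v` have `v` outside their core primes and no maximal member has all core primes.
-/

set_option autoImplicit false
set_option linter.unusedSectionVars false
set_option linter.style.haveILetI false
set_option linter.deprecated false

namespace CfsgLib.SFT

open Subgroup Pointwise CfsgLib.SZ

universe u

variable {G : Type u} [Group G] [Finite G] {p : ℕ} [Fact p.Prime] {A : Subgroup G}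
  {θ : G → Subgroup G}

local notation "C" => Cfsg.signalizerInf A θ

/-- The primes with a nontrivial invariant subgroup normalized by `C`. -/
def InPi (p : ℕ) (A : Subgroup G) (θ : G → Subgroup G) (s : ℕ) : Prop :=
  s.Prime ∧ Pc p A θ s ≠ ⊥

/-- A maximal member containing all the `P_s`. -/
def IsStar (p : ℕ) (A : Subgroup G) (θ : G → Subgroup G) (L : Subgroup G) : Prop :=
  IsCC p A θ L ∧ ∀ s : ℕ, s.Prime → Pc p A θ s ≤ L

/-- A maximal member containing all `P_s` for `s ≠ v`. -/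
def IsL (p : ℕ) (A : Subgroup G) (θ : G → Subgroup G) (v : ℕ) (L : Subgroup G) : Prop :=
  IsCC p A θ L ∧ ∀ s : ℕ, s.Prime → s ≠ v → Pc p A θ s ≤ L

/-- No star, a choice of the members `L_v`, and at least three primes. -/
structure Large (p : ℕ) (A : Subgroup G) (θ : G → Subgroup G) (L : ℕ → Subgroup G) : Prop where
  noStar : ∀ M, ¬ IsStar p A θ M
  isL : ∀ v, InPi p A θ v → IsL p A θ v (L v)
  three : ∀ a b : ℕ, ∃ x, InPi p A θ x ∧ x ≠ a ∧ x ≠ b

namespace MinCex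

variable (h : MinCex p A θ)
include h

theorem inPi_of_delta {M : Subgroup G} (hM : IsCC p A θ M) {t : ℕ} (ht : Delta M t) :
    InPi p A θ t := ⟨ht.1, fun e => ht.2 (le_bot_iff.1 ((h.oc_le_Pc hM t).trans e.le))⟩

/-- An `r'`-member with a core is nontrivial. -/
theorem oc'_ne_bot {M : Subgroup G} {r t : ℕ} [Fact r.Prime] (ht : Delta M t) (htr : t ≠ r) :
    oc' r M ≠ ⊥ := by
  haveI := Fact.mk ht.1
  exact fun e => ht.2 (le_bot_iff.1 (le_of_le_of_eq
    (le_oc' (oc_le t M) (pgroup_coprime_prime htr (isPGroup_oc t M)) (le_normalizer_oc t M)) e))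

end MinCex

namespace Large

variable (h : MinCex p A θ) {L : ℕ → Subgroup G} (S : Large p A θ L)
include h S

theorem cc {v : ℕ} (hv : InPi p A θ v) : IsCC p A θ (L v) := (S.isL v hv).1

theorem Pc_le {v s : ℕ} (hv : InPi p A θ v) (hs : s.Prime) (hne : s ≠ v) :
    Pc p A θ s ≤ L v := (S.isL v hv).2 s hs hne

theorem oc_le {v t : ℕ} (hv : InPi p A θ v) {M : Subgroup G} (hM : IsCC p A θ M) (ht : t.Prime)
    (hne : t ≠ v) : oc t M ≤ L v := (h.oc_le_Pc hM t).trans (S.Pc_le h hv ht hne)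

theorem fitLE {v : ℕ} (hv : InPi p A θ v) {M : Subgroup G} (hM : IsCC p A θ M)
    (hMv : oc v M = ⊥) : FitLE M (L v) := fun t ht => by
  by_cases htv : t = v
  · rw [htv, hMv]; exact bot_le
  · exact S.oc_le h hv hM ht htv

theorem not_Pc_le {v : ℕ} (hv : InPi p A θ v) : ¬ Pc p A θ v ≤ L v := fun hle =>
  S.noStar (L v) ⟨S.cc h hv, fun s hs => by
    by_cases hsv : s = v
    · exact hsv ▸ hle
    · exact S.Pc_le h hv hs hsv⟩

theorem ne_of_ne {u v : ℕ} (hu : InPi p A θ u) (hv : InPi p A θ v) (huv : u ≠ v) : L u ≠ L v :=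
  fun e => S.not_Pc_le h hu (e ▸ S.Pc_le h hv hu.1 huv)

/-- A core prime `v` of `L_v` is not the only one. -/
theorem multi_of_self {v : ℕ} (hv : InPi p A θ v) (hd : Delta (L v) v) : Multi (L v) := by
  haveI := Fact.mk hv.1
  rcases h.multi_or_single (S.cc h hv) with hm | ⟨r, hr, hs⟩
  · exact hm
  exfalso
  obtain rfl := h.delta_single hs hd
  obtain ⟨N, hN⟩ := h.exists_Nr v hv.2
  by_cases hN' : ∀ t : ℕ, t.Prime → t ≠ v → oc t N = ⊥
  · exact S.not_Pc_le h hv ((hs.eq_Nr (fun H => rank_bound H) h hN hN').symm ▸ hN.Pc_le h)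
  · push Not at hN'
    obtain ⟨t, ht, htv, htn⟩ := hN'
    exact hs.not_Pc_le h hN ht htv htn (S.Pc_le h hv ht htv)

/-- Two of the `L_v` cannot have the same single core prime. -/
theorem single_inj {u v r : ℕ} [Fact r.Prime] (hu : InPi p A θ u) (hv : InPi p A θ v)
    (huv : u ≠ v) (hsu : Single p A θ r (L u)) (hsv : Single p A θ r (L v)) : False := by
  obtain ⟨N, hN⟩ := h.exists_Nr r (hsu.Pc_ne_bot h)
  by_cases hN' : ∀ t : ℕ, t.Prime → t ≠ r → oc t N = ⊥
  · exact S.ne_of_ne h hu hv huv ((hsu.eq_Nr (fun H => rank_bound H) h hN hN').trans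
      (hsv.eq_Nr (fun H => rank_bound H) h hN hN').symm)
  · push Not at hN'
    obtain ⟨t, ht, htr, htn⟩ := hN'
    by_cases htu : t = u
    · exact hsv.not_Pc_le h hN ht htr htn (S.Pc_le h hv ht (htu ▸ huv))
    · exact hsu.not_Pc_le h hN ht htr htn (S.Pc_le h hu ht htu)

/-- If `v` is a core prime of `L_v` then every prime is one. -/
theorem full_of_self {v : ℕ} (hv : InPi p A θ v) (hd : Delta (L v) v) :
    ∀ u, InPi p A θ u → Delta (L v) u := by
  intro u hu
  by_contra hne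
  have hun : oc u (L v) = ⊥ := by_contra fun e => hne ⟨hu.1, e⟩
  have huv : u ≠ v := fun e => hd.2 (e ▸ hun)
  have hF : FitLE (L v) (L u) := S.fitLE h hu (S.cc h hv) hun
  have hm := S.multi_of_self h hv hd
  refine S.ne_of_ne h hu hv huv (h.eq_of_mutual (S.cc h hv) (S.cc h hu) hm hF fun t ht => ?_)
  by_cases htv : t = v
  · exact htv ▸ h.oc_le_of_fitLE (S.cc h hv) (S.cc h hu).1 hm hF hd
  · exact S.oc_le h hv (S.cc h hu) ht htv

/-- A member containing `P_c` and the `c'`-cores of all other `L_v`. -/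
theorem exists_above {c : ℕ} (hc : InPi p A θ c)
    (hne : ∃ v, InPi p A θ v ∧ v ≠ c ∧ oc' c (L v) ≠ ⊥) :
    ∃ M, IsCC p A θ M ∧ Pc p A θ c ≤ M ∧
      ∀ v, InPi p A θ v → v ≠ c → oc' c (L v) ≤ M ∧ FitLE (L v) M := by
  haveI := Fact.mk hc.1
  set T := ⨆ v : {v : ℕ // InPi p A θ v ∧ v ≠ c}, oc' c (L v) with hT
  obtain ⟨K, hK, -, hKC, hKmax⟩ := h.exists_hallCore {c}ᶜ (by
    obtain ⟨a, ha, ha1, hd⟩ := h.exists_dvd_of_Pc_ne_bot hc.2
    exact ⟨a, ha, ha1, fun hc' => hc' c hc.1 hd rfl⟩)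
  have hmemv : ∀ v, InPi p A θ v → Mem p A θ (oc' c (L v)) := fun v hv =>
    h.mem_of_le (S.cc h hv).1 (oc'_le c _)
      (le_normalizer_oc'_of_le c (h.A_le_normalizer (S.cc h hv).1))
  have hCv : ∀ v, InPi p A θ v → C ≤ normalizer (oc' c (L v) : Set G) := fun v hv =>
    (S.cc h hv).2.1.trans (le_normalizer_oc' c _)
  have hTK : T ≤ K := iSup_le fun v => hKmax _ (hmemv v v.2.1)
    (fun q hq hd hqc => (Fact.out : c.Prime).ne_one
      (Nat.eq_one_of_dvd_coprimes (coprime_card_oc' c (L v)) ((Set.mem_singleton_iff.1 hqc) ▸ hd)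
        dvd_rfl))
    (hCv v v.2.1)
  have hAT : A ≤ normalizer (T : Set G) := le_normalizer_iSup fun v =>
    le_normalizer_oc'_of_le c (h.A_le_normalizer (S.cc h v.2.1).1)
  have hTm : Mem p A θ T := h.mem_of_le hK hTK hAT
  have hT1 : T ≠ ⊥ := by
    obtain ⟨v, hv, hvc, hv1⟩ := hne
    exact fun e => hv1 (le_bot_iff.1 ((le_iSup (fun v : {v : ℕ // InPi p A θ v ∧ v ≠ c} =>
      oc' c (L v)) ⟨v, hv, hvc⟩).trans e.le))
  obtain ⟨M, hM, hmaxM⟩ := h.exists_cc_normalizer hTm hT1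
    (le_normalizer_iSup fun v => hCv v v.2.1)
  have hP : Pc p A θ c ≤ M := hmaxM _ (h.Pc_mem c) (le_normalizer_iSup fun v =>
    (S.Pc_le h v.2.1 hc.1 (Ne.symm v.2.2)).trans (le_normalizer_oc' c _))
  refine ⟨M, hM, hP, fun v hv hvc => ?_⟩
  have h1 : oc' c (L v) ≤ M :=
    (le_iSup (fun v : {v : ℕ // InPi p A θ v ∧ v ≠ c} => oc' c (L v)) ⟨v, hv, hvc⟩).trans
      (hmaxM T hTm le_normalizer)
  refine ⟨h1, fun t ht => ?_⟩
  by_cases htc : t = c
  · exact htc ▸ (h.oc_le_Pc (S.cc h hv) c).trans hP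
  · haveI := Fact.mk ht
    exact (le_oc' (CfsgLib.SFT.oc_le t _) (pgroup_coprime_prime htc (isPGroup_oc t _))
      (le_normalizer_oc t _)).trans h1

/-- A maximal member with all core primes contains `P_c`. -/
theorem Pc_le_of_full {N : Subgroup G} (hN : IsCC p A θ N)
    (hfull : ∀ u, InPi p A θ u → Delta N u) {c : ℕ} (hc : InPi p A θ c) :
    Pc p A θ c ≤ N := by
  haveI := Fact.mk hc.1
  have hmN : Multi N := by
    obtain ⟨x, hx, hxc, -⟩ := S.three c c
    exact ⟨x, c, hfull x hx, hfull c hc, hxc⟩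
  have hle : ∀ x, InPi p A θ x → ∀ v, InPi p A θ v → x ≠ c → v ≠ c → x ≠ v →
      oc x N ≤ oc' c (L v) := fun x hx v hv hxc hvc hxv => by
    haveI := Fact.mk hx.1
    exact h.oc_le_oc' hN (S.cc h hv).1 hxc (hfull c hc).2 (S.oc_le h hv hN hc.1 hvc.symm)
      (S.oc_le h hv hN hx.1 hxv)
  obtain ⟨v₀, hv₀, hv₀c, -⟩ := S.three c c
  obtain ⟨x₀, hx₀, hx₀c, hx₀v⟩ := S.three c v₀
  obtain ⟨M, hM, hP, hall⟩ := S.exists_above h hc ⟨v₀, hv₀, hv₀c, fun e =>
    (hfull x₀ hx₀).2 (le_bot_iff.1 ((hle x₀ hx₀ v₀ hv₀ hx₀c hv₀c hx₀v).trans e.le))⟩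
  have hF : FitLE N M := fun t ht => by
    by_cases hN0 : oc t N = ⊥
    · exact le_of_oc_eq_bot hN0
    by_cases htc : t = c
    · exact htc ▸ (h.oc_le_Pc hN c).trans hP
    have htπ := h.inPi_of_delta hN ⟨ht, hN0⟩
    obtain ⟨v, hv, hvc, hvt⟩ := S.three c t
    exact (hle t htπ v hv htc hvc hvt.symm).trans (hall v hv hvc).1
  have hMN : M = N := h.eq_of_mutual hN hM hmN hF fun t ht => by
    by_cases hM0 : oc t M = ⊥
    · exact le_of_oc_eq_bot hM0
    exact h.oc_le_of_fitLE hN hM.1 hmN hF (hfull t (h.inPi_of_delta hM ⟨ht, hM0⟩))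
  exact hMN ▸ hP

/-- `v` is not a core prime of `L_v`. -/
theorem oc_self {v : ℕ} (hv : InPi p A θ v) : oc v (L v) = ⊥ := by
  by_contra hne
  exact S.not_Pc_le h hv (S.Pc_le_of_full h (S.cc h hv) (S.full_of_self h hv ⟨hv.1, hne⟩) hv)

/-- No maximal member has all core primes. -/
theorem exists_not_delta {N : Subgroup G} (hN : IsCC p A θ N) :
    ∃ u, InPi p A θ u ∧ oc u N = ⊥ := by
  by_contra hc
  push Not at hc
  refine S.noStar N ⟨hN, fun s hs => ?_⟩
  by_cases hs' : Pc p A θ s = ⊥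
  · rw [hs']; exact bot_le
  · exact S.Pc_le_of_full h hN (fun u hu => ⟨hu.1, hc u hu⟩) ⟨hs, hs'⟩

end Large

end CfsgLib.SFT
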