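import Cfsg.Agent.SFT.Cycle
import Cfsg.Agent.SFT.FPF

/-!
The cycle of three single core primes is impossible: with three or more primes there is a star.
-/

set_option autoImplicit false
set_option linter.unusedSectionVars false
set_option linter.style.haveILetI false
set_option linter.deprecated false

namespace CfsgLib.SFT

open Subgroup Pointwise CfsgLib.SZ

universe u

variable {G : Type u} [Group G] [Finite G] {p : ℕ} [Fact p.Prime] {A : Subgroup G}
  {θ : G → Subgroup G}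

local notation "C" => Cfsg.signalizerInf A θ

namespace MinCex

variable (h : MinCex p A θ)
include h

theorem zpowers_normalizes {a : G} (ha : a ∈ A) {X : Subgroup G}
    (hX : A ≤ normalizer (X : Set G)) : zpowers a ≤ normalizer (X : Set G) :=
  zpowers_le.2 (hX ha)

/-- An element of `A` centralizing the core of a single-core member centralizes the member. -/
theorem centralizes_single {M : Subgroup G} {r : ℕ} [Fact r.Prime] (hM : Single p A θ r M) {a : G}
    (ha : a ∈ A) (hc : oc r M ≤ centralizer {a}) : M ≤ centralizer {a} := by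
  have h1 : zpowers a ≤ centralizer (M : Set G) := by
    refine le_centralizer_of_cores hM.cc.1.1 (h.zpowers_normalizes ha (hM.A_le h))
      ((h.coprime_A hM.cc.1).coprime_dvd_left (card_dvd_of_le (zpowers_le.2 ha))) fun t ht => ?_
    by_cases htr : t = r
    · subst htr
      refine zpowers_le.2 (mem_centralizer_iff.2 fun x hx => ?_)
      exact mem_centralizer_singleton_iff.1 (hc hx)
    · exact centralizer_bot_top _ (hM.other t ht htr)
  exact fun x hx => mem_centralizer_singleton_iff.2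
    (mem_centralizer_iff.1 (h1 (mem_zpowers a)) x hx)

theorem inf_centralizer_le_theta {X : Subgroup G} (hX : Mem p A θ X) {a : G} (ha : a ∈ A)
    (ha1 : a ≠ 1) : X ⊓ centralizer {a} ≤ θ a := hX.2.2.2 a ha ha1

/-- A maximal member containing `θ a`. -/
theorem exists_cc_theta {a : G} (ha : a ∈ A) (ha1 : a ≠ 1) :
    ∃ M, IsCC p A θ M ∧ θ a ≤ M :=
  h.exists_cc_ge (h.theta_mem ha ha1) ((h.C_le_theta ha ha1).trans le_normalizer)

/-- A hyperplane with fixed points in a given member. -/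
theorem exists_hyperplane_fixed {X : Subgroup G} (hX : Mem p A θ X) {D : Subgroup G}
    (hXD : ¬ X ≤ D) :
    ∃ B, B ≤ A ∧ B.relIndex A ≤ p ∧ ¬ X ⊓ centralizer (B : Set G) ≤ D := by
  by_contra hc
  push Not at hc
  exact hXD (CfsgLib.Signalizer.le_of_forall_hyperplane h.elem (h.A_le_normalizer hX) hX.2.1 hc)

theorem card_hyperplane_le {B B' : Subgroup G} (hB : B ≤ A) (hB' : B' < B)
    (hBA : B ≠ A) : Nat.card B' ≤ p := by
  have hp := h.prime
  obtain ⟨k, hk⟩ := IsPGroup.iff_card.1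
    (CfsgLib.Signalizer.isPGroup (CfsgLib.Signalizer.of_le h.elem hB))
  obtain ⟨j, hj⟩ := IsPGroup.iff_card.1
    (CfsgLib.Signalizer.isPGroup (CfsgLib.Signalizer.of_le h.elem (hB'.le.trans hB)))
  have h1 : Nat.card B < Nat.card A := CfsgLib.Solvable.card_lt_of_lt (lt_of_le_of_ne hB hBA)
  have h2 : Nat.card B' < Nat.card B := CfsgLib.Solvable.card_lt_of_lt hB'
  rw [hk, h.card, Nat.pow_lt_pow_iff_right hp.one_lt] at h1
  rw [hj, hk, Nat.pow_lt_pow_iff_right hp.one_lt] at h2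
  calc Nat.card B' = p ^ j := hj
    _ ≤ p ^ 1 := Nat.pow_le_pow_right hp.pos (by omega)
    _ = p := pow_one p

theorem card_inf_eq {B' : Subgroup G} (hle : B' ≤ A) (hc : Nat.card B' ≤ p)
    {D : Subgroup G} (hD : D ≤ B') (hD1 : D ≠ ⊥) : D = B' := by
  have hp := h.prime
  refine CfsgLib.Solvable.eq_of_le_of_card_le hD (hc.trans ?_)
  obtain ⟨j, hj⟩ := IsPGroup.iff_card.1
    (CfsgLib.Signalizer.isPGroup (CfsgLib.Signalizer.of_le h.elem (hD.trans hle)))
  rw [hj]
  refine Nat.le_self_pow (fun hj0 => hD1 (eq_bot_of_card_eq _ ?_)) p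
  rw [hj, hj0, pow_zero]

end MinCex

namespace Large

variable (h : MinCex p A θ) {L : ℕ → Subgroup G} (S : Large p A θ L)
include h S

theorem false_of_threeCycle {c e d : ℕ} (T : ThreeCycle p A θ L c e d) : False := by
  haveI := Fact.mk T.hc.1
  haveI := Fact.mk T.he.1
  haveI := Fact.mk T.hd.1
  set X := oc c (L e)
  set Y := oc e (L d)
  set W := oc d (L c)
  have hXd : X ≤ L d := S.oc_le h T.hd (S.cc h T.he) T.hc.1 T.dc.symm
  have hYc : Y ≤ L c := S.oc_le h T.hc (S.cc h T.hd) T.he.1 T.ce.symm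
  have hWe : W ≤ L e := S.oc_le h T.he (S.cc h T.hc) T.hd.1 T.ed.symm
  have hXm : Mem p A θ X := h.oc_mem (S.cc h T.he) c
  have hYm : Mem p A θ Y := h.oc_mem (S.cc h T.hd) e
  have hWm : Mem p A θ W := h.oc_mem (S.cc h T.hc) d
  have hsingle : ∀ M, IsCC p A θ M → ∃ r, InPi p A θ r ∧ Single p A θ r M := by
    intro M hM
    rcases h.multi_or_single hM with hm | ⟨r, hr, hs⟩
    · exfalso
      obtain ⟨x, hx, hxn⟩ := S.exists_not_delta h hM
      have hF : FitLE M (L x) := S.fitLE h hx hM hxn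
      obtain ⟨y, hy, hys⟩ : ∃ y, InPi p A θ y ∧ Single p A θ y (L x) := by
        rcases T.all x hx with rfl | rfl | rfl
        · exact ⟨d, T.hd, T.sc⟩
        · exact ⟨c, T.hc, T.se⟩
        · exact ⟨e, T.he, T.sd⟩
      haveI := Fact.mk hy.1
      have hxy : x ≠ y := fun e' =>
        hys.oc_ne_bot h (by rw [← e']; exact S.oc_self h hx)
      have hy' : oc y M ≠ ⊥ := by
        intro hy'
        obtain ⟨t, t', ht, ht', htt⟩ := hm
        have ne : ∀ u, Delta M u → u ≠ x ∧ u ≠ y := fun u hu =>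
          ⟨fun e' => hu.2 (e' ▸ hxn), fun e' => hu.2 (e' ▸ hy')⟩
        have h1 := T.all t (h.inPi_of_delta hM ht)
        have h2 := T.all t' (h.inPi_of_delta hM ht')
        have h3 := T.all x hx
        have h4 := T.all y hy
        have := ne t ht
        have := ne t' ht'
        omega
      obtain ⟨t, ht, hty⟩ := hm.exists_ne y
      haveI := Fact.mk ht.1
      exact h.false_of_two_cores hM hys ht.2 hy' hty (hF t ht.1) (hF y hy.1)
    · exact ⟨r, ⟨hr, haveI := Fact.mk hr; hs.Pc_ne_bot h⟩, hs⟩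
  -- an element fixing points of `X` and `Y` fixes none of `W`
  have key : ∀ a ∈ A, a ≠ 1 → X ⊓ centralizer {a} ≠ ⊥ → Y ⊓ centralizer {a} ≠ ⊥ →
      W ⊓ centralizer {a} = ⊥ := by
    intro a ha ha1 hX hY
    obtain ⟨M, hM, hle⟩ := h.exists_cc_theta ha ha1
    obtain ⟨r, hr, hs⟩ := hsingle M hM
    have hmeet : ∀ s v, InPi p A θ v → v ≠ r → s.Prime → s ≠ r →
        oc s (L v) ⊓ centralizer {a} = ⊥ := fun s v hv hvr hs' hsr =>
      le_bot_iff.1 ((le_inf inf_le_left ((h.inf_centralizer_le_theta (h.oc_mem (S.cc h hv) s)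
        ha ha1).trans hle)).trans
          (h.oc_inf_eq_bot hM (S.fitLE h hv hM (hs.other v hv.1 hvr)) hs' (hs.other s hs' hsr)).le)
    rcases T.all r hr with rfl | rfl | rfl
    · exact absurd (hmeet e d T.hd T.dc T.he.1 T.ce.symm) hY
    · exact hmeet d c T.hc T.ce T.hd.1 T.ed.symm
    · exact absurd (hmeet c e T.he T.ed T.hc.1 T.dc.symm) hX
  set Z := elZ e Y
  have hZY : Z ≤ Y := elZ_le e Y
  have hZ1 : Z ≠ ⊥ := elZ_ne_bot (isPGroup_oc e (L d)) (T.sd.oc_ne_bot h)
  have hAY : A ≤ normalizer (Y : Set G) := h.A_le_normalizer hYm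
  have hAW : A ≤ normalizer (W : Set G) := h.A_le_normalizer hWm
  have hZc : ∀ a ∈ A, a ≠ 1 → X ⊓ centralizer {a} ≠ ⊥ → Y ⊓ centralizer {a} ≠ ⊥ →
      a ∈ centralizer (Z : Set G) := by
    intro a ha ha1 hX hY
    have hU : ⁅Z, zpowers a⁆ ≤ centralizer (W : Set G) :=
      abelian_commutator_centralizes (h.delta_ne_p (S.cc h T.hc) ⟨T.hd.1, T.sc.oc_ne_bot h⟩)
        T.ed (h.delta_ne_p (S.cc h T.hd) ⟨T.he.1, T.sd.oc_ne_bot h⟩)
        ((elZ_le_centralizer e Y).trans (centralizer_le (SetLike.coe_subset_coe.2 hZY)))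
        ((isPGroup_oc e (L d)).to_le hZY) (isPGroup_oc d (L c)) (h.elem.2 a ha)
        (le_normalizer_elZ e hAY ha) (hAW ha) (hZY.trans (hYc.trans (le_normalizer_oc d (L c))))
        (key a ha ha1 hX hY)
    have hUY : ⁅Z, zpowers a⁆ ≤ Y := (le_normalizer_iff_commutator_le_left.1
      (h.zpowers_normalizes ha (le_normalizer_elZ e hAY))).trans hZY
    have h0 : ⁅Z, zpowers a⁆ = ⊥ := eq_bot_of_pgroup_ne T.ed
      ((isPGroup_oc e (L d)).to_le hUY) ((isPGroup_oc d (L c)).to_le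
        ((le_inf (hUY.trans hYc) hU).trans (T.sc.inf_centralizer_oc_le h)))
    exact le_centralizer_symm (commutator_eq_bot_iff_le_centralizer.1 h0) (mem_zpowers a)
  set A₀ := A ⊓ centralizer (Z : Set G)
  have hA₀ : A₀ ≠ A := by
    intro he
    have h1 : Z ≤ C := (le_inf le_rfl (le_centralizer_symm (he.ge.trans inf_le_right))).trans
      (h.inf_centralizer_le_C (h.mem_of_le hYm hZY (le_normalizer_elZ e hAY)))
    exact hZ1 (le_bot_iff.1 ((le_inf hZY (h1.trans (S.cc h T.he).2.1)).trans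
      (h.oc_inf_eq_bot (S.cc h T.he) (S.fitLE h T.hd (S.cc h T.he) (T.se.other d T.hd.1 T.dc))
        T.he.1 (S.oc_self h T.he)).le))
  have hfix : ∀ {U : Subgroup G} {B : Subgroup G}, U ⊓ centralizer (B : Set G) ≠ ⊥ →
      ∀ a ∈ B, U ⊓ centralizer {a} ≠ ⊥ := fun hne a ha hbot => hne (le_bot_iff.1
    ((inf_le_inf_left _ (centralizer_le (by simpa using ha))).trans hbot.le))
  have hX1 : X ≠ ⊥ := T.se.oc_ne_bot h
  have hsingleton : ∀ {a : G} {U : Subgroup G}, a ∈ centralizer (U : Set G) →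
      U ≤ centralizer {a} := fun ha u hu =>
    mem_centralizer_singleton_iff.2 (mem_centralizer_iff.1 ha u hu)
  -- no element fixes all three
  have hall3 : ∀ a ∈ A, a ≠ 1 → X ≤ centralizer {a} → Y ⊓ centralizer {a} = ⊥ := by
    intro a ha ha1 hXa
    by_contra hY
    have h1 := key a ha ha1 (by rw [inf_eq_left.2 hXa]; exact hX1) hY
    rw [inf_eq_left.2 (hWe.trans (h.centralizes_single T.se ha hXa))] at h1
    exact T.sc.oc_ne_bot h h1
  obtain ⟨B, hBA, hBi, hBX, hBA₀⟩ : ∃ B, B ≤ A ∧ B.relIndex A ≤ p ∧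
      X ⊓ centralizer (B : Set G) ≠ ⊥ ∧ ¬ B ≤ A₀ := by
    by_contra hcon
    push Not at hcon
    obtain ⟨B, hBA, hBi, hB⟩ := h.exists_hyperplane_fixed hXm (D := ⊥)
      fun hle => hX1 (le_bot_iff.1 hle)
    have hBA₀ := hcon B hBA hBi fun e' => hB e'.le
    have heq : ∀ B', B' ≤ A → B'.relIndex A ≤ p → B' ≤ A₀ → B' = A₀ := by
      intro B' hB' hi hle
      by_contra hne
      have hc := h.card_hyperplane_le inf_le_left (lt_of_le_of_ne hle hne) hA₀
      have h1 := relIndex_mul_relIndex ⊥ B' A bot_le hB'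
      rw [relIndex_bot_left, relIndex_bot_left, h.card] at h1
      have h2 : Nat.card B' * B'.relIndex A ≤ p * p := Nat.mul_le_mul hc hi
      have h3 : p * p < p ^ 3 := by
        rw [← sq]; exact Nat.pow_lt_pow_right h.prime.one_lt (by norm_num)
      omega
    have hXA₀ : X ≤ centralizer (A₀ : Set G) := by
      refine CfsgLib.Signalizer.le_of_forall_hyperplane h.elem (h.A_le_normalizer hXm) hXm.2.1
        fun B' hB' hi => ?_
      by_cases hf : X ⊓ centralizer (B' : Set G) = ⊥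
      · rw [hf]; exact bot_le
      · rw [heq B' hB' hi (hcon B' hB' hi hf)]; exact inf_le_right
    have hne : A₀ ≠ ⊥ := by
      rw [← heq B hBA hBi hBA₀]
      intro hb
      rw [hb] at hBi
      have h1 := relIndex_bot_left A
      rw [h1, h.card] at hBi
      have := Nat.pow_lt_pow_right h.prime.one_lt (show 1 < 3 by norm_num)
      rw [pow_one] at this
      omega
    obtain ⟨⟨a, ha⟩, ha1⟩ := ne_bot_iff_exists_ne_one.1 hne
    refine hZ1 (le_bot_iff.1 ((le_inf hZY (hsingleton ha.2)).trans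
      (hall3 a ha.1 (fun e' => ha1 (Subtype.ext e')) ?_).le))
    exact hsingleton (le_centralizer_symm hXA₀ ha)
  set D := B ⊓ A₀
  have hBne : B ≠ A := fun he => hBX (le_bot_iff.1 (le_trans (le_inf inf_le_left
      (((inf_le_inf_left X (by rw [he])).trans (h.inf_centralizer_le_C hXm)).trans
        (S.cc h T.hc).2.1))
    (h.oc_inf_eq_bot (S.cc h T.hc) (S.fitLE h T.he (S.cc h T.hc) (T.sc.other e T.he.1 T.ed))
      T.hc.1 (S.oc_self h T.hc)).le))
  have hDc : Nat.card D ≤ p :=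
    h.card_hyperplane_le hBA (inf_lt_left.2 hBA₀) hBne
  have hsub : ∀ B', B' ≤ A → B'.relIndex A ≤ p → Y ⊓ centralizer (B' : Set G) ≠ ⊥ →
      B ⊓ B' = D := by
    intro B' hB' hi hf
    have hne := CfsgLib.Signalizer.inf_ne_bot_of_relIndex h.elem h.card_three hBA hB' hBi hi
    have hle : B ⊓ B' ≤ D := le_inf inf_le_left fun a ha => by
      by_cases ha1 : a = 1
      · rw [ha1]; exact one_mem _
      · exact ⟨hBA ha.1, hZc a (hBA ha.1) ha1 (hfix hBX a ha.1) (hfix hf a ha.2)⟩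
    exact h.card_inf_eq (inf_le_left.trans hBA) hDc hle hne
  have hY1 : Y ≠ ⊥ := T.sd.oc_ne_bot h
  have hYD : Y ≤ centralizer (D : Set G) := by
    refine CfsgLib.Signalizer.le_of_forall_hyperplane h.elem hAY hYm.2.1 fun B' hB' hi => ?_
    by_cases hf : Y ⊓ centralizer (B' : Set G) = ⊥
    · rw [hf]; exact bot_le
    · exact inf_le_right.trans (centralizer_le (SetLike.coe_subset_coe.2
        ((hsub B' hB' hi hf).ge.trans inf_le_right)))
  obtain ⟨B', hB', hi, hB'Y⟩ := h.exists_hyperplane_fixed hYm (D := ⊥)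
    fun hle => hY1 (le_bot_iff.1 hle)
  have hD1 : D ≠ ⊥ := hsub B' hB' hi (fun e' => hB'Y e'.le) ▸
    CfsgLib.Signalizer.inf_ne_bot_of_relIndex h.elem h.card_three hBA hB' hBi hi
  obtain ⟨⟨a, ha⟩, ha1⟩ := ne_bot_iff_exists_ne_one.1 hD1
  have hYa : Y ≤ centralizer {a} := hsingleton (le_centralizer_symm hYD ha)
  have hXa : X ≤ centralizer {a} := hXd.trans (h.centralizes_single T.sd (hBA ha.1) hYa)
  have h1 := hall3 a (hBA ha.1) (fun e' => ha1 (Subtype.ext e')) hXa
  rw [inf_eq_left.2 hYa] at h1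
  exact hY1 h1

/-- At least three primes give a star. -/
theorem false : False := by
  obtain ⟨c, e, d, hT⟩ := S.exists_threeCycle h
  exact S.false_of_threeCycle h hT

end Large

/-- Without a star exactly two primes have nontrivial `P_s`. -/
theorem MinCex.exists_two (h : MinCex p A θ) (hns : ∀ M, ¬ IsStar p A θ M) :
    ∃ a b : ℕ, a ≠ b ∧ InPi p A θ a ∧ InPi p A θ b ∧ ∀ s, InPi p A θ s → s = a ∨ s = b := by
  have hL : ∀ v : ℕ, ∃ L : Subgroup G, InPi p A θ v → IsL p A θ v L := by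
    intro v
    by_cases hv : InPi p A θ v
    · haveI := Fact.mk hv.1
      obtain ⟨L, -, hL, -, hP, -⟩ := h.exists_cc_cores v hv.1 (h.exists_dvd_of_Pc_ne_bot hv.2)
      exact ⟨L, fun _ => ⟨hL, hP⟩⟩
    · exact ⟨⊥, fun hv' => absurd hv' hv⟩
  choose L hL using hL
  obtain ⟨M, hM⟩ := h.exists_cc
  obtain ⟨a, ha, hne⟩ := h.exists_oc_ne_bot hM
  have haπ := h.inPi_of_delta hM ⟨ha, hne⟩
  haveI := Fact.mk ha
  obtain ⟨b, hb, hba⟩ : ∃ b, InPi p A θ b ∧ b ≠ a := by
    by_contra hc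
    push Not at hc
    obtain ⟨x, hx, hx1, hxσ⟩ := h.exists_not_pgroup a
    simp only [IsPiG, not_forall, Set.mem_singleton_iff] at hxσ
    obtain ⟨s, hs, hsd, hsa⟩ := hxσ
    haveI := Fact.mk hs
    have hs0 : Pc p A θ s = ⊥ := by_contra fun hne => hsa (hc s ⟨hs, hne⟩)
    obtain ⟨L', -, hL', -, hP, -⟩ := h.exists_cc_cores s hs ⟨x, hx, hx1, hsd⟩
    refine hns L' ⟨hL', fun t ht => ?_⟩
    by_cases hts : t = s
    · rw [hts, hs0]; exact bot_le
    · exact hP t ht hts
  refine ⟨a, b, hba.symm, haπ, hb, fun s hs => ?_⟩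
  by_contra hne'
  push Not at hne'
  refine Large.false h (L := L) ⟨hns, hL, fun u v => ?_⟩
  by_cases h1 : a ≠ u ∧ a ≠ v
  · exact ⟨a, haπ, h1.1, h1.2⟩
  by_cases h2 : b ≠ u ∧ b ≠ v
  · exact ⟨b, hb, h2.1, h2.2⟩
  · exact ⟨s, hs, by omega, by omega⟩

end CfsgLib.SFT
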