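import Cfsg.Agent.SFT.ThreeCycle

/-!
Exactly two primes without a star: meeting lemmas for maximal members with two cores, and the
setting for the analysis of lines.
-/

set_option autoImplicit false
set_option linter.unusedSectionVars false
set_option linter.style.haveILetI false
set_option linter.deprecated false

namespace CfsgLib.SFT

open Subgroup Pointwise CfsgLib.SZ

universe u

variable {G : Type u} [Group G] [Finite G] {p : ℕ} [Fact p.Prime] {A : Subgroup G}
  {θ : G → Subgroup G}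

local notation "C" => Cfsg.signalizerInf A θ

/-- Exactly two primes and no star. -/
structure TwoPi (p : ℕ) (A : Subgroup G) (θ : G → Subgroup G) (a b : ℕ) : Prop where
  ne : a ≠ b
  ha : InPi p A θ a
  hb : InPi p A θ b
  only : ∀ s, InPi p A θ s → s = a ∨ s = b
  noStar : ∀ M, ¬ IsStar p A θ M

/-- The setting for the lines: `M` with two cores, `N` the only member with single core `a`. -/
structure Duo (p : ℕ) (A : Subgroup G) (θ : G → Subgroup G) (a b : ℕ) (M N : Subgroup G) : Prop where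
  pi : TwoPi p A θ a b
  mcc : IsCC p A θ M
  multi : Multi M
  nr : IsNr p A θ a N
  single : Single p A θ a N
  uniq : ∀ X, Single p A θ a X → X = N
  not_le : ¬ Pc p A θ a ≤ M
  le_b : ∀ X, Single p A θ b X → oc b M ≤ X
  meet_a : ∀ X, IsCC p A θ X → oc a M ⊓ X ≠ ⊥ → X = M ∨ X = N
  meet_b : ∀ X, IsCC p A θ X → oc b M ⊓ X ≠ ⊥ → X = M ∨ Single p A θ b X

theorem TwoPi.symm {a b : ℕ} (T : TwoPi p A θ a b) : TwoPi p A θ b a :=
  ⟨T.ne.symm, T.hb, T.ha, fun s hs => (T.only s hs).symm, T.noStar⟩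

namespace MinCex

variable (h : MinCex p A θ)
include h

/-- Two maximal members only is impossible. -/
theorem not_two_members {M N : Subgroup G} (hM : IsCC p A θ M) (hN : IsCC p A θ N)
    (hall : ∀ X, IsCC p A θ X → X = M ∨ X = N) : False := by
  have line : ∀ {D : Subgroup G}, IsCC p A θ D → ∃ B, B ≤ A ∧ B.relIndex A ≤ p ∧
      ∀ z ∈ B, z ≠ 1 → ¬ θ z ≤ D := by
    intro D hD
    obtain ⟨x, hx, hx1, hxD⟩ : ∃ x ∈ A, x ≠ 1 ∧ ¬ θ x ≤ D := by
      by_contra hc
      push Not at hc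
      exact h.notComplete ⟨D, hD.1, hc⟩
    obtain ⟨B, hB, hBi, hBD⟩ := h.exists_hyperplane_fixed (h.theta_mem hx hx1) hxD
    exact ⟨B, hB, hBi, fun z hz hz1 hle => hBD
      (((CfsgLib.Signalizer.inf_centralizer_le_signalizerInf (h.theta_mem hx hx1) hB).trans
        (CfsgLib.Signalizer.signalizerInf_le hz hz1)).trans hle)⟩
  obtain ⟨B₁, hB₁, hi₁, h₁⟩ := line hM
  obtain ⟨B₂, hB₂, hi₂, h₂⟩ := line hN
  obtain ⟨⟨z, hz₁, hz₂⟩, hz⟩ := ne_bot_iff_exists_ne_one.1
    (CfsgLib.Signalizer.inf_ne_bot_of_relIndex h.elem h.card_three hB₁ hB₂ hi₁ hi₂)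
  have hz1 : z ≠ 1 := fun e => hz (Subtype.ext e)
  obtain ⟨X, hX, hle⟩ := h.exists_cc_theta (hB₁ hz₁) hz1
  rcases hall X hX with rfl | rfl
  · exact h₁ z hz₁ hz1 hle
  · exact h₂ z hz₂ hz1 hle

end MinCex

namespace TwoPi

variable (h : MinCex p A θ) {a b : ℕ} (T : TwoPi p A θ a b)
include h T

theorem delta_cases {M : Subgroup G} (hM : IsCC p A θ M) {t : ℕ} (ht : Delta M t) :
    t = a ∨ t = b := T.only t (h.inPi_of_delta hM ht)

theorem delta_of_multi {M : Subgroup G} (hM : IsCC p A θ M) (hm : Multi M) : Delta M a := by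
  obtain ⟨t, ht, hne⟩ := hm.exists_ne b
  rcases T.delta_cases h hM ht with rfl | rfl
  · exact ht
  · exact absurd rfl hne

theorem cases {M : Subgroup G} (hM : IsCC p A θ M) :
    Multi M ∨ Single p A θ a M ∨ Single p A θ b M := by
  rcases h.multi_or_single hM with hm | ⟨r, hr, hs⟩
  · exact Or.inl hm
  · haveI := Fact.mk hr
    rcases T.delta_cases h hM ⟨hr, hs.oc_ne_bot h⟩ with rfl | rfl
    · exact Or.inr (Or.inl hs)
    · exact Or.inr (Or.inr hs)

theorem fitLE {M X : Subgroup G} (hM : IsCC p A θ M) (ha : oc a M ≤ X) (hb : oc b M ≤ X) :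
    FitLE M X := fun t ht => by
  by_cases h0 : oc t M = ⊥
  · exact le_of_oc_eq_bot h0
  rcases T.delta_cases h hM ⟨ht, h0⟩ with rfl | rfl
  · exact ha
  · exact hb

theorem star_of {M : Subgroup G} (hM : IsCC p A θ M) (ha : Pc p A θ a ≤ M)
    (hb : Pc p A θ b ≤ M) : False :=
  T.noStar M ⟨hM, fun s hs => by
    by_cases h0 : Pc p A θ s = ⊥
    · rw [h0]; exact bot_le
    rcases T.only s ⟨hs, h0⟩ with rfl | rfl
    · exact ha
    · exact hb⟩

/-- A maximal member containing both cores of a member with two is equal to it. -/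
theorem eq_of_fit {M X : Subgroup G} (hM : IsCC p A θ M) (hm : Multi M) (hX : IsCC p A θ X)
    (ha : oc a M ≤ X) (hb : oc b M ≤ X) : X = M := by
  have hF := T.fitLE h hM ha hb
  exact h.eq_of_mutual hM hX hm hF (T.fitLE h hX
    (h.oc_le_of_fitLE hM hX.1 hm hF (T.delta_of_multi h hM hm))
    (h.oc_le_of_fitLE hM hX.1 hm hF (T.symm.delta_of_multi h hM hm)))

/-- A maximal member meeting both cores of a member with two is equal to it. -/
theorem eq_of_meets {M X : Subgroup G} (hM : IsCC p A θ M) (hm : Multi M) (hX : IsCC p A θ X)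
    (ha : oc a M ⊓ X ≠ ⊥) (hb : oc b M ⊓ X ≠ ⊥) : X = M := by
  haveI := Fact.mk T.ha.1
  haveI := Fact.mk T.hb.1
  let μ : Subgroup G → ℕ := fun X =>
    Nat.card ↥(oc a M ⊓ X) * Nat.card ↥(oc b M ⊓ X)
  let Sset : Set (Subgroup G) :=
    {X | IsCC p A θ X ∧ oc a M ⊓ X ≠ ⊥ ∧ oc b M ⊓ X ≠ ⊥ ∧ X ≠ M}
  by_contra hne
  obtain ⟨Y, ⟨hY, hYa, hYb, hYne⟩, hmax⟩ :=
    Set.exists_max_image Sset μ (Set.toFinite _) ⟨X, hX, ha, hb, hne⟩
  -- normalizers in `Y` of the intersections lie in `M`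
  have key : ∀ {r s : ℕ} [Fact r.Prime] [Fact s.Prime], TwoPi p A θ r s →
      oc r M ⊓ Y ≠ ⊥ → oc s M ⊓ Y ≠ ⊥ →
      (∀ W, IsCC p A θ W → W ≠ M → oc r M ⊓ W ≠ ⊥ → oc s M ⊓ W ≠ ⊥ →
        Nat.card ↥(oc r M ⊓ W) * Nat.card ↥(oc s M ⊓ W) ≤
          Nat.card ↥(oc r M ⊓ Y) * Nat.card ↥(oc s M ⊓ Y)) →
      ∀ Z, Mem p A θ Z → Z ≤ normalizer ((oc r M ⊓ Y : Subgroup G) : Set G) → Z ≤ M := by
    intro r s _ _ Trs hr hs hmax Z hZ hZn
    have hAI : A ≤ normalizer ((oc r M ⊓ Y : Subgroup G) : Set G) :=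
      le_normalizer_inf (le_normalizer_oc_of_le r (h.A_le_normalizer hM.1)) (h.A_le_normalizer hY.1)
    have hIm : Mem p A θ (oc r M ⊓ Y) := h.mem_of_le hY.1 inf_le_right hAI
    by_cases hfull : oc r M ⊓ Y = oc r M
    · refine h.le_cc_oc hM (fun e => hr (by rw [e, bot_inf_eq])) hZ ?_
      rw [hfull] at hZn
      exact hZn
    obtain ⟨W, hW, hWmax⟩ := h.exists_cc_normalizer hIm hr
      (le_normalizer_inf (hM.2.1.trans (le_normalizer_oc r M)) (hY.2.1.trans le_normalizer))
    by_cases hWM : W = M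
    · exact hWM ▸ hWmax Z hZ hZn
    exfalso
    have hsW : oc s M ≤ W := hWmax _ (h.oc_mem hM s)
      ((le_centralizer_oc Trs.ne.symm).trans
        ((centralizer_le (SetLike.coe_subset_coe.2 inf_le_left)).trans (centralizer_le_normalizer _)))
    have hlt : oc r M ⊓ Y < oc r M ⊓ W := by
      have hle : oc r M ⊓ Y < oc r M := lt_of_le_of_ne inf_le_left hfull
      obtain ⟨x, hx, hxI, hxn⟩ := exists_normalizing (N := ⊥) bot_le hle
        (fun g _ => mem_normalizer_of_conj fun z hz => by rw [mem_bot.1 hz]; simp)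
        (RMod.of_pgroup (isPGroup_oc r M) _)
      have hD : oc r M ⊓ normalizer ((oc r M ⊓ Y : Subgroup G) : Set G) ≤ W :=
        hWmax _ (h.mem_of_le (h.oc_mem hM r) inf_le_left
          (le_normalizer_inf (le_normalizer_oc_of_le r (h.A_le_normalizer hM.1))
            (hAI.trans le_normalizer))) inf_le_right
      refine lt_of_le_of_ne (le_inf inf_le_left
        ((le_inf inf_le_left le_normalizer).trans hD)) fun e => hxI ?_
      rw [e]
      exact ⟨hx, hD ⟨hx, hxn⟩⟩
    have h1 := hmax W hW hWM (fun e => hr (le_bot_iff.1 (hlt.le.trans e.le)))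
      (by rw [inf_eq_left.2 hsW]; exact fun e => hs (by rw [e, bot_inf_eq]))
    have h2 : Nat.card ↥(oc s M ⊓ Y) ≤ Nat.card ↥(oc s M ⊓ W) := by
      rw [inf_eq_left.2 hsW]; exact Subgroup.card_le_of_le inf_le_left
    have h3 := CfsgLib.Solvable.card_lt_of_lt hlt
    have h4 : 0 < Nat.card ↥(oc s M ⊓ Y) := Nat.card_pos
    nlinarith
  have hna := key T hYa hYb fun W hW hWM h1 h2 => hmax W ⟨hW, h1, h2, hWM⟩
  have hnb := key T.symm hYb hYa fun W hW hWM h1 h2 => by
    have := hmax W ⟨hW, h2, h1, hWM⟩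
    simp only [μ] at this
    rw [mul_comm, mul_comm (Nat.card ↥(oc b M ⊓ Y))]
    exact this
  have hle : ∀ {r s : ℕ} [Fact r.Prime] [Fact s.Prime], s ≠ r →
      (∀ Z, Mem p A θ Z → Z ≤ normalizer ((oc r M ⊓ Y : Subgroup G) : Set G) → Z ≤ M) →
      oc s M ⊓ Y ≤ oc' r Y := by
    intro r s _ _ hsr hn
    refine lift hY.1.1 (P := oc r M ⊓ Y) inf_le_right inf_le_right
      ((isPGroup_oc r M).to_le inf_le_left) ?_ ?_
      ((pgroup_coprime_prime hsr (isPGroup_oc s M)).coprime_dvd_left (card_dvd_of_le inf_le_left))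
    · exact inf_le_left.trans ((le_centralizer_oc hsr).trans
        (centralizer_le (SetLike.coe_subset_coe.2 inf_le_left)))
    · have hAI : A ≤ normalizer ((oc r M ⊓ Y : Subgroup G) : Set G) :=
        le_normalizer_inf (le_normalizer_oc_of_le r (h.A_le_normalizer hM.1))
          (h.A_le_normalizer hY.1)
      have hc : Y ⊓ centralizer ((oc r M ⊓ Y : Subgroup G) : Set G) ≤ M :=
        hn _ (h.mem_of_le hY.1 inf_le_left
          (le_normalizer_inf (h.A_le_normalizer hY.1) (le_normalizer_centralizer hAI)))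
          (inf_le_right.trans (centralizer_le_normalizer _))
      exact le_normalizer_inf (hc.trans (le_normalizer_oc s M)) (inf_le_left.trans le_normalizer)
  have hb' := hle T.ne.symm hna
  have ha' := hle T.ne hnb
  have hFY : ∀ {r s : ℕ} [Fact r.Prime] [Fact s.Prime], oc s M ⊓ Y ≤ oc' r Y →
      (∀ Z, Mem p A θ Z → Z ≤ normalizer ((oc s M ⊓ Y : Subgroup G) : Set G) → Z ≤ M) → oc r Y ≤ M := by
    intro r s _ _ hs hn
    refine hn _ (h.oc_mem hY r) ?_
    exact (le_centralizer_symm (hs.trans (oc'_le_centralizer_oc r Y))).trans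
      (centralizer_le_normalizer _)
  rcases T.cases h hY with hmY | hsY | hsY
  · exact hYne (T.eq_of_fit h hY hmY hM (hFY hb' hnb) (hFY ha' hna)).symm
  · exact hYb (le_bot_iff.1 (hb'.trans (h.oc'_eq_bot hsY).le))
  · exact hYa (le_bot_iff.1 (ha'.trans (h.oc'_eq_bot hsY).le))

/-- With a unique member with single core `a` containing all members normalizing `Ω₁(Z(P_a))`, the
`b`-core of a member with two cores meets no other such member. -/
theorem eq_of_meet_b {M X N : Subgroup G} (hN : IsNr p A θ a N) (hNs : Single p A θ a N)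
    (hM : IsCC p A θ M) (hm : Multi M) (hX : IsCC p A θ X) (hmX : Multi X)
    (hb : oc b M ⊓ X ≠ ⊥) : X = M := by
  haveI := Fact.mk T.ha.1
  haveI := Fact.mk T.hb.1
  set E := elZ a (Pc p A θ a)
  set Y := oc b M ⊓ X
  have hEm := h.elZ_Pc_mem a
  have hΔM := T.delta_of_multi h hM hm
  have hΔX := T.delta_of_multi h hX hmX
  have hEc : ∀ {Z : Subgroup G}, IsCC p A θ Z → E ≤ centralizer (oc a Z : Set G) := fun hZ =>
    (elZ_le_centralizer a _).trans (centralizer_le (SetLike.coe_subset_coe.2 (h.oc_le_Pc hZ a)))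
  have hEM : E ≤ M :=
    h.le_cc_oc hM hΔM.2 hEm ((hEc hM).trans (centralizer_le_normalizer _))
  have hEX : E ≤ X :=
    h.le_cc_oc hX hΔX.2 hEm ((hEc hX).trans (centralizer_le_normalizer _))
  have hEY : E ≤ normalizer (Y : Set G) :=
    le_normalizer_inf (hEM.trans (le_normalizer_oc b M)) (hEX.trans le_normalizer)
  have hAY : A ≤ normalizer (Y : Set G) :=
    le_normalizer_inf (le_normalizer_oc_of_le b (h.A_le_normalizer hM.1)) (h.A_le_normalizer hX.1)
  have hYm : Mem p A θ Y := h.mem_of_le hX.1 inf_le_right hAY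
  have hY₁le : ⁅Y, E⁆ ≤ Y := le_normalizer_iff_commutator_le_left.1 hEY
  by_cases hY₁ : ⁅Y, E⁆ = ⊥
  · exfalso
    have hYN : Y ≤ N := hN.2 Y hYm
      ((commutator_eq_bot_iff_le_centralizer.1 hY₁).trans (centralizer_le_normalizer _))
    have hNM : N = M := T.eq_of_meets h hM hm hN.1
      (by rw [inf_eq_left.2 ((h.oc_le_Pc hM a).trans (hN.Pc_le h))]; exact hΔM.2)
      fun e => hb (le_bot_iff.1 ((le_inf inf_le_left hYN).trans e.le))
    exact h.not_multi hNs (hNM ▸ hm)
  set Y₁ := ⁅Y, E⁆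
  have hAY₁ : A ≤ normalizer (Y₁ : Set G) :=
    le_normalizer_commutator hAY (le_normalizer_elZ a (h.A_le_normalizer (h.Pc_mem a)))
  have hCY₁ : C ≤ normalizer (Y₁ : Set G) := le_normalizer_commutator
    (le_normalizer_inf (hM.2.1.trans (le_normalizer_oc b M)) (hX.2.1.trans le_normalizer))
    (le_normalizer_elZ a (h.C_le_normalizer_Pc a))
  obtain ⟨W, hW, hWmax⟩ := h.exists_cc_normalizer (h.mem_of_le hYm hY₁le hAY₁) hY₁ hCY₁
  have hTaW : oc a M ≤ W := hWmax _ (h.oc_mem hM a) ((le_centralizer_oc T.ne).trans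
    ((centralizer_le (SetLike.coe_subset_coe.2 (hY₁le.trans inf_le_left))).trans
      (centralizer_le_normalizer _)))
  have hY₁X : Y₁ ≤ centralizer (oc a X : Set G) := by
    rw [commutator_le]
    intro y hy e he
    have hn := le_normalizer_centralizer (le_normalizer_oc a X)
    rw [commutatorElement_def]
    exact mul_mem (conj_mem hn (show y ∈ X from hy.2) (hEc hX he)) (inv_mem (hEc hX he))
  have hWM : W = M := T.eq_of_meets h hM hm hW
    (by rw [inf_eq_left.2 hTaW]; exact hΔM.2)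
    fun e => hY₁ (le_bot_iff.1 ((le_inf (hY₁le.trans inf_le_left)
      (hWmax _ (h.mem_of_le hYm hY₁le hAY₁) le_normalizer)).trans e.le))
  have hXaM : oc a X ≤ M := hWM ▸ hWmax _ (h.oc_mem hX a)
    ((le_centralizer_symm hY₁X).trans (centralizer_le_normalizer _))
  have hfix := inf_centralizer_ne_bot (isPGroup_oc a X) (isPGroup_oc a M)
    (hXaM.trans (le_normalizer_oc a M)) hΔM.2
  refine T.eq_of_meets h hM hm hX (fun e => hfix (le_bot_iff.1 ((le_inf inf_le_left ?_).trans e.le))) hb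
  refine h.le_cc_oc hX hΔX.2 (h.mem_of_le (h.oc_mem hM a) inf_le_left ?_)
    (inf_le_right.trans (centralizer_le_normalizer _))
  exact le_normalizer_inf (le_normalizer_oc_of_le a (h.A_le_normalizer hM.1))
    (le_normalizer_centralizer (le_normalizer_oc_of_le a (h.A_le_normalizer hX.1)))

/-- The member of a prime has this prime as a single core prime or two cores. -/
theorem nr_cases {Na Nb : Subgroup G} (hNa : IsNr p A θ a Na) (hNb : IsNr p A θ b Nb) :
    Multi Na ∨ Single p A θ a Na := by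
  haveI := Fact.mk T.ha.1
  haveI := Fact.mk T.hb.1
  rcases T.cases h hNa.1 with hm | hs | hs
  · exact Or.inl hm
  · exact Or.inr hs
  · exfalso
    by_cases hN' : ∀ t : ℕ, t.Prime → t ≠ b → oc t Nb = ⊥
    · have he := hs.eq_Nr (fun H => rank_bound H) h hNb hN'
      exact T.star_of h hNa.1 (hNa.Pc_le h) (he ▸ hNb.Pc_le h)
    · push Not at hN'
      obtain ⟨t, ht, htb, htn⟩ := hN'
      rcases T.delta_cases h hNb.1 ⟨ht, htn⟩ with rfl | rfl
      · exact hs.not_Pc_le h hNb ht htb htn (hNa.Pc_le h)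
      · exact htb rfl

theorem not_both_multi {Na Nb : Subgroup G} (hNa : IsNr p A θ a Na) (hNb : IsNr p A θ b Nb)
    (hma : Multi Na) (hmb : Multi Nb) : False := by
  haveI := Fact.mk T.ha.1
  haveI := Fact.mk T.hb.1
  have hTa : oc a Nb ≤ Na := (h.oc_le_Pc hNb.1 a).trans (hNa.Pc_le h)
  have hTb : oc b Na ≤ Nb := (h.oc_le_Pc hNa.1 b).trans (hNb.Pc_le h)
  have hfix := inf_centralizer_ne_bot (isPGroup_oc a Nb) (isPGroup_oc a Na)
    (hTa.trans (le_normalizer_oc a Na)) (T.delta_of_multi h hNa.1 hma).2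
  have he : Nb = Na := T.eq_of_meets h hNa.1 hma hNb.1
    (fun e => hfix (le_bot_iff.1 ((le_inf inf_le_left
      (h.le_cc_oc hNb.1 (T.delta_of_multi h hNb.1 hmb).2
        (h.mem_of_le (h.oc_mem hNa.1 a) inf_le_left
          (le_normalizer_inf (le_normalizer_oc_of_le a (h.A_le_normalizer hNa.1.1))
            (le_normalizer_centralizer (le_normalizer_oc_of_le a (h.A_le_normalizer hNb.1.1)))))
        (inf_le_right.trans (centralizer_le_normalizer _)))).trans e.le)))
    (by rw [inf_eq_left.2 hTb]; exact (T.symm.delta_of_multi h hNa.1 hma).2)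
  exact T.star_of h hNa.1 (hNa.Pc_le h) (he ▸ hNb.Pc_le h)

/-- With both members single, a member with two cores gives the setting of lines or its mirror. -/
theorem duo_of_singles {M Na Nb : Subgroup G} (hNa : IsNr p A θ a Na) (hNb : IsNr p A θ b Nb)
    (hsa : Single p A θ a Na) (hsb : Single p A θ b Nb) (hM : IsCC p A θ M) (hm : Multi M)
    (hP : ¬ Pc p A θ a ≤ M) : Duo p A θ a b M Na := by
  haveI := Fact.mk T.ha.1
  haveI := Fact.mk T.hb.1
  have ua : ∀ X, Single p A θ a X → X = Na := fun X hX =>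
    hX.eq_Nr (fun H => rank_bound H) h hNa hsa.other
  have ub : ∀ X, Single p A θ b X → X = Nb := fun X hX =>
    hX.eq_Nr (fun H => rank_bound H) h hNb hsb.other
  have hb : ∀ X, Single p A θ b X → oc b M ≤ X := fun X hX =>
    (ub X hX).symm ▸ (h.oc_le_Pc hM b).trans (hNb.Pc_le h)
  have ha : oc a M ≤ Na := (h.oc_le_Pc hM a).trans (hNa.Pc_le h)
  refine ⟨T, hM, hm, hNa, hsa, ua, hP, hb, fun X hX hne => ?_, fun X hX hne => ?_⟩
  · rcases T.cases h hX with hmX | hs | hs
    · exact Or.inl (T.symm.eq_of_meet_b h hNb hsb hM hm hX hmX hne)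
    · exact Or.inr (ua X hs)
    · refine absurd hm ?_
      rw [← T.eq_of_meets h hM hm hX hne
        (by rw [inf_eq_left.2 (hb X hs)]; exact (T.symm.delta_of_multi h hM hm).2)]
      exact h.not_multi hs
  · rcases T.cases h hX with hmX | hs | hs
    · exact Or.inl (T.eq_of_meet_b h hNa hsa hM hm hX hmX hne)
    · refine absurd hm ?_
      rw [← T.eq_of_meets h hM hm hX
        (by rw [ua X hs, inf_eq_left.2 ha]; exact (T.delta_of_multi h hM hm).2) hne]
      exact h.not_multi hs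
    · exact Or.inr hs

/-- The setting of lines exists, with either `P_b ≤ M` or the mirrored setting. -/
theorem exists_duo {Na Nb : Subgroup G} (hNa : IsNr p A θ a Na) (hNb : IsNr p A θ b Nb)
    (hsa : Single p A θ a Na) :
    ∃ a' b' M N, Duo p A θ a' b' M N ∧
      (Pc p A θ b' ≤ M ∨ ∃ N', Duo p A θ b' a' M N') := by
  haveI := Fact.mk T.ha.1
  haveI := Fact.mk T.hb.1
  have ua : ∀ X, Single p A θ a X → X = Na := fun X hX =>
    hX.eq_Nr (fun H => rank_bound H) h hNa hsa.other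
  rcases T.symm.nr_cases h hNb hNa with hmb | hsb
  · -- `N_b` has two cores
    have ha : oc a Nb ≤ Na := (h.oc_le_Pc hNb.1 a).trans (hNa.Pc_le h)
    have hle : ∀ X, Single p A θ b X → oc b Nb ≤ X := fun X hX =>
      hX.oc_Nr_le (fun H => rank_bound H) h hNb
    have hmu : ∀ X, IsCC p A θ X → Multi X → X = Nb := fun X hX hmX =>
      (T.eq_of_meet_b h hNa hsa hX hmX hNb.1 hmb
        (by rw [inf_eq_left.2 ((h.oc_le_Pc hX b).trans (hNb.Pc_le h))]
            exact (T.symm.delta_of_multi h hX hmX).2)).symm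
    refine ⟨a, b, Nb, Na, ⟨T, hNb.1, hmb, hNa, hsa, ua,
      fun hle' => T.star_of h hNb.1 hle' (hNb.Pc_le h), hle,
      fun X hX hne => ?_, fun X hX hne => ?_⟩, Or.inl (hNb.Pc_le h)⟩
    · rcases T.cases h hX with hmX | hs | hs
      · exact Or.inl (hmu X hX hmX)
      · exact Or.inr (ua X hs)
      · refine absurd hmb ?_
        rw [← T.eq_of_meets h hNb.1 hmb hX hne
          (by rw [inf_eq_left.2 (hle X hs)]; exact (T.symm.delta_of_multi h hNb.1 hmb).2)]
        exact h.not_multi hs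
    · rcases T.cases h hX with hmX | hs | hs
      · exact Or.inl (hmu X hX hmX)
      · refine absurd hmb ?_
        rw [← T.eq_of_meets h hNb.1 hmb hX
          (by rw [ua X hs, inf_eq_left.2 ha]; exact (T.delta_of_multi h hNb.1 hmb).2) hne]
        exact h.not_multi hs
      · exact Or.inr hs
  · have ub : ∀ X, Single p A θ b X → X = Nb := fun X hX =>
      hX.eq_Nr (fun H => rank_bound H) h hNb hsb.other
    by_cases hex : ∃ M, IsCC p A θ M ∧ Multi M
    · obtain ⟨M, hM, hm⟩ := hex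
      by_cases hPa : Pc p A θ a ≤ M
      · exact ⟨b, a, M, Nb, T.symm.duo_of_singles h hNb hNa hsb hsa hM hm
          (fun hle => T.star_of h hM hPa hle), Or.inl hPa⟩
      by_cases hPb : Pc p A θ b ≤ M
      · exact ⟨a, b, M, Na, T.duo_of_singles h hNa hNb hsa hsb hM hm hPa, Or.inl hPb⟩
      exact ⟨a, b, M, Na, T.duo_of_singles h hNa hNb hsa hsb hM hm hPa,
        Or.inr ⟨Nb, T.symm.duo_of_singles h hNb hNa hsb hsa hM hm hPb⟩⟩
    · exfalso
      refine h.not_two_members hNa.1 hNb.1 fun X hX => ?_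
      rcases T.cases h hX with hmX | hs | hs
      · exact absurd ⟨X, hX, hmX⟩ hex
      · exact Or.inl (ua X hs)
      · exact Or.inr (ub X hs)

end TwoPi

/-- Without a star there is a setting of lines. -/
theorem MinCex.exists_duo (h : MinCex p A θ) (hns : ∀ M, ¬ IsStar p A θ M) :
    ∃ a b M N, Duo p A θ a b M N ∧ (Pc p A θ b ≤ M ∨ ∃ N', Duo p A θ b a M N') := by
  obtain ⟨a, b, hab, ha, hb, honly⟩ := h.exists_two hns
  have T : TwoPi p A θ a b := ⟨hab, ha, hb, honly, hns⟩
  haveI := Fact.mk ha.1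
  haveI := Fact.mk hb.1
  obtain ⟨Na, hNa⟩ := h.exists_Nr a ha.2
  obtain ⟨Nb, hNb⟩ := h.exists_Nr b hb.2
  rcases T.nr_cases h hNa hNb with hma | hsa
  · rcases T.symm.nr_cases h hNb hNa with hmb | hsb
    · exact (T.not_both_multi h hNa hNb hma hmb).elim
    · exact T.symm.exists_duo h hNb hNa hsb
  · exact T.exists_duo h hNa hNb hsa

end CfsgLib.SFT
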