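import Cfsg.Agent.SFT.TwoLines

/-!
Two primes without a star is impossible: the single bad line leads to a contradiction.
-/

set_option autoImplicit false
set_option linter.unusedSectionVars false
set_option linter.style.haveILetI false
set_option linter.deprecated false

namespace CfsgLib.SFT

open Subgroup Pointwise CfsgLib.SZ
open scoped commutatorElement

universe u

variable {G : Type u} [Group G] [Finite G] {p : ℕ} [Fact p.Prime] {A : Subgroup G}
  {θ : G → Subgroup G}

local notation "C" => Cfsg.signalizerInf A θ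

namespace Duo

variable (h : MinCex p A θ) {a b : ℕ} {M N : Subgroup G} (D : Duo p A θ a b M N)
variable {B : Subgroup G} (hB : BadLine p A θ M B)
  (huniq : ∀ B', BadLine p A θ M B' → B' = B)
include h D hB huniq

theorem le_of_line {X Y : Subgroup G} (hX : Mem p A θ X) (hXM : X ⊓ M ≤ Y)
    (hfix : X ⊓ centralizer (B : Set G) ≤ Y) : X ≤ Y :=
  D.le_of_bad h hX hXM fun B' hB' => huniq B' hB' ▸ hfix

/-- A primary member is a product of its fixed points on the bad line and its intersection with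
`M`. -/
theorem mul_decomp {r : ℕ} [Fact r.Prime] {X : Subgroup G} (hX : Mem p A θ X)
    (hXr : IsPGroup r X) :
    ∀ g ∈ X, ∃ c ∈ X ⊓ centralizer (B : Set G), ∃ k ∈ X ⊓ M, g = c * k := by
  suffices ∀ K : Subgroup G, X ⊓ M ≤ K → K ≤ X → A ≤ normalizer (K : Set G) →
      ∀ g ∈ X, ∃ c ∈ X ⊓ centralizer (B : Set G), ∃ k ∈ K, g = c * k from
    this _ le_rfl inf_le_left
      (le_normalizer_inf (h.A_le_normalizer hX) (h.A_le_normalizer D.mcc.1))
  intro K
  induction K using WellFoundedGT.induction with | _ K ih => ?_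
  intro hMK hKX hAK g hg
  rcases hKX.eq_or_lt with rfl | hlt
  · exact ⟨1, one_mem _, g, hg, (one_mul g).symm⟩
  set D₀ := X ⊓ normalizer (K : Set G)
  have hAD : A ≤ normalizer (D₀ : Set G) :=
    le_normalizer_inf (h.A_le_normalizer hX) (hAK.trans le_normalizer)
  have hKD : K < D₀ := by
    obtain ⟨x, hx, hxK, hxn⟩ := exists_normalizing (N := ⊥) bot_le hlt
      (fun g _ => mem_normalizer_of_conj fun z hz => by rw [mem_bot.1 hz]; simp)
      (RMod.of_pgroup hXr _)
    exact lt_of_le_of_ne (le_inf hKX le_normalizer) fun e => hxK (e.symm ▸ ⟨hx, hxn⟩)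
  obtain ⟨c, hc, d, hd, rfl⟩ := ih D₀ hKD (hMK.trans hKD.le) inf_le_left hAD g hg
  have hDle : D₀ ≤ (D₀ ⊓ centralizer (B : Set G)) ⊔ K :=
    D.le_of_line h hB huniq (h.mem_of_le hX inf_le_left hAD)
      (((inf_le_inf_right _ inf_le_left).trans hMK).trans le_sup_right) le_sup_left
  obtain ⟨c', hc', k, hk, rfl⟩ :=
    (CfsgLib.Solvable.mem_sup_of_le_normalizer (inf_le_left.trans inf_le_right)).1 (hDle hd)
  exact ⟨c * c', mul_mem hc ⟨hc'.1.1, hc'.2⟩, k, hk, (mul_assoc c c' k).symm⟩

/-- Commutators with elements of the bad line lie in `M`. -/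
theorem commutator_le {r : ℕ} [Fact r.Prime] {X : Subgroup G} (hX : Mem p A θ X)
    (hXr : IsPGroup r X) {x : G} (hx : x ∈ B) :
    ⁅X, zpowers x⁆ ≤ ⁅X ⊓ M, zpowers x⁆ := by
  rw [Subgroup.commutator_le]
  intro g hg y hy
  obtain ⟨c, hc, k, hk, he⟩ := D.mul_decomp h hB huniq hX hXr g⁻¹ (inv_mem hg)
  have hyB : y ∈ B := zpowers_le.2 hx hy
  have hcy : c⁻¹ * y * c = y := by
    rw [mul_assoc, mem_centralizer_iff.1 hc.2 y hyB, inv_mul_cancel_left]
  have hg' : ⁅g, y⁆ = ⁅k⁻¹, y⁆ := by
    rw [show g = k⁻¹ * c⁻¹ by rw [← mul_inv_rev, ← he, inv_inv], commutatorElement_def,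
      commutatorElement_def]
    calc k⁻¹ * c⁻¹ * y * (k⁻¹ * c⁻¹)⁻¹ * y⁻¹ = k⁻¹ * (c⁻¹ * y * c) * k * y⁻¹ := by group
      _ = k⁻¹ * y * k⁻¹⁻¹ * y⁻¹ := by rw [hcy, inv_inv]
  rw [hg']
  exact commutator_mem_commutator (inv_mem hk) hy

theorem line_zpowers_normalizer {X : Subgroup G} {x : G} (hX : X ≤ centralizer {x}) :
    X ≤ normalizer (zpowers x : Set G) :=
  hX.trans ((centralizer_singleton_le_zpowers x).trans (centralizer_le_normalizer _))

/-- Two independent elements of the bad line. -/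
theorem line_le_centralizer {X : Subgroup G} {y z : G} (hy : y ∈ B) (hz : z ∈ B) (hz1 : z ≠ 1)
    (hyz : y ∉ zpowers z) (hXy : X ≤ centralizer {y}) (hXz : X ≤ centralizer {z}) :
    X ≤ centralizer (B : Set G) :=
  (le_inf (le_inf le_rfl hXy) hXz).trans
    ((h.inf_fix_le hB.le (D.ne_A h hB) hy hz hz1 hyz X).trans inf_le_right)

/-- If an invariant subgroup of `M` without fixed points of the line meets no member above the
line that meets `oc s M`, the elements off a line with fixed points on it fix points of `oc s M`. -/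
theorem fix_of_excl {r s : ℕ} [Fact r.Prime] [Fact s.Prime] (hrs : r ≠ s) (hrp : r ≠ p)
    (hΔ : Delta M s) {X : Subgroup G} (hX : Mem p A θ X) (hXr : IsPGroup r X) (hXM : X ≤ M)
    (hCX : C ≤ normalizer (X : Set G))
    (hKX : Cfsg.signalizerInf B θ ≤ normalizer (X : Set G))
    (hX0 : X ⊓ centralizer (B : Set G) = ⊥)
    (excl : ∀ W, IsCC p A θ W → Cfsg.signalizerInf B θ ≤ W → oc s M ⊓ W ≠ ⊥ → X ⊓ W = ⊥)
    {z : G} (hz : z ∈ B) (hz1 : z ≠ 1) (hfix : X ⊓ centralizer {z} ≠ ⊥) {y : G} (hy : y ∈ B)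
    (hyz : y ∉ zpowers z) : oc s M ⊓ centralizer {y} ≠ ⊥ := by
  intro hys
  have hAX := h.A_le_normalizer hX
  set D₀ := X ⊓ centralizer {z}
  have hAD : A ≤ normalizer (D₀ : Set G) := h.A_le_normalizer_fix hAX (hB.le hz)
  have hDp : IsPGroup r D₀ := hXr.to_le inf_le_left
  set Z := D₀ ⊓ centralizer (D₀ : Set G)
  have hZ1 : Z ≠ ⊥ := inf_centralizer_ne_bot hDp hDp le_normalizer hfix
  have hAZ : A ≤ normalizer (Z : Set G) := le_normalizer_inf hAD (le_normalizer_centralizer hAD)
  have hZX : Z ≤ X := inf_le_left.trans inf_le_left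
  have hZm : Mem p A θ Z := h.mem_of_le hX hZX hAZ
  have hZp : IsPGroup r Z := hDp.to_le inf_le_left
  have hZy : Z ⊓ centralizer {y} = ⊥ := by
    refine le_bot_iff.1 (le_trans ?_ hX0.le)
    refine le_trans ?_ (h.inf_fix_le hB.le (D.ne_A h hB) hy hz hz1 hyz X)
    exact le_inf (le_inf (inf_le_left.trans hZX) inf_le_right)
      (inf_le_left.trans (inf_le_left.trans inf_le_right))
  have hZs : Z ≤ centralizer (oc s M : Set G) :=
    abelian_fpf_centralizes_pgroup (h.delta_ne_p D.mcc hΔ)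
      (inf_le_right.trans (centralizer_le (SetLike.coe_subset_coe.2 inf_le_left)))
      (isPGroup_oc s M) (h.elem.2 y (hB.le hy)) (hAZ (hB.le hy))
      (h.A_le_normalizer (h.oc_mem D.mcc s) (hB.le hy))
      ((hZX.trans hXM).trans (le_normalizer_oc s M)) hZy hys (pgroup_coprime_prime hrs hZp)
  have hn : ∀ {Y : Subgroup G}, Y ≤ normalizer (X : Set G) → Y ≤ centralizer {z} →
      Y ≤ normalizer (Z : Set G) := fun hYX hYz => by
    have h1 := le_normalizer_inf hYX (hYz.trans le_normalizer)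
    exact le_normalizer_inf h1 (le_normalizer_centralizer h1)
  obtain ⟨W, hW, hmax⟩ := h.exists_cc_normalizer hZm hZ1
    (hn hCX (h.C_le_centralizer_singleton (hB.le hz)))
  have hTW : oc s M ≤ W := hmax _ (h.oc_mem D.mcc s)
    ((le_centralizer_symm hZs).trans (centralizer_le_normalizer _))
  exact hZ1 (le_bot_iff.1 (le_of_le_of_eq (le_inf hZX (hmax Z hZm le_normalizer))
    (excl W hW (hmax _ (D.K_mem h hB) (hn hKX (D.K_le_centralizer h hB hz)))
      (by rw [inf_eq_left.2 hTW]; exact hΔ.2))))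

/-- The core of a single-core member above the line is centralized by the elements without fixed
points on `oc a M`, unless it lies in `N`. -/
theorem le_centralizer_of_not_le (hb2 : b ≠ 2) {Q : Subgroup G} (hQ : Single p A θ b Q)
    (hKQ : Cfsg.signalizerInf B θ ≤ Q) (hV : ¬ oc b Q ≤ N) {y : G} (hy : y ∈ B)
    (hfpf : oc a M ⊓ centralizer {y} = ⊥) : Q ≤ centralizer {y} := by
  haveI := Fact.mk D.pi.ha.1
  haveI := Fact.mk D.pi.hb.1
  set V := oc b Q
  have hyA : y ∈ A := hB.le hy
  have hVm : Mem p A θ V := h.oc_mem hQ.cc b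
  have hAV := h.A_le_normalizer hVm
  refine h.centralizes_single hQ hyA (commutator_zpowers_eq_bot_iff.1 (by_contra fun hU => hV ?_))
  refine D.le_N_of_normalizes h
    (h.mem_of_le hVm (le_normalizer_iff_commutator_le_left.1 (h.zpowers_normalizes hyA hAV))
      (le_normalizer_commutator hAV (h.A_le_normalizer_zpowers hyA))) hU ?_ ?_
    (D.K_mem h hB) ?_ hB.nle V hVm (normalizer_commutator_ge_left _ _)
  · exact le_normalizer_commutator (hQ.cc.2.1.trans (le_normalizer_oc b Q))
      (D.line_zpowers_normalizer h hB huniq (h.C_le_centralizer_singleton hyA))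
  · exact (D.commutator_le h hB huniq hVm (isPGroup_oc b Q) hy).trans
      (odd_commutator_centralizes hb2 (D.b_ne_p h) (D.a_ne_p h) D.pi.ne.symm (h.elem.2 y hyA)
        ((isPGroup_oc b Q).to_le inf_le_left) (isPGroup_oc a M)
        (le_normalizer_inf hAV (h.A_le_normalizer D.mcc.1) hyA)
        (h.A_le_normalizer (h.oc_mem D.mcc a) hyA)
        (inf_le_right.trans (le_normalizer_oc a M)) hfpf)
  · exact le_normalizer_commutator (hKQ.trans (le_normalizer_oc b Q))
      (D.line_zpowers_normalizer h hB huniq (D.K_le_centralizer h hB hy))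

/-- With `b` odd, the cores of the single-core members above the line lie in `N`. -/
theorem V_le_N_of_odd (hb2 : b ≠ 2) {Q : Subgroup G} (hQ : Single p A θ b Q)
    (hKQ : Cfsg.signalizerInf B θ ≤ Q) : oc b Q ≤ N := by
  haveI := Fact.mk D.pi.ha.1
  haveI := Fact.mk D.pi.hb.1
  by_contra hV
  obtain ⟨w, hw, hw1, hwb⟩ := D.exists_fix h hB (D.delta_b h)
  have hwa := (D.side_b h hB hw hw1 hwb).2
  have hQw := D.le_centralizer_of_not_le h hB huniq hb2 hQ hKQ hV hw hwa
  obtain ⟨e, he, he1, hea⟩ := D.exists_fix h hB (D.delta_a h)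
  have heb := (D.side_a h hB he he1 hea).2
  have hTbQ := D.le_b Q hQ
  have hwTb : oc b M ≤ centralizer {w} := hTbQ.trans hQw
  have hewne : e ∉ zpowers w := fun hm => by
    rw [← h.fix_eq_of_mem_zpowers (hB.le hw) hw1 he1 hm] at hwa
    exact hea hwa
  set R := oc a N
  have hRm : Mem p A θ R := h.oc_mem D.single.cc a
  have hAR := h.A_le_normalizer hRm
  have hwA : w ∈ A := hB.le hw
  have hU : ⁅R, zpowers w⁆ ≠ ⊥ := fun h0 => by
    have h1 := (D.Ta_le h).trans
      (h.centralizes_single D.single hwA (commutator_zpowers_eq_bot_iff.1 h0))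
    rw [inf_eq_left.2 h1] at hwa
    exact (D.delta_a h).2 hwa
  have hKn : Cfsg.signalizerInf B θ ≤ normalizer ((⁅R, zpowers w⁆ : Subgroup G) : Set G) :=
    le_normalizer_commutator ((D.K_le_N h hB).trans (le_normalizer_oc a N))
      (D.line_zpowers_normalizer h hB huniq (D.K_le_centralizer h hB hw))
  obtain ⟨Q', hQ', hmax⟩ := D.exists_Q_of_normalizes h
    (h.mem_of_le hRm (le_normalizer_iff_commutator_le_left.1 (h.zpowers_normalizes hwA hAR))
      (le_normalizer_commutator hAR (h.A_le_normalizer_zpowers hwA))) hU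
    (le_normalizer_commutator (D.single.cc.2.1.trans (le_normalizer_oc a N))
      (D.line_zpowers_normalizer h hB huniq (h.C_le_centralizer_singleton hwA)))
    ((D.commutator_le h hB huniq hRm (isPGroup_oc a N) hw).trans
      (commutator_le_centralizer_of_mem (inf_le_right.trans (le_normalizer_oc b M)) hwTb))
    (D.K_mem h hB) hKn hB.nle
  have hRQ : R ≤ Q' := hmax R hRm (normalizer_commutator_ge_left _ _)
  by_cases hV' : oc b Q' ≤ N
  · exact D.single.oc_ne_bot h
      ((inf_eq_left.2 hRQ).symm.trans (D.R_inf_eq_bot h hQ' hV'))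
  · exact hU (commutator_zpowers_eq_bot_iff.2 (hRQ.trans
      (D.le_centralizer_of_not_le h hB huniq hb2 hQ' (hmax _ (D.K_mem h hB) hKn) hV' hw hwa)))

/-- The case `b` odd is impossible. -/
theorem false_of_b_odd (hb2 : b ≠ 2) : False := by
  haveI := Fact.mk D.pi.ha.1
  haveI := Fact.mk D.pi.hb.1
  have hVN : ∀ Q, Single p A θ b Q → Cfsg.signalizerInf B θ ≤ Q → oc b Q ≤ N :=
    fun Q hQ hKQ => D.V_le_N_of_odd h hB huniq hb2 hQ hKQ
  obtain ⟨Q, hQ, hKQ⟩ := D.exists_Q h hB
  set R := oc a N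
  have hRm : Mem p A θ R := h.oc_mem D.single.cc a
  have hR0 : R ⊓ centralizer (B : Set G) = ⊥ := le_bot_iff.1
    ((le_inf inf_le_left ((D.fix_le_K h hB hRm).trans hKQ)).trans
      (D.R_inf_eq_bot h hQ (hVN Q hQ hKQ)).le)
  have hRM : R ≤ M := D.le_of_line h hB huniq hRm inf_le_right (hR0.le.trans bot_le)
  have claim : ∀ z ∈ B, z ≠ 1 → R ⊓ centralizer {z} ≠ ⊥ → ∀ y ∈ B, y ∉ zpowers z →
      oc b M ⊓ centralizer {y} ≠ ⊥ := fun z hz hz1 hfix y hy hyz =>
    D.fix_of_excl h hB huniq D.pi.ne (D.a_ne_p h) (D.delta_b h) hRm (isPGroup_oc a N) hRM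
      (D.single.cc.2.1.trans (le_normalizer_oc a N)) ((D.K_le_N h hB).trans (le_normalizer_oc a N))
      hR0 (fun W hW hKW hne => by
        have hs := (D.meet_b W hW hne).resolve_left (D.ne_M_of_K_le h hB hKW)
        exact D.R_inf_eq_bot h hs (hVN W hs hKW)) hz hz1 hfix hy hyz
  obtain ⟨e, he, he1, hea⟩ := D.exists_fix h hB (D.delta_a h)
  have heb := (D.side_a h hB he he1 hea).2
  have hoth : ∀ z ∈ B, z ∉ zpowers e → R ⊓ centralizer {z} = ⊥ := fun z hz hze => by
    by_contra hfix
    have hz1 : z ≠ 1 := fun e' => hze (e' ▸ one_mem _)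
    refine claim z hz hz1 hfix e he (fun hm => hze ?_) heb
    exact h.zpowers_eq_of_mem (hB.le hz) hz1 he1 hm ▸ mem_zpowers z
  have hRe : R ≤ centralizer {e} := h.le_fix_of_others hB.le hB.idx he he1 hRm hoth
  have h1 := (D.le_b Q hQ).trans (h.centralizes_single hQ (hB.le he)
    ((hVN Q hQ hKQ).trans (h.centralizes_single D.single (hB.le he) hRe)))
  rw [inf_eq_left.2 h1] at heb
  exact (D.delta_b h).2 heb

/-- With `a` odd a single-core member at `b` above the line contains the core of `N`. -/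
theorem exists_R_le (ha2 : a ≠ 2) :
    ∃ Q, Single p A θ b Q ∧ Cfsg.signalizerInf B θ ≤ Q ∧ oc a N ≤ Q := by
  haveI := Fact.mk D.pi.ha.1
  haveI := Fact.mk D.pi.hb.1
  set R := oc a N
  have hRm : Mem p A θ R := h.oc_mem D.single.cc a
  have hAR := h.A_le_normalizer hRm
  obtain ⟨e, he, he1, hea⟩ := D.exists_fix h hB (D.delta_a h)
  have heb := (D.side_a h hB he he1 hea).2
  by_contra hcon
  -- every element without fixed points on `oc b M` centralizes `N`
  have hcent : ∀ z ∈ B, oc b M ⊓ centralizer {z} = ⊥ → N ≤ centralizer {z} := by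
    intro z hz hzb
    have hzA : z ∈ A := hB.le hz
    refine h.centralizes_single D.single hzA
      (commutator_zpowers_eq_bot_iff.1 (by_contra fun hU => hcon ?_))
    have hKn : Cfsg.signalizerInf B θ ≤ normalizer ((⁅R, zpowers z⁆ : Subgroup G) : Set G) :=
      le_normalizer_commutator ((D.K_le_N h hB).trans (le_normalizer_oc a N))
        (D.line_zpowers_normalizer h hB huniq (D.K_le_centralizer h hB hz))
    obtain ⟨Q', hQ', hmax⟩ := D.exists_Q_of_normalizes h
      (h.mem_of_le hRm (le_normalizer_iff_commutator_le_left.1 (h.zpowers_normalizes hzA hAR))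
        (le_normalizer_commutator hAR (h.A_le_normalizer_zpowers hzA))) hU
      (le_normalizer_commutator (D.single.cc.2.1.trans (le_normalizer_oc a N))
        (D.line_zpowers_normalizer h hB huniq (h.C_le_centralizer_singleton hzA)))
      ((D.commutator_le h hB huniq hRm (isPGroup_oc a N) hz).trans
        (odd_commutator_centralizes ha2 (D.a_ne_p h) (D.b_ne_p h) D.pi.ne (h.elem.2 z hzA)
          ((isPGroup_oc a N).to_le inf_le_left) (isPGroup_oc b M)
          (le_normalizer_inf hAR (h.A_le_normalizer D.mcc.1) hzA)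
          (h.A_le_normalizer (h.oc_mem D.mcc b) hzA)
          (inf_le_right.trans (le_normalizer_oc b M)) hzb))
      (D.K_mem h hB) hKn hB.nle
    exact ⟨Q', hQ', hmax _ (D.K_mem h hB) hKn, hmax R hRm (normalizer_commutator_ge_left _ _)⟩
  have hNe := hcent e he heb
  obtain ⟨Q, hQ, hKQ⟩ := D.exists_Q h hB
  set V := oc b Q
  have hVm : Mem p A θ V := h.oc_mem hQ.cc b
  have heA : e ∈ A := hB.le he
  have hU : ⁅V, zpowers e⁆ ≠ ⊥ := fun h0 => by
    have h1 := (D.le_b Q hQ).trans
      (h.centralizes_single hQ heA (commutator_zpowers_eq_bot_iff.1 h0))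
    rw [inf_eq_left.2 h1] at heb
    exact (D.delta_b h).2 heb
  refine hU (commutator_zpowers_eq_bot_iff.2 (le_trans ?_ hNe))
  exact D.le_N_of_normalizes h
    (h.mem_of_le hVm (le_normalizer_iff_commutator_le_left.1
        (h.zpowers_normalizes heA (h.A_le_normalizer hVm)))
      (le_normalizer_commutator (h.A_le_normalizer hVm) (h.A_le_normalizer_zpowers heA))) hU
    (le_normalizer_commutator (hQ.cc.2.1.trans (le_normalizer_oc b Q))
      (D.line_zpowers_normalizer h hB huniq (h.C_le_centralizer_singleton heA)))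
    ((D.commutator_le h hB huniq hVm (isPGroup_oc b Q) he).trans
      (commutator_le_centralizer_of_mem (inf_le_right.trans (le_normalizer_oc a M))
        ((D.Ta_le h).trans hNe)))
    (D.K_mem h hB)
    (le_normalizer_commutator (hKQ.trans (le_normalizer_oc b Q))
      (D.line_zpowers_normalizer h hB huniq (D.K_le_centralizer h hB he)))
    hB.nle V hVm (normalizer_commutator_ge_left _ _)

/-- The case `a` odd is impossible. -/
theorem false_of_a_odd (ha2 : a ≠ 2) : False := by
  haveI := Fact.mk D.pi.ha.1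
  haveI := Fact.mk D.pi.hb.1
  obtain ⟨Q, hQ, hKQ, hRQ⟩ := D.exists_R_le h hB huniq ha2
  set V := oc b Q
  set R := oc a N
  have hVm : Mem p A θ V := h.oc_mem hQ.cc b
  have hVN : V ⊓ N = ⊥ := by
    have hc : V ⊓ N ≤ centralizer (R : Set G) :=
      commute_of_coprime (inf_le_right.trans (le_normalizer_oc a N))
        (le_normalizer_inf (hRQ.trans (le_normalizer_oc b Q)) ((CfsgLib.SFT.oc_le a N).trans le_normalizer))
        (coprime_of_pgroup_ne D.pi.ne.symm ((isPGroup_oc b Q).to_le inf_le_left) (isPGroup_oc a N))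
    exact eq_bot_of_pgroup_ne D.pi.ne.symm ((isPGroup_oc b Q).to_le inf_le_left)
      ((isPGroup_oc a N).to_le ((le_inf inf_le_right hc).trans (D.single.inf_centralizer_oc_le h)))
  have hV0 : V ⊓ centralizer (B : Set G) = ⊥ := le_bot_iff.1
    ((le_inf inf_le_left ((D.fix_le_K h hB hVm).trans (D.K_le_N h hB))).trans hVN.le)
  have hVM : V ≤ M := D.le_of_line h hB huniq hVm inf_le_right (hV0.le.trans bot_le)
  have claim : ∀ z ∈ B, z ≠ 1 → V ⊓ centralizer {z} ≠ ⊥ → ∀ y ∈ B, y ∉ zpowers z →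
      oc a M ⊓ centralizer {y} ≠ ⊥ := fun z hz hz1 hfix y hy hyz =>
    D.fix_of_excl h hB huniq D.pi.ne.symm (D.b_ne_p h) (D.delta_a h) hVm (isPGroup_oc b Q) hVM
      (hQ.cc.2.1.trans (le_normalizer_oc b Q)) (hKQ.trans (le_normalizer_oc b Q))
      hV0 (fun W hW hKW hne => by
        rw [(D.meet_a W hW hne).resolve_left (D.ne_M_of_K_le h hB hKW)]
        exact hVN) hz hz1 hfix hy hyz
  obtain ⟨f, hf, hf1, hfb⟩ := D.exists_fix h hB (D.delta_b h)
  have hfa := (D.side_b h hB hf hf1 hfb).2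
  have hoth : ∀ z ∈ B, z ∉ zpowers f → V ⊓ centralizer {z} = ⊥ := fun z hz hzf => by
    by_contra hfix
    have hz1 : z ≠ 1 := fun e' => hzf (e' ▸ one_mem _)
    refine claim z hz hz1 hfix f hf (fun hm => hzf ?_) hfa
    exact h.zpowers_eq_of_mem (hB.le hz) hz1 hf1 hm ▸ mem_zpowers z
  have hVf : V ≤ centralizer {f} := h.le_fix_of_others hB.le hB.idx hf hf1 hVm hoth
  have h1 := (D.Ta_le h).trans (h.centralizes_single D.single (hB.le hf)
    (hRQ.trans (h.centralizes_single hQ (hB.le hf) hVf)))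
  rw [inf_eq_left.2 h1] at hfa
  exact (D.delta_a h).2 hfa

end Duo

/-- There is a star. -/
theorem MinCex.exists_star (h : MinCex p A θ) : ∃ M, IsStar p A θ M := by
  by_contra hns
  push Not at hns
  obtain ⟨a, b, M, N, D, hcase⟩ := h.exists_duo hns
  obtain ⟨B, hB⟩ := D.exists_bad h
  have huniq : ∀ B', BadLine p A θ M B' → B' = B := by
    intro B' hB'
    rcases hcase with hPb | ⟨N', D'⟩
    · exact D.unique_of_Pc_le h hPb hB' hB
    · exact D.unique_of_mirror h D' hB' hB
  by_cases hb2 : b = 2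
  · exact D.false_of_a_odd h hB huniq fun ha2 => D.pi.ne (ha2.trans hb2.symm)
  · exact D.false_of_b_odd h hB huniq hb2

end CfsgLib.SFT
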