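import Cfsg.Agent.SFT.TwoBase

/-!
Two primes without a star: the lines whose value is not in the member with two cores, and the
uniqueness of such a line.
-/

set_option autoImplicit false
set_option linter.unusedSectionVars false
set_option linter.style.haveILetI false
set_option linter.deprecated false

namespace CfsgLib.SFT

open Subgroup Pointwise CfsgLib.SZ
open scoped commutatorElement

universe u

variable {G : Type u} [Group G] [Finite G] {p : ℕ} [Fact p.Prime] {A : Subgroup G}
  {θ : G → Subgroup G}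

local notation "C" => Cfsg.signalizerInf A θ

/-- A hyperplane whose value is not contained in `M`. -/
structure BadLine (p : ℕ) (A : Subgroup G) (θ : G → Subgroup G) (M B : Subgroup G) : Prop where
  le : B ≤ A
  idx : B.relIndex A ≤ p
  nle : ¬ Cfsg.signalizerInf B θ ≤ M

theorem mem_centralizer_of_le_singleton {X : Subgroup G} {a : G} (h : X ≤ centralizer {a}) :
    a ∈ centralizer (X : Set G) :=
  mem_centralizer_iff.2 fun _ hx => mem_centralizer_singleton_iff.1 (h hx)

theorem le_singleton_of_mem_centralizer {X : Subgroup G} {a : G}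
    (h : a ∈ centralizer (X : Set G)) : X ≤ centralizer {a} := fun x hx =>
  mem_centralizer_singleton_iff.2 (mem_centralizer_iff.1 h x hx)

theorem commutator_zpowers_eq_bot_iff {X : Subgroup G} {a : G} :
    ⁅X, zpowers a⁆ = ⊥ ↔ X ≤ centralizer {a} := by
  rw [commutator_eq_bot_iff_le_centralizer]
  constructor
  · exact fun h => h.trans (centralizer_le (by simp))
  · exact fun h => h.trans (centralizer_singleton_le_zpowers a)

/-- Commutators with an element centralizing a normalized subgroup centralize it. -/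
theorem commutator_le_centralizer_of_mem {X Y : Subgroup G} {a : G}
    (hX : X ≤ normalizer (Y : Set G)) (ha : Y ≤ centralizer {a}) :
    ⁅X, zpowers a⁆ ≤ centralizer (Y : Set G) := by
  rw [commutator_le]
  intro x hx b hb
  have hb' : b ∈ centralizer (Y : Set G) :=
    zpowers_le.2 (mem_centralizer_of_le_singleton ha) hb
  rw [commutatorElement_def]
  exact mul_mem (conj_mem (le_normalizer_centralizer hX) hx hb') (inv_mem hb')

namespace MinCex

variable (h : MinCex p A θ)
include h

theorem sq_le_card {B : Subgroup G} (hB : B ≤ A) (hi : B.relIndex A ≤ p) :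
    p ^ 2 ≤ Nat.card B := by
  have h1 := relIndex_mul_relIndex ⊥ B A bot_le hB
  rw [relIndex_bot_left, relIndex_bot_left, h.card] at h1
  have h2 : p ^ 2 * p ≤ Nat.card B * p := by
    rw [← pow_succ, ← h1]
    exact Nat.mul_le_mul_left _ hi
  exact Nat.le_of_mul_le_mul_right h2 h.prime.pos

theorem card_le_sq {B : Subgroup G} (hB : B ≤ A) (hne : B ≠ A) : Nat.card B ≤ p ^ 2 := by
  obtain ⟨k, hk⟩ := IsPGroup.iff_card.1
    (CfsgLib.Signalizer.isPGroup (CfsgLib.Signalizer.of_le h.elem hB))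
  have h1 : Nat.card B < Nat.card A :=
    CfsgLib.Solvable.card_lt_of_lt (lt_of_le_of_ne hB hne)
  rw [hk, h.card, Nat.pow_lt_pow_iff_right h.prime.one_lt] at h1
  exact hk ▸ Nat.pow_le_pow_right h.prime.pos (by omega)

theorem line_ne_bot {B : Subgroup G} (hB : B ≤ A) (hi : B.relIndex A ≤ p) : B ≠ ⊥ := by
  intro e
  have h1 := h.sq_le_card hB hi
  rw [e, Subgroup.card_bot] at h1
  exact (one_lt_pow₀ h.prime.one_lt two_ne_zero).not_ge h1

theorem A_le_normalizer_zpowers {a : G} (ha : a ∈ A) : A ≤ normalizer (zpowers a : Set G) :=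
  ((CfsgLib.Signalizer.le_centralizer_singleton h.elem ha).trans
    (centralizer_singleton_le_zpowers a)).trans (centralizer_le_normalizer _)

theorem A_le_normalizer_fix {X : Subgroup G} (hX : A ≤ normalizer (X : Set G)) {a : G}
    (ha : a ∈ A) : A ≤ normalizer ((X ⊓ centralizer {a} : Subgroup G) : Set G) :=
  h.le_normalizer_inf_centralizer hX ha

theorem zpowers_eq_of_mem {x z : G} (hz : z ∈ A) (hz1 : z ≠ 1) (hx1 : x ≠ 1)
    (hx : x ∈ zpowers z) : zpowers x = zpowers z :=
  CfsgLib.Solvable.eq_of_le_of_card_le (zpowers_le.2 hx) (by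
    rw [CfsgLib.Signalizer.card_zpowers_eq h.elem hz hz1,
      CfsgLib.Signalizer.card_zpowers_eq h.elem (zpowers_le.2 hz hx) hx1])

theorem fix_eq_of_mem_zpowers {x z : G} (hz : z ∈ A) (hz1 : z ≠ 1) (hx1 : x ≠ 1)
    (hx : x ∈ zpowers z) : centralizer ({x} : Set G) = centralizer {z} := by
  have e := h.zpowers_eq_of_mem hz hz1 hx1 hx
  refine le_antisymm ?_ ?_
  · have h1 : centralizer ({x} : Set G) ≤ centralizer (zpowers z : Set G) :=
      e ▸ centralizer_singleton_le_zpowers x
    exact h1.trans (centralizer_le (by simp))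
  · have h1 : centralizer ({z} : Set G) ≤ centralizer (zpowers x : Set G) :=
      e.symm ▸ centralizer_singleton_le_zpowers z
    exact h1.trans (centralizer_le (by simp))

/-- Two independent elements of a hyperplane generate it. -/
theorem inf_fix_le {B : Subgroup G} (hB : B ≤ A) (hne : B ≠ A) {y z : G} (hy : y ∈ B)
    (hz : z ∈ B) (hz1 : z ≠ 1) (hyz : y ∉ zpowers z) (X : Subgroup G) :
    X ⊓ centralizer {y} ⊓ centralizer {z} ≤ X ⊓ centralizer (B : Set G) := by
  have hgen : zpowers y ⊔ zpowers z = B := by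
    refine CfsgLib.Solvable.eq_of_le_of_card_le (sup_le (zpowers_le.2 hy) (zpowers_le.2 hz)) ?_
    rw [CfsgLib.Signalizer.card_sup_zpowers h.elem (zpowers_le.2 (hB hz)) (hB hy) hyz,
      CfsgLib.Signalizer.card_zpowers_eq h.elem (hB hz) hz1, ← sq]
    exact h.card_le_sq hB hne
  intro x hx
  refine ⟨hx.1.1, le_centralizer_symm (X := B) (Y := zpowers x) ?_ (mem_zpowers x)⟩
  rw [← hgen]
  exact sup_le (le_centralizer_symm (zpowers_le.2 (centralizer_singleton_le_zpowers y hx.1.2)))
    (le_centralizer_symm (zpowers_le.2 (centralizer_singleton_le_zpowers z hx.2)))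

/-- Generation over a hyperplane, relative to one of its cyclic subgroups. -/
theorem le_fix_of_others {B : Subgroup G} (hB : B ≤ A) (hi : B.relIndex A ≤ p) {z : G}
    (hz : z ∈ B) (hz1 : z ≠ 1) {X : Subgroup G} (hX : Mem p A θ X)
    (hoth : ∀ y ∈ B, y ∉ zpowers z → X ⊓ centralizer {y} = ⊥) : X ≤ centralizer {z} := by
  refine h.le_of_forall hB (h.sq_le_card hB hi) hX fun y hy hy1 => ?_
  by_cases hyz : y ∈ zpowers z
  · rw [← h.fix_eq_of_mem_zpowers (hB hz) hz1 hy1 hyz]; exact inf_le_right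
  · rw [hoth y hy hyz]; exact bot_le

end MinCex

namespace Duo

variable (h : MinCex p A θ) {a b : ℕ} {M N : Subgroup G} (D : Duo p A θ a b M N)
include h D

theorem delta_a : Delta M a := D.pi.delta_of_multi h D.mcc D.multi

theorem delta_b : Delta M b := D.pi.symm.delta_of_multi h D.mcc D.multi

theorem a_ne_p : a ≠ p := h.delta_ne_p D.mcc (D.delta_a h)

theorem b_ne_p : b ≠ p := h.delta_ne_p D.mcc (D.delta_b h)

theorem ne_M {X : Subgroup G} {r : ℕ} (hX : Single p A θ r X) : X ≠ M := fun e =>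
  h.not_multi hX (e ▸ D.multi)

theorem Ta_le : oc a M ≤ N :=
  haveI := Fact.mk D.pi.ha.1
  (h.oc_le_Pc D.mcc a).trans (D.nr.Pc_le h)

theorem not_single_both {X : Subgroup G} (ha : Single p A θ a X) (hb : Single p A θ b X) : False := by
  haveI := Fact.mk D.pi.ha.1
  exact ha.oc_ne_bot h (hb.other a D.pi.ha.1 D.pi.ne)

theorem Tb_inf : oc b M ⊓ N = ⊥ := by_contra fun hne => by
  rcases D.meet_b N D.single.cc hne with e | hs
  · exact D.ne_M h D.single e
  · exact D.not_single_both h D.single hs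

theorem Ta_inf {Q : Subgroup G} (hQ : Single p A θ b Q) : oc a M ⊓ Q = ⊥ := by_contra fun hne => by
  rcases D.meet_a Q hQ.cc hne with e | e
  · exact D.ne_M h hQ e
  · exact D.not_single_both h D.single (e ▸ hQ)

section Line

variable {B : Subgroup G} (hB : BadLine p A θ M B)
include hB

theorem ne_A : B ≠ A := fun e => hB.nle (e ▸ D.mcc.2.1)

theorem K_le_centralizer {z : G} (hz : z ∈ B) :
    Cfsg.signalizerInf B θ ≤ centralizer {z} :=
  (CfsgLib.Signalizer.signalizerInf_le_centralizer h.solv hB.le).trans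
    (centralizer_le (by simpa using hz))

theorem K_mem : Mem p A θ (Cfsg.signalizerInf B θ) :=
  CfsgLib.Signalizer.signalizerInf_mem h.solv hB.le (h.line_ne_bot hB.le hB.idx)

theorem C_le_K : C ≤ Cfsg.signalizerInf B θ :=
  CfsgLib.Signalizer.le_signalizerInf fun _ hx hx1 =>
    CfsgLib.Signalizer.signalizerInf_le (hB.le hx) hx1

theorem fix_le_K {X : Subgroup G} (hX : Mem p A θ X) :
    X ⊓ centralizer (B : Set G) ≤ Cfsg.signalizerInf B θ :=
  CfsgLib.Signalizer.inf_centralizer_le_signalizerInf hX hB.le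

theorem ne_M_of_K_le {X : Subgroup G} (hX : Cfsg.signalizerInf B θ ≤ X) : X ≠ M := fun e =>
  hB.nle (e ▸ hX)

theorem side_a {z : G} (hz : z ∈ B) (hz1 : z ≠ 1) (hfix : oc a M ⊓ centralizer {z} ≠ ⊥) :
    θ z ≤ N ∧ oc b M ⊓ centralizer {z} = ⊥ := by
  obtain ⟨X, hX, hle⟩ := h.exists_cc_theta (hB.le hz) hz1
  have hXN : X = N := (D.meet_a X hX fun e => hfix (le_bot_iff.1 ((le_inf inf_le_left
    ((h.inf_centralizer_le_theta (h.oc_mem D.mcc a) (hB.le hz) hz1).trans hle)).trans e.le))).resolve_left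
      (D.ne_M_of_K_le h hB ((CfsgLib.Signalizer.signalizerInf_le hz hz1).trans hle))
  rw [hXN] at hle
  exact ⟨hle, le_bot_iff.1 ((le_inf inf_le_left
    ((h.inf_centralizer_le_theta (h.oc_mem D.mcc b) (hB.le hz) hz1).trans hle)).trans
      (D.Tb_inf h).le)⟩

theorem side_b {z : G} (hz : z ∈ B) (hz1 : z ≠ 1) (hfix : oc b M ⊓ centralizer {z} ≠ ⊥) :
    (∃ Q, Single p A θ b Q ∧ θ z ≤ Q) ∧ oc a M ⊓ centralizer {z} = ⊥ := by
  obtain ⟨X, hX, hle⟩ := h.exists_cc_theta (hB.le hz) hz1
  have hs : Single p A θ b X := (D.meet_b X hX fun e => hfix (le_bot_iff.1 ((le_inf inf_le_left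
    ((h.inf_centralizer_le_theta (h.oc_mem D.mcc b) (hB.le hz) hz1).trans hle)).trans e.le))).resolve_left
      (D.ne_M_of_K_le h hB ((CfsgLib.Signalizer.signalizerInf_le hz hz1).trans hle))
  exact ⟨⟨X, hs, hle⟩, le_bot_iff.1 ((le_inf inf_le_left
    ((h.inf_centralizer_le_theta (h.oc_mem D.mcc a) (hB.le hz) hz1).trans hle)).trans
      (D.Ta_inf h hs).le)⟩

theorem exists_fix {t : ℕ} (ht : Delta M t) :
    ∃ z ∈ B, z ≠ 1 ∧ oc t M ⊓ centralizer {z} ≠ ⊥ := by
  by_contra hc
  push Not at hc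
  exact ht.2 (le_bot_iff.1 (h.le_of_forall hB.le (h.sq_le_card hB.le hB.idx) (h.oc_mem D.mcc t)
    fun z hz hz1 => (hc z hz hz1).le))

theorem K_le_N : Cfsg.signalizerInf B θ ≤ N := by
  obtain ⟨z, hz, hz1, hf⟩ := D.exists_fix h hB (D.delta_a h)
  exact (CfsgLib.Signalizer.signalizerInf_le hz hz1).trans (D.side_a h hB hz hz1 hf).1

theorem exists_Q : ∃ Q, Single p A θ b Q ∧ Cfsg.signalizerInf B θ ≤ Q := by
  obtain ⟨z, hz, hz1, hf⟩ := D.exists_fix h hB (D.delta_b h)
  obtain ⟨⟨Q, hQ, hle⟩, -⟩ := D.side_b h hB hz hz1 hf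
  exact ⟨Q, hQ, (CfsgLib.Signalizer.signalizerInf_le hz hz1).trans hle⟩

end Line

theorem exists_bad : ∃ B, BadLine p A θ M B := by
  by_contra hc
  refine h.notComplete ⟨M, D.mcc.1, fun x hx hx1 => ?_⟩
  refine CfsgLib.Signalizer.le_of_forall_hyperplane h.elem
    (h.A_le_normalizer (h.theta_mem hx hx1)) (h.theta_mem hx hx1).2.1 fun B hB hi => ?_
  refine (CfsgLib.Signalizer.inf_centralizer_le_signalizerInf (h.theta_mem hx hx1) hB).trans ?_
  exact by_contra fun hn => hc ⟨B, hB, hi, hn⟩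

/-- An invariant subgroup with fixed points of all good lines in `M` is generated by those of the
bad lines and its intersection with `M`. -/
theorem le_of_bad {X Y : Subgroup G} (hX : Mem p A θ X) (hXM : X ⊓ M ≤ Y)
    (hbad : ∀ B, BadLine p A θ M B → X ⊓ centralizer (B : Set G) ≤ Y) : X ≤ Y := by
  refine CfsgLib.Signalizer.le_of_forall_hyperplane h.elem (h.A_le_normalizer hX) hX.2.1
    fun B hB hi => ?_
  by_cases hb : Cfsg.signalizerInf B θ ≤ M
  · exact (le_inf inf_le_left
      ((CfsgLib.Signalizer.inf_centralizer_le_signalizerInf hX hB).trans hb)).trans hXM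
  · exact hbad B ⟨hB, hi, hb⟩

/-- `Ω₁(Z(P_a))` centralizes the `a`-core of `M` and lies in `M`. -/
theorem elZ_le_M : elZ a (Pc p A θ a) ≤ M ∧
    elZ a (Pc p A θ a) ≤ centralizer (oc a M : Set G) := by
  haveI := Fact.mk D.pi.ha.1
  have hc : elZ a (Pc p A θ a) ≤ centralizer (oc a M : Set G) :=
    (elZ_le_centralizer a _).trans (centralizer_le (SetLike.coe_subset_coe.2 (h.oc_le_Pc D.mcc a)))
  exact ⟨h.le_cc_oc D.mcc (D.delta_a h).2 (h.elZ_Pc_mem a)
    (hc.trans (centralizer_le_normalizer _)), hc⟩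

/-- A member normalizing a nontrivial member `U` that commutes with `oc a M`, and not inside `M`,
puts all members normalizing `U` into `N`. -/
theorem le_N_of_normalizes {U Z : Subgroup G} (hU : Mem p A θ U) (hU1 : U ≠ ⊥)
    (hCU : C ≤ normalizer (U : Set G)) (hTa : U ≤ centralizer (oc a M : Set G))
    (hZ : Mem p A θ Z) (hZU : Z ≤ normalizer (U : Set G)) (hZM : ¬ Z ≤ M) :
    ∀ Y, Mem p A θ Y → Y ≤ normalizer (U : Set G) → Y ≤ N := by
  obtain ⟨W, hW, hmax⟩ := h.exists_cc_normalizer hU hU1 hCU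
  have hTW : oc a M ≤ W := hmax _ (h.oc_mem D.mcc a)
    ((le_centralizer_symm hTa).trans (centralizer_le_normalizer _))
  have hWN : W = N := (D.meet_a W hW (by
    rw [inf_eq_left.2 hTW]; exact (D.delta_a h).2)).resolve_left
      fun e => hZM (e ▸ hmax Z hZ hZU)
  exact fun Y hY hYn => hWN ▸ hmax Y hY hYn

/-- The mirrored statement, with a single-core member at `b`. -/
theorem exists_Q_of_normalizes {U Z : Subgroup G} (hU : Mem p A θ U) (hU1 : U ≠ ⊥)
    (hCU : C ≤ normalizer (U : Set G)) (hTb : U ≤ centralizer (oc b M : Set G))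
    (hZ : Mem p A θ Z) (hZU : Z ≤ normalizer (U : Set G)) (hZM : ¬ Z ≤ M) :
    ∃ Q, Single p A θ b Q ∧ ∀ Y, Mem p A θ Y → Y ≤ normalizer (U : Set G) → Y ≤ Q := by
  obtain ⟨W, hW, hmax⟩ := h.exists_cc_normalizer hU hU1 hCU
  have hTW : oc b M ≤ W := hmax _ (h.oc_mem D.mcc b)
    ((le_centralizer_symm hTb).trans (centralizer_le_normalizer _))
  exact ⟨W, (D.meet_b W hW (by
    rw [inf_eq_left.2 hTW]; exact (D.delta_b h).2)).resolve_left
      fun e => hZM (e ▸ hmax Z hZ hZU), hmax⟩

/-- If the core of a single-core member at `b` lies in `N`, the `a`-core of `N` meets it trivially. -/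
theorem R_inf_eq_bot {Q : Subgroup G} (hQ : Single p A θ b Q) (hV : oc b Q ≤ N) :
    oc a N ⊓ Q = ⊥ := by
  haveI := Fact.mk D.pi.ha.1
  haveI := Fact.mk D.pi.hb.1
  have hc : oc a N ⊓ Q ≤ centralizer (oc b Q : Set G) :=
    commute_of_coprime (inf_le_right.trans (le_normalizer_oc b Q))
      (le_normalizer_inf (hV.trans (le_normalizer_oc a N)) ((CfsgLib.SFT.oc_le b Q).trans le_normalizer))
      (coprime_of_pgroup_ne D.pi.ne ((isPGroup_oc a N).to_le inf_le_left) (isPGroup_oc b Q))
  exact eq_bot_of_pgroup_ne D.pi.ne ((isPGroup_oc a N).to_le inf_le_left)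
    ((isPGroup_oc b Q).to_le ((le_inf inf_le_right hc).trans (hQ.inf_centralizer_oc_le h)))

/-- `Ω₁(Z(P_a))` is not centralized by `A`. -/
theorem not_elZ_le_C : ¬ elZ a (Pc p A θ a) ≤ C := by
  intro hEC
  haveI := Fact.mk D.pi.ha.1
  haveI := Fact.mk D.pi.hb.1
  set E := elZ a (Pc p A θ a)
  obtain ⟨hEM, hETa⟩ := D.elZ_le_M h
  have hEm := h.elZ_Pc_mem a
  have hEp : IsPGroup a E := (h.isPGroup_Pc a).to_le (elZ_le a _)
  have hER : E ≤ oc a N := by
    refine le_trans (le_inf (hEC.trans D.single.cc.2.1) ?_) (D.single.inf_centralizer_oc_le h)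
    exact (elZ_le_centralizer a _).trans
      (centralizer_le (SetLike.coe_subset_coe.2 (h.oc_le_Pc D.single.cc a)))
  have main : ∀ Q, Single p A θ b Q → Pc p A θ a ⊓ Q ≤ M := by
    intro Q hQ
    set R := oc b Q
    have hRp := isPGroup_oc b Q
    have hRQ : R ≤ Q := CfsgLib.SFT.oc_le b Q
    have hRm : Mem p A θ R := h.oc_mem hQ.cc b
    have hAR : A ≤ normalizer (R : Set G) := h.A_le_normalizer hRm
    have hEQ : E ≤ Q := hEC.trans hQ.cc.2.1
    have hEn : E ≤ normalizer (R : Set G) := hEQ.trans (le_normalizer_oc b Q)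
    -- `E` centralizes `R ⊓ N`
    have hRN : R ⊓ N ≤ centralizer (E : Set G) := by
      refine le_trans (commute_of_coprime (Y := oc a N ⊓ Q) ?_ ?_ ?_)
        (centralizer_le (SetLike.coe_subset_coe.2 (le_inf hER hEQ)))
      · exact le_normalizer_inf (inf_le_right.trans (le_normalizer_oc a N))
          ((inf_le_left.trans hRQ).trans le_normalizer)
      · exact le_normalizer_inf (inf_le_right.trans (le_normalizer_oc b Q))
          ((inf_le_left.trans (CfsgLib.SFT.oc_le a N)).trans le_normalizer)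
      · exact coprime_of_pgroup_ne D.pi.ne.symm (hRp.to_le inf_le_left)
          ((isPGroup_oc a N).to_le inf_le_left)
    have hRfix : ∀ B, BadLine p A θ M B →
        R ⊓ centralizer (B : Set G) ≤ centralizer (E : Set G) := fun B hB =>
      (le_inf inf_le_left ((D.fix_le_K h hB hRm).trans (D.K_le_N h hB))).trans hRN
    have hRM : R ≤ M := by
      by_contra hne
      set K := R ⊓ M
      have hAK : A ≤ normalizer (K : Set G) :=
        le_normalizer_inf hAR (h.A_le_normalizer D.mcc.1)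
      have hEK : E ≤ normalizer (K : Set G) := le_normalizer_inf hEn (hEM.trans le_normalizer)
      have hCK : C ≤ normalizer (K : Set G) :=
        le_normalizer_inf (hQ.cc.2.1.trans (le_normalizer_oc b Q)) (D.mcc.2.1.trans le_normalizer)
      have hKm : Mem p A θ K := h.mem_of_le hRm inf_le_left hAK
      set D₀ := R ⊓ normalizer (K : Set G)
      have hAD : A ≤ normalizer (D₀ : Set G) := le_normalizer_inf hAR (hAK.trans le_normalizer)
      have hD₀m : Mem p A θ D₀ := h.mem_of_le hRm inf_le_left hAD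
      obtain ⟨x, hxR, hxK, hxn⟩ := exists_normalizing (N := ⊥) bot_le
        (lt_of_le_of_ne inf_le_left fun e => hne (inf_eq_left.1 e) : K < R)
        (fun g _ => mem_normalizer_of_conj fun z hz => by rw [mem_bot.1 hz]; simp)
        (RMod.of_pgroup hRp _)
      set D₁ := D₀ ⊓ centralizer (E : Set G)
      have hD₁m : Mem p A θ D₁ := h.mem_of_le hD₀m inf_le_left
        (le_normalizer_inf hAD
          (le_normalizer_centralizer (le_normalizer_elZ a (h.A_le_normalizer (h.Pc_mem a)))))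
      have hD₁M : ¬ D₁ ≤ M := fun hle => hxK ⟨hxR, by
        have : D₀ ≤ M := D.le_of_bad h hD₀m inf_le_right fun B hB =>
          (le_inf inf_le_left ((inf_le_inf_right _ inf_le_left).trans (hRfix B hB))).trans hle
        exact this ⟨hxR, hxn⟩⟩
      have hKE : K ≤ centralizer (E : Set G) := by
        rw [← commutator_eq_bot_iff_le_centralizer]
        by_contra hU
        have hUK : ⁅K, E⁆ ≤ K := le_normalizer_iff_commutator_le_left.1 hEK
        have hUTa : ⁅K, E⁆ ≤ centralizer (oc a M : Set G) := by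
          rw [commutator_le]
          intro k hk e he
          have hn := le_normalizer_centralizer (le_normalizer_oc a M)
          rw [commutatorElement_def]
          exact mul_mem (conj_mem hn (show k ∈ M from hk.2) (hETa he)) (inv_mem (hETa he))
        have hAU : A ≤ normalizer ((⁅K, E⁆ : Subgroup G) : Set G) :=
          le_normalizer_commutator hAK (h.A_le_normalizer hEm)
        have hN := D.le_N_of_normalizes h (h.mem_of_le hKm hUK hAU) hU
          (le_normalizer_commutator hCK (le_normalizer_elZ a (h.C_le_normalizer_Pc a))) hUTa hD₁m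
          (le_normalizer_commutator (inf_le_left.trans inf_le_right)
            (inf_le_right.trans (centralizer_le_normalizer _))) hD₁M
          _ (h.mem_of_le hKm hUK hAU) le_normalizer
        have h0 : ⁅⁅K, E⁆, E⁆ = ⊥ := commutator_eq_bot_iff_le_centralizer.2
          ((le_inf (hUK.trans inf_le_left) hN).trans hRN)
        rw [CfsgLib.CoprimeAct.commutator_commutator hEK
          (coprime_of_pgroup_ne D.pi.ne hEp (hRp.to_le inf_le_left))
          (Or.inr hKm.1)] at h0
        exact hU h0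
      have hDE : D₀ ≤ centralizer (E : Set G) := D.le_of_bad h hD₀m
        ((inf_le_inf_right _ inf_le_left).trans hKE)
        fun B hB => (inf_le_inf_right _ inf_le_left).trans (hRfix B hB)
      have h0 : ⁅R, E⁆ = ⊥ := CfsgLib.CoprimeAct.p_times_q_aux _ b K E R rfl
        (hRp.to_le inf_le_left) (pgroup_coprime_prime D.pi.ne hEp) hRp hKE
        (inf_le_left.trans le_normalizer) hEn
        (le_trans (inf_le_inf_left _ (centralizer_le_normalizer _)) hDE)
      exact elZ_ne_bot (h.isPGroup_Pc a) D.pi.ha.2 (eq_bot_of_pgroup_ne D.pi.ne hEp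
        (hRp.to_le ((le_inf hEQ (le_centralizer_symm
          (commutator_eq_bot_iff_le_centralizer.1 h0))).trans (hQ.inf_centralizer_oc_le h))))
    set U := ⁅R, E⁆
    have hU1 : U ≠ ⊥ := fun h0 => elZ_ne_bot (h.isPGroup_Pc a) D.pi.ha.2
      (eq_bot_of_pgroup_ne D.pi.ne hEp (hRp.to_le ((le_inf hEQ (le_centralizer_symm
        (commutator_eq_bot_iff_le_centralizer.1 h0))).trans (hQ.inf_centralizer_oc_le h))))
    have hUR : U ≤ R := le_normalizer_iff_commutator_le_left.1 hEn
    have hUm : Mem p A θ U :=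
      h.mem_of_le hRm hUR (le_normalizer_commutator hAR (h.A_le_normalizer hEm))
    have hUTa : U ≤ centralizer (oc a M : Set G) := by
      rw [commutator_le]
      intro k hk e he
      have hn := le_normalizer_centralizer (le_normalizer_oc a M)
      rw [commutatorElement_def]
      exact mul_mem (conj_mem hn (hRM hk) (hETa he)) (inv_mem (hETa he))
    have hPQ : A ≤ normalizer ((Pc p A θ a ⊓ Q : Subgroup G) : Set G) :=
      le_normalizer_inf (h.A_le_normalizer (h.Pc_mem a)) (h.A_le_normalizer hQ.cc.1)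
    by_contra hPM
    have hN := D.le_N_of_normalizes h hUm hU1
      (le_normalizer_commutator (hQ.cc.2.1.trans (le_normalizer_oc b Q))
        (le_normalizer_elZ a (h.C_le_normalizer_Pc a))) hUTa
      (h.mem_of_le hQ.cc.1 inf_le_right hPQ)
      (le_normalizer_commutator (inf_le_right.trans (le_normalizer_oc b Q))
        ((inf_le_left.trans le_normalizer).trans (le_normalizer_elZ a le_rfl))) hPM U hUm le_normalizer
    have h0 : ⁅U, E⁆ = ⊥ :=
      commutator_eq_bot_iff_le_centralizer.2 ((le_inf hUR hN).trans hRN)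
    rw [CfsgLib.CoprimeAct.commutator_commutator hEn
      (coprime_of_pgroup_ne D.pi.ne hEp hRp) (Or.inr hRm.1)] at h0
    exact hU1 h0
  refine D.not_le (D.le_of_bad h (h.Pc_mem a) inf_le_right fun B hB => ?_)
  obtain ⟨Q, hQ, hKQ⟩ := D.exists_Q h hB
  exact (le_inf inf_le_left ((D.fix_le_K h hB (h.Pc_mem a)).trans hKQ)).trans (main Q hQ)

/-- An element moving `Ω₁(Z(P_a))` fixes a point of the `b`-core of `M`. -/
theorem fix_b_of_moves {x : G} (hx : x ∈ A)
    (hmv : x ∉ centralizer (elZ a (Pc p A θ a) : Set G)) :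
    oc b M ⊓ centralizer {x} ≠ ⊥ := by
  haveI := Fact.mk D.pi.ha.1
  haveI := Fact.mk D.pi.hb.1
  intro hfix
  set E := elZ a (Pc p A θ a)
  obtain ⟨hEM, -⟩ := D.elZ_le_M h
  have hEm := h.elZ_Pc_mem a
  have hxE : x ∈ normalizer (E : Set G) := h.A_le_normalizer hEm hx
  set U := ⁅E, zpowers x⁆
  have hUE : U ≤ E := le_normalizer_iff_commutator_le_left.1 (zpowers_le.2 hxE)
  have hUTb : U ≤ centralizer (oc b M : Set G) :=
    abelian_commutator_centralizes (D.b_ne_p h) D.pi.ne (D.a_ne_p h)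
      ((elZ_le_centralizer a _).trans (centralizer_le (SetLike.coe_subset_coe.2 (elZ_le a _))))
      ((h.isPGroup_Pc a).to_le (elZ_le a _)) (isPGroup_oc b M) (h.elem.2 x hx) hxE
      (h.A_le_normalizer (h.oc_mem D.mcc b) hx) (hEM.trans (le_normalizer_oc b M)) hfix
  have hU1 : U ≠ ⊥ := fun h0 =>
    hmv (mem_centralizer_of_le_singleton (commutator_zpowers_eq_bot_iff.1 h0))
  have hPn : Pc p A θ a ≤ normalizer (U : Set G) :=
    (le_centralizer_symm (elZ_le_centralizer a _)).trans
      ((centralizer_le (SetLike.coe_subset_coe.2 hUE)).trans (centralizer_le_normalizer _))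
  obtain ⟨Q, hQ, hmax⟩ := D.exists_Q_of_normalizes h
    (h.mem_of_le hEm hUE (le_normalizer_commutator (h.A_le_normalizer hEm)
      (h.A_le_normalizer_zpowers hx))) hU1
    (le_normalizer_commutator (le_normalizer_elZ a (h.C_le_normalizer_Pc a))
      (((h.C_le_centralizer_singleton hx).trans (centralizer_singleton_le_zpowers x)).trans
        (centralizer_le_normalizer _))) hUTb (h.Pc_mem a) hPn D.not_le
  exact (D.delta_a h).2 (by
    rw [← inf_eq_left.2 ((h.oc_le_Pc D.mcc a).trans (hmax _ (h.Pc_mem a) hPn))]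
    exact D.Ta_inf h hQ)

theorem A₁_ne : A ⊓ centralizer (elZ a (Pc p A θ a) : Set G) ≠ A := by
  haveI := Fact.mk D.pi.ha.1
  intro e
  exact D.not_elZ_le_C h ((le_inf le_rfl (le_centralizer_symm (e.ge.trans inf_le_right))).trans
    (h.inf_centralizer_le_C (h.elZ_Pc_mem a)))

/-- On a bad line other than `C_A(Ω₁(Z(P_a)))` one cyclic subgroup centralizes the `a`-core of `M`
and the other elements fix points of the `b`-core. -/
theorem exists_e {B : Subgroup G} (hB : BadLine p A θ M B)
    (hne : B ≠ A ⊓ centralizer (elZ a (Pc p A θ a) : Set G)) :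
    ∃ e ∈ B, e ∈ centralizer (elZ a (Pc p A θ a) : Set G) ∧ e ≠ 1 ∧
      oc a M ≤ centralizer {e} ∧ oc b M ⊓ centralizer {e} = ⊥ ∧
      ∀ x ∈ B, x ∉ zpowers e →
        oc b M ⊓ centralizer {x} ≠ ⊥ ∧ oc a M ⊓ centralizer {x} = ⊥ := by
  set A₁ := A ⊓ centralizer (elZ a (Pc p A θ a) : Set G)
  have hnle : ¬ B ≤ A₁ := fun hle => hne (CfsgLib.Solvable.eq_of_le_of_card_le hle
    ((h.card_le_sq inf_le_left (D.A₁_ne h)).trans (h.sq_le_card hB.le hB.idx)))
  have hout : ∀ x ∈ B, x ∉ A₁ → oc b M ⊓ centralizer {x} ≠ ⊥ :=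
    fun x hx hxn => D.fix_b_of_moves h (hB.le hx) fun hc => hxn ⟨hB.le hx, hc⟩
  obtain ⟨e, he, he1, hfix⟩ := D.exists_fix h hB (D.delta_a h)
  have hfb := (D.side_a h hB he he1 hfix).2
  have heA₁ : e ∈ A₁ := by_contra fun hn => hout e he hn hfb
  have hDe : zpowers e = B ⊓ A₁ :=
    h.card_inf_eq (inf_le_left.trans hB.le)
      (h.card_hyperplane_le hB.le (inf_lt_left.2 hnle) (D.ne_A h hB))
      (zpowers_le.2 ⟨he, heA₁⟩) (zpowers_ne_bot.2 he1)
  have hoth : ∀ x ∈ B, x ∉ zpowers e →
      oc b M ⊓ centralizer {x} ≠ ⊥ ∧ oc a M ⊓ centralizer {x} = ⊥ := by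
    intro x hx hxe
    have h1 := hout x hx fun hx1 => hxe (hDe ▸ ⟨hx, hx1⟩)
    exact ⟨h1, (D.side_b h hB hx (fun e' => hxe (e' ▸ one_mem _)) h1).2⟩
  exact ⟨e, he, heA₁.2, he1, h.le_fix_of_others hB.le hB.idx he he1 (h.oc_mem D.mcc a)
    fun y hy hye => (hoth y hy hye).2, hfb, hoth⟩

/-- When `P_b ≤ M`, an element of a bad line centralizing the `a`-core of `M` puts the cores of the
attached single-core members into `N`. -/
theorem V_le_N (hPb : Pc p A θ b ≤ M) {B : Subgroup G} (hB : BadLine p A θ M B) {e : G}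
    (he : e ∈ B) (hea : oc a M ≤ centralizer {e})
    (heb : oc b M ⊓ centralizer {e} = ⊥) {Q : Subgroup G} (hQ : Single p A θ b Q)
    (hKQ : Cfsg.signalizerInf B θ ≤ Q) :
    oc b Q ≤ N ∧ ⁅oc b Q, zpowers e⁆ ≠ ⊥ := by
  haveI := Fact.mk D.pi.hb.1
  set V := oc b Q
  have hVm : Mem p A θ V := h.oc_mem hQ.cc b
  have hVM : V ≤ M := (h.oc_le_Pc hQ.cc b).trans hPb
  set U := ⁅V, zpowers e⁆
  have hU1 : U ≠ ⊥ := fun h0 => by
    have h1 := (D.le_b Q hQ).trans
      (h.centralizes_single hQ (hB.le he) (commutator_zpowers_eq_bot_iff.1 h0))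
    rw [inf_eq_left.2 h1] at heb
    exact (D.delta_b h).2 heb
  have hUV : U ≤ V := le_normalizer_iff_commutator_le_left.1
    (h.zpowers_normalizes (hB.le he) (h.A_le_normalizer hVm))
  have hzn : ∀ {X : Subgroup G}, X ≤ centralizer {e} → X ≤ normalizer (zpowers e : Set G) :=
    fun hX => hX.trans ((centralizer_singleton_le_zpowers e).trans (centralizer_le_normalizer _))
  refine ⟨D.le_N_of_normalizes h (h.mem_of_le hVm hUV (le_normalizer_commutator
    (h.A_le_normalizer hVm) (h.A_le_normalizer_zpowers (hB.le he)))) hU1 ?_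
    (commutator_le_centralizer_of_mem (hVM.trans (le_normalizer_oc a M)) hea)
    (D.K_mem h hB) ?_ hB.nle V hVm (normalizer_commutator_ge_left _ _), hU1⟩
  · exact le_normalizer_commutator (hQ.cc.2.1.trans (le_normalizer_oc b Q))
      (hzn (h.C_le_centralizer_singleton (hB.le he)))
  · exact le_normalizer_commutator (hKQ.trans (le_normalizer_oc b Q))
      (hzn (D.K_le_centralizer h hB he))

/-- When `P_b ≤ M` there is only one bad line. -/
theorem unique_of_Pc_le (hPb : Pc p A θ b ≤ M) {B B' : Subgroup G} (hB : BadLine p A θ M B)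
    (hB' : BadLine p A θ M B') : B = B' := by
  haveI := Fact.mk D.pi.ha.1
  haveI := Fact.mk D.pi.hb.1
  by_contra hne
  set A₁ := A ⊓ centralizer (elZ a (Pc p A θ a) : Set G)
  wlog hA : B ≠ A₁ generalizing B B' with H
  · exact H hB' hB (Ne.symm hne) fun e => hne ((not_not.1 hA).trans e.symm)
  obtain ⟨e, he, hec, he1, hea, heb, hoth⟩ := D.exists_e h hB hA
  have heA : e ∈ A := hB.le he
  set R := oc a N
  have hRm : Mem p A θ R := h.oc_mem D.single.cc a
  have hzero : ∀ B'', BadLine p A θ M B'' → R ⊓ centralizer (B'' : Set G) = ⊥ := by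
    intro B'' hB''
    obtain ⟨Q, hQ, hKQ⟩ := D.exists_Q h hB''
    have hVN : oc b Q ≤ N := by
      by_cases hA'' : B'' = A₁
      · exact (D.V_le_N h hPb hB'' (by rw [hA'']; exact ⟨heA, hec⟩) hea heb hQ hKQ).1
      · obtain ⟨e', he', -, -, hea', heb', -⟩ := D.exists_e h hB'' hA''
        exact (D.V_le_N h hPb hB'' he' hea' heb' hQ hKQ).1
    exact le_bot_iff.1 ((le_inf inf_le_left ((D.fix_le_K h hB'' hRm).trans hKQ)).trans
      (D.R_inf_eq_bot h hQ hVN).le)
  have hRM : R ≤ M := D.le_of_bad h hRm inf_le_right fun B'' hB'' =>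
    (hzero B'' hB'').le.trans bot_le
  have hRe : R ≤ centralizer {e} := by
    refine h.le_fix_of_others hB.le hB.idx he he1 hRm fun y hy hye => ?_
    by_contra hD
    set D₀ := R ⊓ centralizer {y}
    have hDp : IsPGroup a D₀ := (isPGroup_oc a N).to_le inf_le_left
    have hAD : A ≤ normalizer (D₀ : Set G) :=
      h.A_le_normalizer_fix (h.A_le_normalizer hRm) (hB.le hy)
    set Z := D₀ ⊓ centralizer (D₀ : Set G)
    have hZ1 : Z ≠ ⊥ := inf_centralizer_ne_bot hDp hDp le_normalizer hD
    have hAZ : A ≤ normalizer (Z : Set G) := le_normalizer_inf hAD (le_normalizer_centralizer hAD)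
    have hZe : Z ⊓ centralizer {e} = ⊥ := by
      refine le_bot_iff.1 (le_trans ?_ (hzero B hB).le)
      exact (inf_le_inf_right _ inf_le_left).trans
        (h.inf_fix_le hB.le (D.ne_A h hB) hy he he1 hye R)
    have hZM : Z ≤ M := inf_le_left.trans (inf_le_left.trans hRM)
    have hZp : IsPGroup a Z := hDp.to_le inf_le_left
    have hZb : Z ≤ centralizer (oc b M : Set G) :=
      abelian_fpf_centralizes_pgroup (D.b_ne_p h)
        (inf_le_right.trans (centralizer_le (SetLike.coe_subset_coe.2 inf_le_left)))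
        (isPGroup_oc b M) (h.elem.2 e heA) (hAZ heA)
        (h.A_le_normalizer (h.oc_mem D.mcc b) heA) (hZM.trans (le_normalizer_oc b M)) hZe heb
        (pgroup_coprime_prime D.pi.ne hZp)
    have hZm : Mem p A θ Z := h.mem_of_le hRm (inf_le_left.trans inf_le_left) hAZ
    have hcop : (Nat.card (zpowers e)).Coprime (Nat.card Z) :=
      (h.coprime_A hZm).coprime_dvd_left (card_dvd_of_le (zpowers_le.2 heA))
    have hZa : Z ≤ centralizer (oc a M : Set G) := by
      rw [← CfsgLib.CoprimeAct.commutator_sup_centralizer (A := zpowers e) (K := Z)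
        (h.zpowers_normalizes heA hAZ) hcop (Or.inr hZm.1)]
      exact sup_le (commutator_le_centralizer_of_mem (hZM.trans (le_normalizer_oc a M)) hea)
        (le_trans (inf_le_inf_left _ (centralizer_le (by simp))) (hZe.le.trans bot_le))
    have hZT : Z ≤ oc a M := le_oc_of_centralizes D.mcc.1.1 hZM hZp fun t ht => by
      by_cases h0 : oc t M = ⊥
      · exact centralizer_bot_top _ h0
      rcases D.pi.delta_cases h D.mcc ⟨ht, h0⟩ with rfl | rfl
      · exact hZa
      · exact hZb
    exact hZ1 (le_bot_iff.1 ((le_inf le_rfl (hZT.trans hea)).trans hZe.le))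
  obtain ⟨Q, hQ, hKQ⟩ := D.exists_Q h hB
  obtain ⟨hVN, hU1⟩ := D.V_le_N h hPb hB he hea heb hQ hKQ
  exact hU1 (commutator_zpowers_eq_bot_iff.2 (hVN.trans (h.centralizes_single D.single heA hRe)))

theorem bad_swap {B : Subgroup G} {N' : Subgroup G} (D' : Duo p A θ b a M N')
    (hB : BadLine p A θ M B) :
    B = A ⊓ centralizer (elZ a (Pc p A θ a) : Set G) ∨
      B = A ⊓ centralizer (elZ b (Pc p A θ b) : Set G) := by
  by_contra hne
  push Not at hne
  obtain ⟨e, he, -, he1, hea, heb, hoth⟩ := D.exists_e h hB hne.1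
  obtain ⟨f, hf, -, hf1, hfb, -, hoth'⟩ := D'.exists_e h hB hne.2
  have hfe : f ∉ zpowers e := fun hmem => by
    rw [← h.fix_eq_of_mem_zpowers (hB.le he) he1 hf1 hmem, inf_eq_left.2 hfb] at heb
    exact (D.delta_b h).2 heb
  have h1 : e * f ∉ zpowers e := fun hm => hfe (by
    simpa using mul_mem (inv_mem (mem_zpowers e)) hm)
  have h2 : e * f ∉ zpowers f := fun hm => by
    have he' : e ∈ zpowers f := by simpa using mul_mem hm (inv_mem (mem_zpowers f))
    exact hfe (h.zpowers_eq_of_mem (hB.le hf) hf1 he1 he' ▸ mem_zpowers f)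
  exact (hoth' _ (B.mul_mem he hf) h2).1 ((hoth _ (B.mul_mem he hf) h1).2)

theorem mirror_false {N' : Subgroup G} (D' : Duo p A θ b a M N')
    (hB : BadLine p A θ M (A ⊓ centralizer (elZ a (Pc p A θ a) : Set G)))
    (hB' : BadLine p A θ M (A ⊓ centralizer (elZ b (Pc p A θ b) : Set G)))
    (hne : A ⊓ centralizer (elZ a (Pc p A θ a) : Set G) ≠
      A ⊓ centralizer (elZ b (Pc p A θ b) : Set G)) : False := by
  obtain ⟨e, he, hec, he1, hea, heb, -⟩ := D.exists_e h hB' hne.symm
  obtain ⟨f, hf, hfc, hf1, hfb, -, -⟩ := D'.exists_e h hB hne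
  set A₁ := A ⊓ centralizer (elZ a (Pc p A θ a) : Set G)
  set A₂ := A ⊓ centralizer (elZ b (Pc p A θ b) : Set G)
  have hle : ¬ A₁ ≤ A₂ := fun hle => hne (CfsgLib.Solvable.eq_of_le_of_card_le hle
    ((h.card_le_sq hB'.le (D.ne_A h hB')).trans (h.sq_le_card hB.le hB.idx)))
  have h1 : zpowers e = A₁ ⊓ A₂ :=
    h.card_inf_eq (inf_le_left.trans hB.le)
      (h.card_hyperplane_le hB.le (inf_lt_left.2 hle) (D.ne_A h hB))
      (zpowers_le.2 ⟨⟨hB'.le he, hec⟩, he⟩) (zpowers_ne_bot.2 he1)
  have hfe : f ∈ zpowers e := h1 ▸ ⟨hf, ⟨hB.le hf, hfc⟩⟩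
  rw [← h.fix_eq_of_mem_zpowers (hB'.le he) he1 hf1 hfe, inf_eq_left.2 hfb] at heb
  exact (D.delta_b h).2 heb

/-- With the mirrored setting there is only one bad line. -/
theorem unique_of_mirror {N' : Subgroup G} (D' : Duo p A θ b a M N') {B B' : Subgroup G}
    (hB : BadLine p A θ M B) (hB' : BadLine p A θ M B') : B = B' := by
  by_contra hne
  set A₁ := A ⊓ centralizer (elZ a (Pc p A θ a) : Set G)
  set A₂ := A ⊓ centralizer (elZ b (Pc p A θ b) : Set G)
  rcases D.bad_swap h D' hB with rfl | rfl <;> rcases D.bad_swap h D' hB' with rfl | rfl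
  · exact hne rfl
  · exact absurd hB' (fun hb => D.mirror_false h D' hB hb hne)
  · exact absurd hB' (fun hb => D.mirror_false h D' hb hB (Ne.symm hne))
  · exact hne rfl

end Duo

end CfsgLib.SFT
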